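import Cfsg.Agent.Lib.Spor.ExtraSymThree.LCode
import Cfsg.Agent.Lib.Coprime.Core
import Cfsg.Agent.Lib.Invol.BGroupSylow
import Mathlib.Data.Fintype.Perm
import Mathlib.GroupTheory.Perm.Fin

/-!
# The centralizer from the hypotheses
-/

set_option autoImplicit false
set_option maxRecDepth 100000
set_option linter.unusedSectionVars false

namespace CfsgLib.Spor.ExtraSymThree

open Subgroup

theorem symThree_conj : ∀ a : Equiv.Perm (Fin 3), ¬ a = 1 → a * a * a = 1 → ∀ b : Equiv.Perm (Fin 3),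
    b = 1 ∨ b = a ∨ b = a * a ∨ (b * b = 1 ∧ b * a * b = a * a) := by decide +kernel

theorem symThree_list : ∀ a : Equiv.Perm (Fin 3), ¬ a = 1 → a * a * a = 1 → ∀ b : Equiv.Perm (Fin 3),
    b ∈ [1, a, a * a] ∨ ∀ c : Equiv.Perm (Fin 3), c ∈ [1, a, a * a, b, a * b, a * a * b] := by decide +kernel

theorem symThree_outer : ∀ a : Equiv.Perm (Fin 3), ∃ b : Equiv.Perm (Fin 3), b ≠ 1 ∧ b ≠ a ∧ b ≠ a * a := by
  decide +kernel

/-- The centralizer has one of four models. -/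
theorem exists_lModel {G : Type*} [Group G] [Finite G] {s : G} (hs : orderOf s = 2) (L : Subgroup G)
    (hL : L = centralizer ({s} : Set G)) (Q : Subgroup G) (hQ : Q = (Cfsg.pCore 2 L).map L.subtype)
    (hQex : Cfsg.IsExtraspecial 2 Q) (hQcard : Nat.card Q = 32)
    (e : L ⧸ Cfsg.pCore 2 L ≃* Equiv.Perm (Fin 3)) (X : Sylow 3 L)
    (hCQX : Q ⊓ centralizer (((X : Subgroup L).map L.subtype : Subgroup G) : Set G) = zpowers s)
    (hnwc : ∃ g : G, g * s * g⁻¹ ∈ Q ∧ g * s * g⁻¹ ≠ s) :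
    ∃ sw ε : Bool, ∃ ψ : ℕ → G, LModel sw ε s ψ ∧
      ∃ c < 192, c % 32 = c ∧ c ≠ 0 ∧ c ≠ 1 ∧ IsConj s (ψ c) := by
  classical
  haveI : Fact (Nat.Prime 2) := ⟨Nat.prime_two⟩
  haveI : Fact (Nat.Prime 3) := ⟨Nat.prime_three⟩
  have hLC : ∀ {g : G}, g ∈ L → g * s = s * g := fun hg => by
    rw [hL] at hg; exact mem_centralizer_singleton_iff.1 hg
  set O := Cfsg.pCore 2 L with hO
  haveI : O.Normal := CfsgLib.Coprime.pCore_normal' 2
  have ss : s * s = 1 := by rw [← pow_two, ← hs, pow_orderOf_eq_one]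
  have hsne : s ≠ 1 := fun h => by rw [h, orderOf_one] at hs; norm_num at hs
  have hmemQ : ∀ {g : G}, g ∈ Q ↔ ∃ h : g ∈ L, (⟨g, h⟩ : L) ∈ O := fun {g} => by
    rw [hQ]
    exact ⟨fun ⟨l, hl, el⟩ => el ▸ ⟨l.2, hl⟩, fun ⟨h, hh⟩ => ⟨_, hh, rfl⟩⟩
  have hQL : ∀ {g : G}, g ∈ Q → g * s = s * g := fun hg => hLC (hmemQ.1 hg).1
  have hsQ : s ∈ Q := (mem_inf.1 (hCQX ▸ mem_zpowers s : s ∈ Q ⊓ _)).1
  have hzp : ∀ {g}, g ∈ zpowers s → g = 1 ∨ g = s := fun {g} hg => by
    obtain ⟨k, rfl⟩ := mem_zpowers_iff.1 hg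
    rw [← zpow_mod_orderOf, hs]
    rcases Int.emod_two_eq_zero_or_one k with h | h <;> simp [h]
  -- the facts of the extraspecial group
  obtain ⟨⟨hp, hfr, hcm⟩, hZ⟩ := hQex
  have hZs : ∀ {a : Q}, a ∈ center Q → (a : G) = 1 ∨ (a : G) = s := by
    have hle : (center Q).map Q.subtype = zpowers s := by
      refine (eq_of_le_of_card_ge ?_ ?_).symm
      · rw [zpowers_le]
        exact ⟨⟨s, hsQ⟩, mem_center_iff.2 fun g => Subtype.ext (hQL g.2), rfl⟩
      · rw [card_map_of_injective Q.subtype_injective, hZ, Nat.card_zpowers, hs]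
    exact fun {a} ha => hzp (hle ▸ ⟨a, ha, rfl⟩)
  have hsq : ∀ a ∈ Q, a * a = 1 ∨ a * a = s := fun a ha => by
    have h := CfsgLib.Coprime.pow_mem_frattini hp (⟨a, ha⟩ : Q)
    rw [hfr, pow_two] at h
    exact hZs h
  have hcomm : ∀ a ∈ Q, ∀ b ∈ Q, a * b = b * a ∨ a * b = s * (b * a) := fun a ha b hb => by
    have h := Subgroup.commutator_mem_commutator (mem_top (⟨a, ha⟩ : Q)) (mem_top (⟨b, hb⟩ : Q))
    rw [← _root_.commutator_def, hcm] at h
    have e' : a * b = (a * b * a⁻¹ * b⁻¹) * (b * a) := by group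
    rcases hZs h with h' | h'
    · left; rw [e']; rw [show a * b * a⁻¹ * b⁻¹ = 1 from h', one_mul]
    · right; rw [e']; rw [show a * b * a⁻¹ * b⁻¹ = s from h']
  -- orders
  have hO32 : Nat.card O = 32 := by
    rw [← hQcard, hQ, card_map_of_injective L.subtype_injective]
  have hidx : O.index = 6 := by
    rw [index_eq_card, Nat.card_congr e.toEquiv, Nat.card_perm, Nat.card_fin]; rfl
  have hL192 : Nat.card L = 192 := by rw [← O.card_mul_index, hO32, hidx]
  have hX3 : Nat.card (X : Subgroup L) = 3 := by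
    rw [X.card_eq_multiplicity, hL192]
    have : (192 : ℕ).factorization 3 = 1 := by
      rw [show (192 : ℕ) = 3 ^ 1 * 64 by norm_num, Nat.factorization_mul (by norm_num) (by norm_num)]
      simp [Nat.Prime.factorization_pow Nat.prime_three,
        Nat.Prime.factorization_self Nat.prime_three,
        Nat.factorization_eq_zero_of_not_dvd (show ¬ (3 : ℕ) ∣ 64 by norm_num)]
    rw [this, pow_one]
  haveI : IsCyclic (X : Subgroup L) := isCyclic_of_prime_card hX3
  obtain ⟨x₀, hx₀⟩ := IsCyclic.exists_generator (α := (X : Subgroup L))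
  set x : L := x₀.1 with hxdef
  have hx3 : x * x * x = 1 := by
    have h := pow_card_eq_one' (x := x₀)
    rw [hX3, pow_succ, pow_two] at h
    exact congrArg Subtype.val h
  have hxgen : (X : Subgroup L) = zpowers x := by
    refine le_antisymm (fun y hy => ?_) (zpowers_le.2 x₀.2)
    obtain ⟨k, hk⟩ := hx₀ ⟨y, hy⟩
    exact ⟨k, congrArg Subtype.val hk⟩
  set xb : Equiv.Perm (Fin 3) := e (QuotientGroup.mk x) with hxb
  have hxb1 : xb ≠ 1 := by
    intro h
    rw [hxb, MulEquiv.map_eq_one_iff, QuotientGroup.eq_one_iff] at h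
    have hd := Subgroup.card_dvd_of_le (zpowers_le.2 h)
    rw [← hxgen, hX3, hO32] at hd
    norm_num at hd
  have hxb3 : xb * xb * xb = 1 := by
    rw [hxb, ← map_mul, ← map_mul, ← QuotientGroup.mk_mul, ← QuotientGroup.mk_mul, hx3, QuotientGroup.mk_one, map_one]
  obtain ⟨bb, hb1, hb2, hb3⟩ : ∃ b : Equiv.Perm (Fin 3), b ≠ 1 ∧ b ≠ xb ∧ b ≠ xb * xb := by
    exact symThree_outer xb
  obtain ⟨hbb, hbx⟩ := (((symThree_conj xb hxb1 hxb3 bb).resolve_left hb1).resolve_left hb2).resolve_left hb3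
  have hall := (symThree_list xb hxb1 hxb3 bb).resolve_left (by simp [hb1, hb2, hb3])
  -- choose the inverting element in the normalizer
  have hQXn : (O ⊔ (X : Subgroup L)).Normal := by
    refine normal_of_index_eq_two ?_
    have hco : Nat.card ↥(O ⊔ (X : Subgroup L)) = 96 := by
      have hd : Disjoint O (X : Subgroup L) := disjoint_iff.2 (inf_eq_bot_of_coprime (by rw [hO32, hX3]; norm_num))
      rw [CfsgLib.Invol.card_sup_of_normal _ _ hd.eq_bot, hO32, hX3]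
    have := (O ⊔ (X : Subgroup L)).card_mul_index
    rw [hco, hL192] at this; omega
  haveI := hQXn
  obtain ⟨g₀, eg₀⟩ : ∃ g : L, e (QuotientGroup.mk g) = bb := by
    obtain ⟨g, hg⟩ := QuotientGroup.mk_surjective (e.symm bb)
    exact ⟨g, by rw [hg, e.apply_symm_apply]⟩
  obtain ⟨n, hn, m, hm, rfl⟩ : ∃ n ∈ normalizer ((X : Subgroup L) : Set L), ∃ m ∈ O, n * m = g₀ := by
    let K := O ⊔ (X : Subgroup L)
    have hle : (X : Subgroup L) ≤ K := le_sup_right
    have htop := Sylow.normalizer_sup_eq_top (X.subtype hle)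
    have hmap : ((X.subtype hle : Sylow 3 K) : Subgroup K).map K.subtype = X := by
      rw [Sylow.coe_subtype, subgroupOf_map_subtype, inf_eq_left.2 hle]
    rw [hmap] at htop
    have hg : g₀ ∈ normalizer ((X : Subgroup L) : Set L) ⊔ K := htop ▸ mem_top _
    rw [show K = (X : Subgroup L) ⊔ O from sup_comm _ _, ← sup_assoc, sup_of_le_left le_normalizer] at hg
    rw [← SetLike.mem_coe, Subgroup.mul_normal] at hg
    exact hg
  have en : e (QuotientGroup.mk n) = bb := by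
    rw [← eg₀, QuotientGroup.mk_mul, (QuotientGroup.eq_one_iff m).2 hm, mul_one]
  have hnx : n * x * n⁻¹ = x⁻¹ := by
    have hmem : n * x * n⁻¹ ∈ (X : Subgroup L) := (mem_normalizer_iff.1 hn x).1 x₀.2
    rw [hxgen, mem_zpowers_iff] at hmem
    obtain ⟨k, hk⟩ := hmem
    have himg : bb * xb * bb = xb ^ k := by
      rw [hxb, ← map_zpow, ← QuotientGroup.mk_zpow, hk, QuotientGroup.mk_mul, QuotientGroup.mk_mul,
        QuotientGroup.mk_inv, map_mul, map_mul, map_inv, en, inv_eq_of_mul_eq_one_right hbb]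
    rw [hbx] at himg
    have ho : orderOf xb = 3 := orderOf_eq_prime (by rw [pow_succ, pow_two, hxb3]) hxb1
    have hox : orderOf x = 3 := by
      rw [← Nat.card_zpowers, ← hxgen, hX3]
    have h2 : xb ^ (2 : ℤ) = xb ^ k := by rw [zpow_two]; exact himg
    rw [zpow_eq_zpow_iff_modEq, ho] at h2
    rw [← hk, show x⁻¹ = x ^ (2 : ℤ) from (eq_inv_of_mul_eq_one_left (by rw [zpow_two]; exact hx3)).symm,
      zpow_eq_zpow_iff_modEq, hox]
    exact h2.symm
  -- a cube with square in the centre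
  have hfixQ : ∀ a ∈ Q, x.1 * a = a * x.1 → a = 1 ∨ a = s := fun a ha h => hzp (hCQX ▸ mem_inf.2 ⟨ha, by
    rw [mem_centralizer_iff]
    rintro _ ⟨y, hy, rfl⟩
    replace hy : y ∈ (X : Subgroup L) := hy
    rw [hxgen, mem_zpowers_iff] at hy
    obtain ⟨k, rfl⟩ := hy
    show (L.subtype (x ^ k)) * a = a * L.subtype (x ^ k)
    rw [map_zpow]
    exact ((show Commute x.1 a from h).zpow_left k).eq⟩)
  obtain ⟨τ, hτb, hτx, hτ2⟩ : ∃ τ : L, e (QuotientGroup.mk τ) = bb ∧ τ * x * τ⁻¹ = x⁻¹ ∧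
      ((τ : G) * τ = 1 ∨ (τ : G) * τ = s) := by
    have hn2 : n * n * x * (n * n)⁻¹ = x := by
      calc n * n * x * (n * n)⁻¹ = n * (n * x * n⁻¹) * n⁻¹ := by group
        _ = n * x⁻¹ * n⁻¹ := by rw [hnx]
        _ = (n * x * n⁻¹)⁻¹ := by group
        _ = x := by rw [hnx, inv_inv]
    have hnnO : n * n ∈ O := by
      rw [← QuotientGroup.eq_one_iff, QuotientGroup.mk_mul, ← MulEquiv.map_eq_one_iff e, map_mul, en, hbb]
    have hc : x.1 * ((n : G) * n) = (n : G) * n * x.1 :=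
      (congrArg Subtype.val (mul_inv_eq_iff_eq_mul.1 hn2)).symm
    exact ⟨n, en, hnx, hfixQ _ (hmemQ.2 ⟨(n * n).2, hnnO⟩) hc⟩
  -- assemble
  have H : QHyp s x.1 Q :=
    { ne := hsne
      ss := ss
      mem := hsQ
      central := fun a ha => hQL ha
      sq := hsq
      comm := hcomm
      center := fun a ha h => hZs (a := ⟨a, ha⟩) (mem_center_iff.2 fun b => Subtype.ext (h b b.2).symm)
      cube := congrArg Subtype.val hx3
      norm := fun a ha => by
        obtain ⟨h, hh⟩ := hmemQ.1 ha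
        exact hmemQ.2 ⟨(x * ⟨a, h⟩ * x⁻¹).2, (inferInstance : O.Normal).conj_mem _ hh x⟩
      fix := by
        rw [mul_inv_eq_iff_eq_mul]
        exact hLC x.2
      free := hfixQ
      card := hQcard }
  have hcover : ∀ g ∈ centralizer ({s} : Set G), ∃ a ∈ Q, ∃ i < 3, ∃ j < 2, g = a * (x : G) ^ i * (τ : G) ^ j := by
    intro g hg
    set l : L := ⟨g, hL ▸ hg⟩
    have key : ∃ i < 3, ∃ j < 2, e (QuotientGroup.mk l) = xb ^ i * bb ^ j := by
      have hl := hall (e (QuotientGroup.mk l))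
      simp only [List.mem_cons, List.not_mem_nil, or_false] at hl
      rcases hl with h | h | h | h | h | h
      · exact ⟨0, by norm_num, 0, by norm_num, by simp [h]⟩
      · exact ⟨1, by norm_num, 0, by norm_num, by simp [h]⟩
      · exact ⟨2, by norm_num, 0, by norm_num, by simp [h, pow_two]⟩
      · exact ⟨0, by norm_num, 1, by norm_num, by simp [h]⟩
      · exact ⟨1, by norm_num, 1, by norm_num, by simp [h]⟩
      · exact ⟨2, by norm_num, 1, by norm_num, by simp [h, pow_two]⟩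
    obtain ⟨i, hi, j, hj, he⟩ := key
    have hmem : l * (x ^ i * τ ^ j)⁻¹ ∈ O := by
      rw [← QuotientGroup.eq_one_iff, ← MulEquiv.map_eq_one_iff e]
      simp only [QuotientGroup.mk_mul, QuotientGroup.mk_inv, QuotientGroup.mk_pow, map_mul, map_inv, map_pow]
      rw [he, hτb, ← hxb, mul_inv_cancel]
    refine ⟨(l * (x ^ i * τ ^ j)⁻¹ : L), hmemQ.2 ⟨_, hmem⟩, i, hi, j, hj, ?_⟩
    show g = g * ((x : G) ^ i * (τ : G) ^ j)⁻¹ * (x : G) ^ i * (τ : G) ^ j
    group
  obtain ⟨g, hgQ, hgne⟩ := hnwc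
  have hg1 : g * s * g⁻¹ ≠ 1 := fun h => hsne (conj_eq_one_iff.1 h)
  have hg2 : g * s * g⁻¹ * (g * s * g⁻¹) = 1 := by
    rw [show g * s * g⁻¹ * (g * s * g⁻¹) = g * (s * s) * g⁻¹ by group, ss]; group
  obtain ⟨sw, ε, ψ, M, hMQ⟩ := H.exists_model (τ := τ.1) hs hgQ hg2 (not_or.2 ⟨hg1, hgne⟩) (fun a ha => hQL ha)
    (hLC τ.2)
    (fun a ha => by
      obtain ⟨h, hh⟩ := hmemQ.1 ha
      exact hmemQ.2 ⟨(τ * ⟨a, h⟩ * τ⁻¹).2, (inferInstance : O.Normal).conj_mem _ hh τ⟩)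
    (congrArg Subtype.val hτx) hτ2 (hL ▸ hL192) hcover
  refine ⟨sw, ε, ψ, M, ?_⟩
  obtain ⟨c, hc, ec⟩ := hMQ _ hgQ
  refine ⟨c, by omega, Nat.mod_eq_of_lt hc, ?_, ?_, ec ▸ isConj_iff.2 ⟨g, rfl⟩⟩
  · rintro rfl
    have h0 : ψ 0 = 1 := by
      have h := M.mul 0 (by norm_num) 0 (by norm_num)
      rwa [show lMul sw ε 0 0 = 0 by cases sw <;> cases ε <;> decide +kernel, mul_eq_left] at h
    exact hg1 (by rw [← ec, h0])
  · rintro rfl
    exact hgne (by rw [← ec, M.at_s])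

end CfsgLib.Spor.ExtraSymThree
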