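import Cfsg.Agent.Lib.Spor.ExtraSymThree.Types
import Cfsg.Agent.Lib.Spor.MTwelveCent.Local

/-!
# The first type is the centralizer of a central involution of `M₁₂`
-/

set_option autoImplicit false
set_option maxRecDepth 100000

namespace CfsgLib.Spor.ExtraSymThree

open CfsgLib.Spor.MTwelveCent Subgroup

/-- A code of the first type as a code of the Mathieu model. -/
def toTwelve (c : ℕ) : ℕ := Nat.land (Nat.shiftRight 1154893766706965752914021851427609995098470064413055333731981139076824263409780433196672233375905920909796341685268714728803936686539097702030108058684640458666022153037303101284905374007553984258209117747279389341005527511750713475241681563413388490100526593689529733737027483435490821228639899469844279167013398745809102219098304648098242939219411638479264254238973502289396612219168772037904699139897050950488769834106553992679250632792087448443739864734538496 (8 * c)) 255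

/-- A code of the Mathieu model as a code of the first type. -/
def ofTwelve (c : ℕ) : ℕ := Nat.land (Nat.shiftRight 202946001129647669964816507924073651638914739114956761618770329630887650980073112165453291373908089058199955848852698179976748000446288320083498252947840010498843460345610781431915015916675559993639639855879104083365473087333496695132745716241836539414429595736969460218005686083572700933319264445577961286401779557960664793761833287411829213274937261165049701608049847536153372669521871681448974343444047353536908315227346869701751564208281222689123875145450496 (8 * c)) 255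

theorem twelve_inverse : ∀ c < 192, toTwelve c < 192 ∧ ofTwelve c < 192 ∧ toTwelve (ofTwelve c) = c ∧
    ofTwelve (toTwelve c) = c := by decide +kernel

theorem twelve_facts : ofTwelve zC = 1 ∧ ∀ c ∈ [10, 20, 30, 11, 21, 31], toTwelve c ∈ pList := by decide +kernel

theorem twelve_check : ((List.range 192).all fun c => (List.range 192).all fun d =>
    Nat.beq (ofTwelve (mC c d)) (lMulT true false (ofTwelve c) (ofTwelve d))) = true := by decide +kernel

theorem twelve_mul : ∀ c < 192, ∀ d < 192, ofTwelve (mC c d) = lMul true false (ofTwelve c) (ofTwelve d) := by
  intro c hc d hd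
  rw [lMulT_eq (twelve_inverse c hc).2.1 (twelve_inverse d hd).2.1]
  exact Nat.eq_of_beq_eq_true
    (List.all_eq_true.1 (List.all_eq_true.1 twelve_check c (List.mem_range.2 hc)) d (List.mem_range.2 hd))

/-- A centralizer of the first type is a Mathieu model. -/
theorem LModel.toModel {G : Type*} [Group G] {s : G} {ψ : ℕ → G} (M : LModel true false s ψ) :
    Model s fun c => ψ (ofTwelve c) where
  ord := M.ord
  mem c hc := M.mem _ (twelve_inverse c hc).2.1
  mul c hc d hd := by
    rw [M.mul _ (twelve_inverse c hc).2.1 _ (twelve_inverse d hd).2.1, ← twelve_mul c hc d hd]
  inj c hc d hd h := by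
    have e := M.inj _ (twelve_inverse c hc).2.1 _ (twelve_inverse d hd).2.1 h
    rw [← (twelve_inverse c hc).2.2.1, e, (twelve_inverse d hd).2.2.1]
  surj g hg := by
    obtain ⟨c, hc, rfl⟩ := M.surj g hg
    exact ⟨toTwelve c, (twelve_inverse c hc).1, by rw [(twelve_inverse c hc).2.2.2]⟩
  at_z := by rw [twelve_facts.1, M.at_s]

/-- Fusion into the second central class of the Mathieu model. -/
theorem LModel.isConj_pC {G : Type*} [Group G] [Finite G] {s : G} {ψ : ℕ → G} (M : LModel true false s ψ) {c : ℕ}
    (hc : c ∈ [10, 20, 30, 11, 21, 31]) (h : IsConj s (ψ c)) : IsConj s (ψ (ofTwelve pC)) := by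
  have hc' : c < 192 := by simp at hc; omega
  have h' := M.toModel.isConj_p (twelve_facts.2 c hc)
  rw [(twelve_inverse c hc').2.2.2] at h'
  exact h.trans h'.symm

end CfsgLib.Spor.ExtraSymThree
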