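import Cfsg.Prelude.Def_Transfer
import Cfsg.Prelude.Def_Solvable
import Mathlib.GroupTheory.SpecificGroups.Alternating
import Mathlib.GroupTheory.Sylow
import Mathlib.Tactic.Group

/-!
# Normal forms in an extraspecial group of order 32 with an automorphism of order three
-/

set_option autoImplicit false
set_option maxRecDepth 100000

namespace CfsgLib.Spor.ExtraSymThree

/-- A binary digit. -/
def qBit (q i : ℕ) : ℕ := (q / 2 ^ i) % 2

/-- The product of two normal forms. -/
def qMul (p r : ℕ) : ℕ :=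
  (qBit p 0 + qBit r 0 + qBit p 3 * qBit r 2 + qBit p 4 * qBit r 1) % 2 + 2 * ((qBit p 1 + qBit r 1) % 2) +
    4 * ((qBit p 2 + qBit r 2) % 2) + 8 * ((qBit p 3 + qBit r 3) % 2) + 16 * ((qBit p 4 + qBit r 4) % 2)

/-- The product with prescribed images of the five generators. -/
def qSub (i0 i1 i2 i3 i4 q : ℕ) : ℕ :=
  qMul (if qBit q 0 = 1 then i0 else 0) (qMul (if qBit q 1 = 1 then i1 else 0) (qMul (if qBit q 2 = 1 then i2 else 0)
    (qMul (if qBit q 3 = 1 then i3 else 0) (if qBit q 4 = 1 then i4 else 0))))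

/-- The automorphism of order three. -/
def qX (q : ℕ) : ℕ := qSub 1 4 6 16 24 q

/-- The inverse automorphism. -/
def qXi (q : ℕ) : ℕ := qX (qX q)

/-- An automorphism inverting the given one. -/
def qT (a b q : ℕ) : ℕ := qSub 1 a (qXi a) b (qXi b) q

/-- Two elements can take the place of the two generators. -/
def basisOK (p r : ℕ) : Bool :=
  (qMul p p == 0) && (qMul r r == 0) && (qX (qX p) == qMul p (qX p)) && (qMul p (qX p) == qMul (qX p) p) &&
    (qX (qX r) == qMul r (qX r)) && (qMul r (qX r) == qMul (qX r) r) && (qMul p r == qMul r p) &&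
    (qMul (qX p) r == qMul 1 (qMul r (qX p)))

/-- The conditions on the images of the two generators under an inverting automorphism. -/
def tValid (a b : ℕ) : Bool :=
  (qXi (qXi a) == qMul a (qXi a)) && (qMul a (qXi a) == qMul (qXi a) a) && (qXi (qXi b) == qMul b (qXi b)) &&
    (qMul b (qXi b) == qMul (qXi b) b) && (qMul a a == 0) && (qMul b b == 0) && (qMul a b == qMul b a) && (qMul (qXi a) b == qMul 1 (qMul b (qXi a))) &&
    (qT a b a == 2) && (qT a b b == 8)

/-- The automorphism can be normalized. -/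
def normOK (a b : ℕ) : Bool :=
  (List.range 32).any fun p => (List.range 32).any fun r =>
    basisOK p r && (((qT a b p == p) && (qT a b r == r)) || ((qT a b p == r) && (qT a b r == p)))

theorem qMul_lt : ∀ p < 32, ∀ r < 32, qMul p r < 32 := by decide +kernel

theorem qX_lt : ∀ q < 32, qX q < 32 ∧ qXi q < 32 ∧ qX (qXi q) = q := by decide +kernel

theorem qMul_facts : (∀ q < 32, qMul 0 q = q ∧ qMul q 0 = q) ∧
    ∀ q < 32, ∃ r < 32, qMul q r = 0 ∧ qMul r q = 0 := by decide +kernel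

theorem noncentral : ∀ q < 32, q = 0 ∨ q = 1 ∨ ∃ g < 32, qMul q g = qMul 1 (qMul g q) := by decide +kernel

theorem norm_all : ((List.range 32).all fun a => (List.range 32).all fun b => !tValid a b || normOK a b) = true := by
  decide +kernel

theorem qBit_pack (a b c d e : ℕ) :
    qBit (a % 2 + 2 * (b % 2) + 4 * (c % 2) + 8 * (d % 2) + 16 * (e % 2)) 0 = a % 2 ∧
    qBit (a % 2 + 2 * (b % 2) + 4 * (c % 2) + 8 * (d % 2) + 16 * (e % 2)) 1 = b % 2 ∧
    qBit (a % 2 + 2 * (b % 2) + 4 * (c % 2) + 8 * (d % 2) + 16 * (e % 2)) 2 = c % 2 ∧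
    qBit (a % 2 + 2 * (b % 2) + 4 * (c % 2) + 8 * (d % 2) + 16 * (e % 2)) 3 = d % 2 ∧
    qBit (a % 2 + 2 * (b % 2) + 4 * (c % 2) + 8 * (d % 2) + 16 * (e % 2)) 4 = e % 2 := by
  simp only [qBit]; omega

theorem qBit_qMul (p r : ℕ) :
    qBit (qMul p r) 0 = (qBit p 0 + qBit r 0 + qBit p 3 * qBit r 2 + qBit p 4 * qBit r 1) % 2 ∧
    qBit (qMul p r) 1 = (qBit p 1 + qBit r 1) % 2 ∧ qBit (qMul p r) 2 = (qBit p 2 + qBit r 2) % 2 ∧
    qBit (qMul p r) 3 = (qBit p 3 + qBit r 3) % 2 ∧ qBit (qMul p r) 4 = (qBit p 4 + qBit r 4) % 2 :=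
  qBit_pack _ _ _ _ _

/-- The element of a normal form. -/
def qVal {G : Type*} [Group G] (s u u' v v' : G) (q : ℕ) : G :=
  s ^ qBit q 0 * (u ^ qBit q 1 * u' ^ qBit q 2) * (v ^ qBit q 3 * v' ^ qBit q 4)

/-- The relations of the generators. -/
structure QRel {G : Type*} [Group G] (s u u' v v' : G) : Prop where
  ne : s ≠ 1
  ss : s * s = 1
  uu : u * u = 1
  uu' : u' * u' = 1
  vv : v * v = 1
  vv' : v' * v' = 1
  su : u * s = s * u
  su' : u' * s = s * u'
  sv : v * s = s * v
  sv' : v' * s = s * v'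
  c1 : u' * u = u * u'
  c2 : v' * v = v * v'
  c3 : v * u = u * v
  c4 : v' * u' = u' * v'
  c5 : v * u' = s * (u' * v)
  c6 : v' * u = s * (u * v')

namespace QRel

variable {G : Type*} [Group G] {s u u' v v' : G} (R : QRel s u u' v v')
include R

theorem mul {p r : ℕ} : qVal s u u' v v' p * qVal s u u' v v' r = qVal s u u' v v' (qMul p r) := by
  have par : ∀ {g : G}, g * g = 1 → ∀ n, g ^ (n % 2) = g ^ n := fun {g} hg n => by
    conv_rhs => rw [← Nat.div_add_mod n 2, pow_add, pow_mul, pow_two, hg, one_pow, one_mul]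
  have bnd : ∀ q i, qBit q i = 0 ∨ qBit q i = 1 := fun q i => Nat.mod_two_eq_zero_or_one _
  obtain ⟨h0, h1, h2, h3, h4⟩ := qBit_qMul p r
  simp only [qVal, h0, h1, h2, h3, h4, par R.ss, par R.uu, par R.uu', par R.vv, par R.vv']
  have hsc : ∀ n, ∀ g : G, g * s = s * g → g * s ^ n = s ^ n * g := fun n g hg => (Commute.pow_right hg n).eq
  generalize hb : qBit p 1 = b
  generalize hc : qBit p 2 = c
  generalize hd : qBit p 3 = d
  generalize he : qBit p 4 = e
  generalize hb' : qBit r 1 = b'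
  generalize hc' : qBit r 2 = c'
  generalize hd' : qBit r 3 = d'
  generalize he' : qBit r 4 = e'
  generalize qBit p 0 = a
  generalize qBit r 0 = a'
  set A := u ^ b * u' ^ c with hA
  set B := v ^ d * v' ^ e with hB
  have sA : A * s ^ a' = s ^ a' * A :=
    ((Commute.mul_left (Commute.pow_left R.su b) (Commute.pow_left R.su' c)).pow_right a').eq
  have sB : B * s ^ a' = s ^ a' * B :=
    ((Commute.mul_left (Commute.pow_left R.sv d) (Commute.pow_left R.sv' e)).pow_right a').eq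
  have sA2 : ∀ n, A * s ^ n = s ^ n * A := fun n =>
    ((Commute.mul_left (Commute.pow_left R.su b) (Commute.pow_left R.su' c)).pow_right n).eq
  have hswap : B * (u ^ b' * u' ^ c') = s ^ (d * c' + e * b') * ((u ^ b' * u' ^ c') * B) := by
    have b1 := hb' ▸ bnd r 1
    have b2 := hc' ▸ bnd r 2
    have b3 := hd ▸ bnd p 3
    have b4 := he ▸ bnd p 4
    have mid : ∀ {a b c : G}, a * b = c → ∀ x, a * (b * x) = c * x := fun h x => by rw [← mul_assoc, h]
    rw [hB]
    rcases b1 with rfl | rfl <;> rcases b2 with rfl | rfl <;> rcases b3 with rfl | rfl <;> rcases b4 with rfl | rfl <;>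
      simp [mul_assoc, pow_two, R.ss, mid R.ss, R.c2, mid R.c2, R.c3, mid R.c3, R.c4, mid R.c4, R.c5, mid R.c5,
        R.c6, mid R.c6, R.su, mid R.su, R.su', mid R.su', R.sv, mid R.sv, R.sv', mid R.sv']
  have hA' : A * (u ^ b' * u' ^ c') = u ^ (b + b') * u' ^ (c + c') := by
    rw [hA, pow_add, pow_add, mul_assoc, ← mul_assoc (u' ^ c), (Commute.pow_pow R.c1 c b').eq]
    simp only [mul_assoc]
  have hB' : B * (v ^ d' * v' ^ e') = v ^ (d + d') * v' ^ (e + e') := by
    rw [hB, pow_add, pow_add, mul_assoc, ← mul_assoc (v' ^ e), (Commute.pow_pow R.c2 e d').eq]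
    simp only [mul_assoc]
  calc s ^ a * A * B * (s ^ a' * (u ^ b' * u' ^ c') * (v ^ d' * v' ^ e'))
      = s ^ a * A * (B * s ^ a') * (u ^ b' * u' ^ c') * (v ^ d' * v' ^ e') := by simp only [mul_assoc]
    _ = s ^ a * (A * s ^ a') * (B * (u ^ b' * u' ^ c')) * (v ^ d' * v' ^ e') := by rw [sB]; simp only [mul_assoc]
    _ = s ^ a * s ^ a' * (A * s ^ (d * c' + e * b')) * (u ^ b' * u' ^ c') * (B * (v ^ d' * v' ^ e')) := by
        rw [sA, hswap]; simp only [mul_assoc]
    _ = s ^ a * s ^ a' * s ^ (d * c' + e * b') * (A * (u ^ b' * u' ^ c')) * (B * (v ^ d' * v' ^ e')) := by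
        rw [sA2]; simp only [mul_assoc]
    _ = _ := by rw [hA', hB', ← pow_add, ← pow_add]; simp only [add_assoc]

end QRel

end CfsgLib.Spor.ExtraSymThree
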