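import Cfsg.Prelude.Def_TwoFusion
import Cfsg.Agent.Lib.Invol.ZStar
import Cfsg.Agent.Lib.Invol.TwoClasses
import Cfsg.Agent.Lib.Coprime.Core
import Cfsg.Agent.Lib.Spor.MTwelveCent.Basics
import Mathlib.LinearAlgebra.Matrix.SpecialLinearGroup
import Mathlib.LinearAlgebra.Matrix.ProjectiveSpecialLinearGroup
import Mathlib.LinearAlgebra.Matrix.GeneralLinearGroup.Card

/-!
# An elementary group of order eight containing all commuting conjugates
-/

set_option autoImplicit false
set_option linter.unusedSectionVars false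

namespace CfsgLib.Spor.ExtraSymThree

open Subgroup

/-- An elementary group of order eight meeting the class of an involution in its nonidentity elements. -/
structure Closed8 {G : Type*} [Group G] (s : G) (E : Subgroup G) : Prop where
  ord : orderOf s = 2
  card : Nat.card E = 8
  comm : ∀ a ∈ E, ∀ b ∈ E, a * b = b * a
  sq : ∀ a ∈ E, a * a = 1
  fused : ∀ e ∈ E, e ≠ 1 → IsConj s e
  closed : ∀ y, IsConj s y → y * s = s * y → y ∈ E
  selfC : ∀ g : G, g * s = s * g → (∀ e ∈ E, g * e = e * g) → g ∈ E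
  three : ∀ h r : G, h * s = s * h → r * s = s * r → h * h * h = 1 → h ≠ 1 → r * r = 1 → r ≠ 1 → h * r = r * h → r = s
  cardC : Nat.card (centralizer ({s} : Set G)) = 192
  outer : ∃ r : G, r * s = s * r ∧ r * r = 1 ∧ r ∉ E

theorem zmod_two_cases : ∀ x : ZMod 2, x = 0 ∨ x = 1 := by decide

namespace Closed8

variable {G : Type*} [Group G] [Finite G] {s : G} {E : Subgroup G} (H : Closed8 s E)
include H

theorem s_ne : s ≠ 1 := fun h => by have := H.ord; rw [h, orderOf_one] at this; norm_num at this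

theorem ss : s * s = 1 := by rw [← pow_two, ← H.ord, pow_orderOf_eq_one]

theorem s_mem : s ∈ E := H.closed s (IsConj.refl s) rfl

theorem conj_mem_normalizer {m : G} (h : ∀ x ∈ E, m * x * m⁻¹ ∈ E) : m ∈ normalizer (E : Set G) := by
  have hle : E.map (MulAut.conj m).toMonoidHom ≤ E := by
    rintro _ ⟨x, hx, rfl⟩; exact h x hx
  have heq := eq_of_le_of_card_ge hle (by rw [card_map_of_injective (MulAut.conj m).injective])
  rw [mem_normalizer_iff]
  intro x
  refine ⟨h x, fun h' => ?_⟩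
  rw [← heq] at h'
  obtain ⟨y, hy, e⟩ := h'
  have e' : m * y * m⁻¹ = m * x * m⁻¹ := e
  rwa [← mul_left_cancel (mul_right_cancel e')]

/-- An element carrying the involution to an element of the group normalizes it. -/
theorem carrier {m : G} (hm : m * s * m⁻¹ ∈ E) : m ∈ normalizer (E : Set G) := by
  classical
  have hle : E ≤ E.map (MulAut.conj m).toMonoidHom := by
    intro e he
    rcases eq_or_ne e 1 with rfl | hne
    · exact one_mem _
    refine ⟨m⁻¹ * e * m, H.closed _ ((H.fused e he hne).trans (isConj_iff.2 ⟨m⁻¹, by group⟩)) ?_, by simp; group⟩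
    calc m⁻¹ * e * m * s = m⁻¹ * (e * (m * s * m⁻¹)) * m := by group
      _ = m⁻¹ * (m * s * m⁻¹ * e) * m := by rw [H.comm e he _ hm]
      _ = _ := by group
  have heq := eq_of_le_of_card_ge hle (by rw [card_map_of_injective (MulAut.conj m).injective])
  refine H.conj_mem_normalizer fun x hx => ?_
  rw [heq]
  exact ⟨x, hx, rfl⟩

theorem cent_s_le {g : G} (hg : g * s = s * g) : g ∈ normalizer (E : Set G) :=
  H.carrier (by rw [hg, mul_inv_cancel_right]; exact H.s_mem)

/-- Conjugates commuting with an element of the group lie in it, and its centralizer normalizes. -/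
theorem block {e : G} (he : e ∈ E) (he1 : e ≠ 1) {y : G} (hy : y * e = e * y) :
    y ∈ normalizer (E : Set G) ∧ (IsConj s y → y ∈ E) := by
  obtain ⟨m, rfl⟩ := isConj_iff.1 (H.fused e he he1)
  have hm := H.carrier he
  have h' : m⁻¹ * y * m * s = s * (m⁻¹ * y * m) := by
    calc m⁻¹ * y * m * s = m⁻¹ * (y * (m * s * m⁻¹)) * m := by group
      _ = m⁻¹ * (m * s * m⁻¹ * y) * m := by rw [hy]
      _ = _ := by group
  refine ⟨?_, fun hc => ?_⟩
  · have := mul_mem (mul_mem hm (H.cent_s_le h')) (inv_mem hm)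
    rwa [show m * (m⁻¹ * y * m) * m⁻¹ = y by group] at this
  · have hin := H.closed _ (hc.trans (isConj_iff.2 ⟨m⁻¹, by group⟩)) h'
    have := (mem_normalizer_iff.1 hm _).1 hin
    rwa [show m * (m⁻¹ * y * m) * m⁻¹ = y by group] at this

theorem eq_one_or_of_cent {g : G} (h : ∀ e ∈ E, g * e = e * g) : g ∈ E := H.selfC g (h s H.s_mem) h

/-- An element of order three in the normalizer commutes with no involution outside. -/
theorem no_three {h r : G} (hh : h ∈ normalizer (E : Set G)) (hr : r ∈ normalizer (E : Set G)) (h3 : h * h * h = 1)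
    (h1 : h ≠ 1) (hr2 : r * r = 1) (hr1 : r ≠ 1) (hc : h * r = r * h) : r ∈ E := by
  classical
  haveI : Fact (Nat.Prime 3) := ⟨Nat.prime_three⟩
  let σ : E → E := fun e => ⟨h * e * h⁻¹, (mem_normalizer_iff.1 hh e).1 e.2⟩
  have hσ : ∀ e, σ (σ (σ e)) = e := fun e => Subtype.ext (by
    show h * (h * (h * (e : G) * h⁻¹) * h⁻¹) * h⁻¹ = e
    calc h * (h * (h * (e : G) * h⁻¹) * h⁻¹) * h⁻¹ = h * h * h * e * (h * h * h)⁻¹ := by group
      _ = e := by rw [h3]; group)
  let π : Equiv.Perm E := ⟨σ, fun e => σ (σ e), hσ, hσ⟩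
  letI : Fintype E := Fintype.ofFinite E
  obtain ⟨e, heE, he, hfix⟩ : ∃ e ∈ E, e ≠ 1 ∧ h * e = e * h := by
    by_contra hno
    push Not at hno
    let T := {e : E // (e : G) ≠ 1}
    let τ : Equiv.Perm T := π.subtypeEquiv (fun e => by
      show (e : G) ≠ 1 ↔ h * (e : G) * h⁻¹ ≠ 1
      exact not_congr (conj_eq_one_iff).symm)
    letI : Fintype T := Fintype.ofFinite T
    have hT : Fintype.card T = 7 := by
      have hc8 := H.card
      rw [Nat.card_eq_fintype_card] at hc8
      have : Fintype.card T = Fintype.card E - 1 := by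
        rw [Fintype.card_subtype_compl]
        congr 1
        rw [Fintype.card_eq_one_iff]
        exact ⟨⟨1, rfl⟩, fun x => Subtype.ext (Subtype.ext x.2)⟩
      rw [this, hc8]
    obtain ⟨a, ha⟩ := Equiv.Perm.exists_fixed_point_of_prime (p := 3) (n := 1) (by rw [hT]; norm_num) (σ := τ)
      (Equiv.ext fun a => by
        rw [pow_one, pow_succ, pow_two]
        exact Subtype.ext (hσ a.1))
    exact hno a.1 a.1.2 a.2 (mul_inv_eq_iff_eq_mul.1 (congrArg (fun t : T => (t.1 : G)) ha))
  obtain ⟨m, hm⟩ := isConj_iff.1 (H.fused _ heE he)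
  have hmN := H.carrier (m := m) (by rw [hm]; exact heE)
  set h' := m⁻¹ * h * m with hh'
  set r' := m⁻¹ * r * m with hr'
  have cs : h' * s = s * h' := by
    rw [hh']
    calc m⁻¹ * h * m * s = m⁻¹ * (h * (m * s * m⁻¹)) * m := by group
      _ = m⁻¹ * (m * s * m⁻¹ * h) * m := by rw [hm, hfix]
      _ = _ := by group
  have c3 : h' * h' * h' = 1 := by
    rw [hh', show m⁻¹ * h * m * (m⁻¹ * h * m) * (m⁻¹ * h * m) = m⁻¹ * (h * h * h) * m by group, h3]; group
  have c1 : h' ≠ 1 := fun e => h1 (by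
    calc h = m * h' * m⁻¹ := by rw [hh']; group
      _ = 1 := by rw [e]; group)
  have cr2 : r' * r' = 1 := by rw [hr', show m⁻¹ * r * m * (m⁻¹ * r * m) = m⁻¹ * (r * r) * m by group, hr2]; group
  have cr1 : r' ≠ 1 := fun e => hr1 (by
    calc r = m * r' * m⁻¹ := by rw [hr']; group
      _ = 1 := by rw [e]; group)
  have chr : h' * r' = r' * h' := by
    rw [hh', hr', show m⁻¹ * h * m * (m⁻¹ * r * m) = m⁻¹ * (h * r) * m by group, hc]; group
  have hr'N : r' ∈ normalizer (E : Set G) := mul_mem (mul_mem (inv_mem hmN) hr) hmN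
  have hy : r' * s * r'⁻¹ ∈ E := (mem_normalizer_iff.1 hr'N s).1 H.s_mem
  have hy1 : r' * s * r'⁻¹ ≠ 1 := fun e => H.s_ne (conj_eq_one_iff.1 e)
  have hyc : h' * (r' * s * r'⁻¹) = r' * s * r'⁻¹ * h' := by
    have hi : h' * r'⁻¹ = r'⁻¹ * h' := by rw [inv_eq_of_mul_eq_one_right cr2, chr]
    rw [← mul_assoc, ← mul_assoc, chr, mul_assoc r' h' s, cs, ← mul_assoc, mul_assoc (r' * s), hi, ← mul_assoc]
  have hfixs := H.three h' _ cs (H.comm _ hy _ H.s_mem) c3 c1 (H.sq _ hy) hy1 hyc
  have hrs : r' = s := H.three h' r' cs (mul_inv_eq_iff_eq_mul.1 hfixs) c3 c1 cr2 cr1 chr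
  have := (mem_normalizer_iff.1 hmN r').1 (hrs ▸ H.s_mem)
  rwa [hr', show m * (m⁻¹ * r * m) * m⁻¹ = r by group] at this

theorem normalizer_trans {e : G} (he : e ∈ E) (he1 : e ≠ 1) : ∃ m ∈ normalizer (E : Set G), m * s * m⁻¹ = e := by
  obtain ⟨m, hm⟩ := isConj_iff.1 (H.fused e he he1)
  exact ⟨m, H.carrier (m := m) (by rw [hm]; exact he), hm⟩

theorem card_normalizer : Nat.card (normalizer (E : Set G)) = 1344 := by
  classical
  set N := normalizer (E : Set G) with hN
  set C := (centralizer ({s} : Set G)).subgroupOf N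
  have hle : centralizer ({s} : Set G) ≤ N := fun g hg => H.cent_s_le (mem_centralizer_singleton_iff.1 hg)
  let f : N ⧸ C → {e : E // (e : G) ≠ 1} := Quotient.lift
    (fun n => ⟨⟨n * s * n⁻¹, (mem_normalizer_iff.1 n.2 s).1 H.s_mem⟩, fun e => H.s_ne (conj_eq_one_iff.1 e)⟩)
    (fun a b hab => by
      replace hab := QuotientGroup.leftRel_apply.1 hab
      rw [mem_subgroupOf, mem_centralizer_singleton_iff] at hab
      refine Subtype.ext (Subtype.ext ?_)
      simp only [Subgroup.coe_mul, Subgroup.coe_inv] at hab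
      show (a : G) * s * (a : G)⁻¹ = b * s * (b : G)⁻¹
      calc (a : G) * s * (a : G)⁻¹ = a * (s * ((a : G)⁻¹ * b)) * (b : G)⁻¹ := by group
        _ = a * ((a : G)⁻¹ * b * s) * (b : G)⁻¹ := by rw [hab]
        _ = _ := by group)
  have hf : Function.Bijective f := by
    refine ⟨?_, fun e => ?_⟩
    · intro a b
      refine Quotient.inductionOn₂ a b fun a b e => ?_
      refine Quotient.sound ?_
      show QuotientGroup.leftRel C a b
      rw [QuotientGroup.leftRel_apply, mem_subgroupOf, mem_centralizer_singleton_iff]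
      have e' : (a : G) * s * (a : G)⁻¹ = b * s * (b : G)⁻¹ := congrArg (fun t : {e : E // (e : G) ≠ 1} => (t.1 : G)) e
      simp only [Subgroup.coe_mul, Subgroup.coe_inv]
      calc (a : G)⁻¹ * b * s = (a : G)⁻¹ * (b * s * (b : G)⁻¹) * b := by group
        _ = _ := by rw [← e']; group
    · obtain ⟨m, hm, em⟩ := H.normalizer_trans e.1.2 e.2
      exact ⟨QuotientGroup.mk ⟨m, hm⟩, Subtype.ext (Subtype.ext em)⟩
  have h7 : Nat.card {e : E // (e : G) ≠ 1} = 7 := by
    letI : Fintype E := Fintype.ofFinite E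
    rw [Nat.card_eq_fintype_card, Fintype.card_subtype_compl, ← Nat.card_eq_fintype_card, H.card,
      show Fintype.card {x : E // (x : G) = 1} = 1 from Fintype.card_eq_one_iff.2
        ⟨⟨1, rfl⟩, fun x => Subtype.ext (Subtype.ext x.2)⟩]
  rw [← C.card_mul_index, Nat.card_congr (subgroupOfEquivOfLe hle).toEquiv, H.cardC, index_eq_card,
    Nat.card_eq_of_bijective f hf, h7]

/-- No element of order seven in the normalizer commutes with an involution outside. -/
theorem no_seven {h r : G} (hh : h ∈ normalizer (E : Set G)) (hr : r ∈ normalizer (E : Set G)) (h7 : orderOf h = 7)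
    (hr2 : r * r = 1) (hc : h * r = r * h) : r ∈ E := by
  classical
  obtain ⟨e, he, he1, hre⟩ : ∃ e ∈ E, e ≠ 1 ∧ r * e = e * r := by
    have hconj := (mem_normalizer_iff.1 hr s).1 H.s_mem
    rcases eq_or_ne (r * s * r⁻¹) s with h | h
    · exact ⟨s, H.s_mem, H.s_ne, mul_inv_eq_iff_eq_mul.1 h⟩
    refine ⟨s * (r * s * r⁻¹), mul_mem H.s_mem hconj, fun e => h ?_, ?_⟩
    · exact (mul_left_cancel (e.trans H.ss.symm))
    · have hri : r⁻¹ = r := inv_eq_of_mul_eq_one_right hr2
      have hc2 := H.comm s H.s_mem _ hconj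
      calc r * (s * (r * s * r⁻¹)) = r * (r * s * r⁻¹ * s) := by rw [hc2]
        _ = r * r * s * r⁻¹ * s := by group
        _ = s * r * s := by rw [hr2, hri, one_mul]
        _ = s * (r * s * r⁻¹) * r := by group
  let B : Subgroup G := E ⊓ centralizer ({r} : Set G)
  have hB : ∀ b ∈ B, h * b * h⁻¹ ∈ B := fun b hb => by
    obtain ⟨h1, h2⟩ := mem_inf.1 hb
    rw [mem_centralizer_singleton_iff] at h2
    refine mem_inf.2 ⟨(mem_normalizer_iff.1 hh b).1 h1, mem_centralizer_singleton_iff.2 ?_⟩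
    calc h * b * h⁻¹ * r = h * b * (h⁻¹ * r * h) * h⁻¹ := by group
      _ = h * (b * r) * h⁻¹ := by rw [mul_assoc h⁻¹ r h, ← hc]; group
      _ = h * (r * b) * h⁻¹ := by rw [h2]
      _ = _ := by rw [← mul_assoc, hc]; group
  let f : Fin 7 → {b : B // (b : G) ≠ 1} := fun i =>
    ⟨⟨h ^ (i : ℕ) * e * (h ^ (i : ℕ))⁻¹, by
      induction (i : ℕ) with
      | zero => exact mem_inf.2 ⟨by simpa using he, by simpa [mem_centralizer_singleton_iff] using hre.symm⟩
      | succ n ih =>
        have := hB _ ih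
        rwa [show h * (h ^ n * e * (h ^ n)⁻¹) * h⁻¹ = h ^ (n + 1) * e * (h ^ (n + 1))⁻¹ by rw [pow_succ']; group] at this⟩,
      fun e' => he1 (conj_eq_one_iff.1 e')⟩
  have hinj : Function.Injective f := by
    intro i j eij
    by_contra hne
    obtain ⟨k, hk0, hk7, hfix⟩ : ∃ k, 0 < k ∧ k < 7 ∧ h ^ k * e * (h ^ k)⁻¹ = e := by
      have eij' : h ^ (i : ℕ) * e * (h ^ (i : ℕ))⁻¹ = h ^ (j : ℕ) * e * (h ^ (j : ℕ))⁻¹ :=
        congrArg (fun t : {b : B // (b : G) ≠ 1} => (t.1 : G)) eij
      rcases lt_or_gt_of_ne (fun e => hne (Fin.ext e) : (i : ℕ) ≠ j) with hlt | hlt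
      · obtain ⟨d, hd⟩ := Nat.exists_eq_add_of_lt hlt
        refine ⟨d + 1, by omega, by omega, ?_⟩
        rw [hd, add_assoc, pow_add] at eij'
        calc h ^ (d + 1) * e * (h ^ (d + 1))⁻¹
            = (h ^ (i : ℕ))⁻¹ * (h ^ (i : ℕ) * h ^ (d + 1) * e * (h ^ (i : ℕ) * h ^ (d + 1))⁻¹) * h ^ (i : ℕ) := by group
          _ = e := by rw [← eij']; group
      · obtain ⟨d, hd⟩ := Nat.exists_eq_add_of_lt hlt
        refine ⟨d + 1, by omega, by omega, ?_⟩
        rw [hd, add_assoc, pow_add] at eij'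
        calc h ^ (d + 1) * e * (h ^ (d + 1))⁻¹
            = (h ^ (j : ℕ))⁻¹ * (h ^ (j : ℕ) * h ^ (d + 1) * e * (h ^ (j : ℕ) * h ^ (d + 1))⁻¹) * h ^ (j : ℕ) := by group
          _ = e := by rw [eij']; group
    obtain ⟨m, hm⟩ := isConj_iff.1 (H.fused e he he1)
    have hc7 : orderOf (m⁻¹ * h ^ k * m) = 7 := by
      have e1 : orderOf (h ^ k) = 7 := by
        rw [Nat.Coprime.orderOf_pow, h7]
        rw [h7]
        exact (Nat.Prime.coprime_iff_not_dvd (by norm_num)).2 (Nat.not_dvd_of_pos_of_lt hk0 hk7)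
      rw [← e1]
      exact (orderOf_injective (MulAut.conj m⁻¹).toMonoidHom (MulAut.conj m⁻¹).injective (h ^ k)).trans rfl ▸
        by simp
    have hmem : m⁻¹ * h ^ k * m ∈ centralizer ({s} : Set G) := by
      rw [mem_centralizer_singleton_iff]
      calc m⁻¹ * h ^ k * m * s = m⁻¹ * (h ^ k * (m * s * m⁻¹)) * m := by group
        _ = m⁻¹ * (m * s * m⁻¹ * h ^ k) * m := by rw [hm, mul_inv_eq_iff_eq_mul.1 hfix]
        _ = _ := by group
    have := Subgroup.orderOf_dvd_natCard _ hmem
    rw [hc7, H.cardC] at this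
    norm_num at this
  have h7le : 7 ≤ Nat.card {b : B // (b : G) ≠ 1} := by simpa using Nat.card_le_card_of_injective f hinj
  have hBE : B = E := by
    refine eq_of_le_of_card_ge inf_le_left ?_
    rw [H.card]
    letI : Fintype B := Fintype.ofFinite B
    rw [Nat.card_eq_fintype_card, Fintype.card_subtype_compl,
      show Fintype.card {x : B // (x : G) = 1} = 1 from Fintype.card_eq_one_iff.2
        ⟨⟨1, rfl⟩, fun x => Subtype.ext (Subtype.ext x.2)⟩] at h7le
    rw [Nat.card_eq_fintype_card]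
    omega
  refine H.eq_one_or_of_cent fun x hx => ?_
  rw [← hBE] at hx
  exact (mem_centralizer_singleton_iff.1 (mem_inf.1 hx).2).symm

/-- The centralizer of an involution of the normalizer lies in it. -/
theorem cent_le {r : G} (hr : r ∈ normalizer (E : Set G)) (hr2 : r * r = 1) (hr1 : r ≠ 1) {k : G}
    (hk : k * r = r * k) : k ∈ normalizer (E : Set G) := by
  classical
  haveI : Fact (Nat.Prime 2) := ⟨Nat.prime_two⟩
  by_cases hrE : r ∈ E
  · exact (H.block hrE hr1 hk).1
  set N := normalizer (E : Set G) with hN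
  set K := centralizer ({r} : Set G) with hK
  -- the fixed points
  let A : Subgroup G := E ⊓ K
  have hri : r⁻¹ = r := inv_eq_of_mul_eq_one_right hr2
  have hprod : ∀ e ∈ E, e * (r * e * r⁻¹) ∈ A := fun e he => by
    have hce := (mem_normalizer_iff.1 hr e).1 he
    refine mem_inf.2 ⟨mul_mem he hce, mem_centralizer_singleton_iff.2 ?_⟩
    rw [H.comm e he _ hce, hri]
    calc r * e * r * e * r = r * (e * r * e) * r := by group
      _ = r * (e * (r * e * r)) := by group
      _ = r * ((r * e * r) * e) := by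
        have h := H.comm e he _ hce
        rw [hri] at h
        rw [h]
      _ = r * (r * e * r * e) := by group
  obtain ⟨a, b, haA, hbA, ha1, hb1, hab⟩ : ∃ a b, a ∈ A ∧ b ∈ A ∧ a ≠ 1 ∧ b ≠ 1 ∧ a ≠ b := by
    by_contra hno
    push Not at hno
    obtain ⟨e₁, he₁, hn₁⟩ : ∃ e ∈ E, r * e * r⁻¹ ≠ e := by
      by_contra h; push Not at h
      exact hrE (H.eq_one_or_of_cent fun e he => mul_inv_eq_iff_eq_mul.1 (h e he))
    set a := e₁ * (r * e₁ * r⁻¹) with hadef
    have ha1 : a ≠ 1 := fun h => hn₁ (mul_left_cancel (h.trans (H.sq e₁ he₁).symm))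
    have huniq : ∀ x ∈ A, x = 1 ∨ x = a := fun x hx => by
      by_contra h; push Not at h
      exact h.2 (hno x a hx (hprod e₁ he₁) h.1 ha1)
    have hinj : ∀ e ∈ E, e ∈ A ∨ e₁ * e ∈ A := fun e he => by
      rcases huniq _ (hprod e he) with h | h
      · left
        refine mem_inf.2 ⟨he, mem_centralizer_singleton_iff.2 ?_⟩
        exact (mul_inv_eq_iff_eq_mul.1 (mul_left_cancel (h.trans (H.sq e he).symm))).symm
      · right
        refine mem_inf.2 ⟨mul_mem he₁ he, mem_centralizer_singleton_iff.2 ?_⟩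
        have e1 : r * e₁ * r⁻¹ = e₁ * a := by rw [hadef, ← mul_assoc, H.sq e₁ he₁, one_mul]
        have e2 : r * e * r⁻¹ = e * a := by rw [← h, ← mul_assoc, H.sq e he, one_mul]
        have e3 : r * (e₁ * e) * r⁻¹ = e₁ * e := by
          rw [show r * (e₁ * e) * r⁻¹ = r * e₁ * r⁻¹ * (r * e * r⁻¹) by group, e1, e2]
          have haE : a ∈ E := (mem_inf.1 (hprod e₁ he₁)).1
          rw [mul_assoc, ← mul_assoc a e, H.comm a haE e he, mul_assoc e a, H.sq a haE, mul_one]
        exact (mul_inv_eq_iff_eq_mul.1 e3).symm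
    let g : E → Fin 2 × Fin 2 := fun e =>
      (if (e : G) ∈ A then 0 else 1, if (e : G) ∈ A then (if (e : G) = 1 then 0 else 1) else (if e₁ * e = 1 then 0 else 1))
    have hg : Function.Injective g := by
      intro x y exy
      simp only [g, Prod.mk.injEq] at exy
      obtain ⟨h1, h2⟩ := exy
      apply Subtype.ext
      by_cases hx : (x : G) ∈ A <;> by_cases hy : (y : G) ∈ A <;> simp [hx, hy] at h1 h2
      · rcases huniq _ hx with hx' | hx' <;> rcases huniq _ hy with hy' | hy' <;>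
          simp_all
      · rcases huniq _ ((hinj x x.2).resolve_left hx) with hx' | hx' <;>
          rcases huniq _ ((hinj y y.2).resolve_left hy) with hy' | hy' <;> simp [hx', hy', ha1] at h2 ⊢ <;>
          first | exact mul_left_cancel (a := e₁) (hx'.trans hy'.symm) |
            exact Subtype.ext (mul_left_cancel (a := e₁) (hx'.trans hy'.symm))
    have := Nat.card_le_card_of_injective g hg
    rw [H.card, Nat.card_prod, Nat.card_fin] at this
    omega
  have hcA : ∀ x ∈ A, x ∈ K ∧ x ∈ E := fun x hx => ⟨(mem_inf.1 hx).2, (mem_inf.1 hx).1⟩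
  -- a fixed point of the two-group
  set T := N ⊓ K with hT
  have hT2 : IsPGroup 2 T := by
    refine IsPGroup.iff_orderOf.2 fun t => ?_
    have hd : orderOf (t : G) ∣ 1344 := H.card_normalizer ▸ Subgroup.orderOf_dvd_natCard _ (mem_inf.1 t.2).1
    rw [Subgroup.orderOf_coe] at hd
    have hno : ∀ p ∈ [3, 7], ¬ p ∣ orderOf t := by
      intro p hp hdiv
      have hpk : orderOf ((t : G) ^ (orderOf t / p)) = p := by
        rw [orderOf_pow, Subgroup.orderOf_coe]
        have h0 := orderOf_pos t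
        obtain ⟨c, hc⟩ := hdiv
        have hp0 : 0 < p := by simp at hp; rcases hp with rfl | rfl <;> norm_num
        rw [hc, Nat.mul_div_cancel_left _ hp0, Nat.gcd_eq_right ⟨p, mul_comm _ _⟩]
        exact Nat.mul_div_cancel p (Nat.pos_of_ne_zero fun e => by rw [e, mul_zero] at hc; omega)
      have hmN : (t : G) ^ (orderOf t / p) ∈ N := pow_mem (mem_inf.1 t.2).1 _
      have hmr : (t : G) ^ (orderOf t / p) * r = r * (t : G) ^ (orderOf t / p) :=
        ((show Commute (t : G) r from mem_centralizer_singleton_iff.1 (mem_inf.1 t.2).2).pow_left _).eq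
      simp only [List.mem_cons, List.not_mem_nil, or_false] at hp
      rcases hp with rfl | rfl
      · refine hrE (H.no_three hmN hr ?_ (fun e => by rw [e, orderOf_one] at hpk; omega) hr2 hr1 hmr)
        have h := pow_orderOf_eq_one ((t : G) ^ (orderOf t / 3))
        rw [hpk, pow_succ, pow_two] at h
        exact h
      · exact hrE (H.no_seven hmN hr hpk hr2 hmr)
    obtain ⟨i, hi, hi'⟩ := (Nat.dvd_prime_pow Nat.prime_two).1
      (show orderOf t ∣ 2 ^ 6 from
        (Nat.Coprime.dvd_of_dvd_mul_right (n := 21) (((Nat.Prime.coprime_iff_not_dvd (by norm_num : Nat.Prime 3)).2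
            (hno 3 (by simp))).symm.mul_right ((Nat.Prime.coprime_iff_not_dvd (by norm_num : Nat.Prime 7)).2
            (hno 7 (by simp))).symm) (by norm_num; exact hd)))
    exact ⟨i, hi'⟩
  obtain ⟨a₀, ha₀, ha₀1, hfix⟩ : ∃ a₀ ∈ A, a₀ ≠ 1 ∧ ∀ t ∈ T, t * a₀ = a₀ * t := by
    let φ : T →* Equiv.Perm A :=
      { toFun := fun t =>
          { toFun := fun x => ⟨(t : G) * x * (t : G)⁻¹, mem_inf.2 ⟨(mem_normalizer_iff.1 (mem_inf.1 t.2).1 _).1 (hcA x x.2).2,
              mul_mem (mul_mem (mem_inf.1 t.2).2 (hcA x x.2).1) (inv_mem (mem_inf.1 t.2).2)⟩⟩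
            invFun := fun x => ⟨(t : G)⁻¹ * x * (t : G), mem_inf.2 ⟨by
              have := (mem_normalizer_iff.1 (inv_mem (mem_inf.1 t.2).1) _).1 (hcA x x.2).2
              rwa [inv_inv] at this,
              mul_mem (mul_mem (inv_mem (mem_inf.1 t.2).2) (hcA x x.2).1) (mem_inf.1 t.2).2⟩⟩
            left_inv := fun x => Subtype.ext (by simp; group)
            right_inv := fun x => Subtype.ext (by simp; group) }
        map_one' := Equiv.ext fun x => Subtype.ext (by simp)
        map_mul' := fun t t' => Equiv.ext fun x => Subtype.ext (by simp; group) }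
    letI : MulAction T A := MulAction.compHom A φ
    have h2 : 2 ∣ Nat.card A := by
      haveI := Fact.mk Nat.prime_two
      have : orderOf (⟨a, haA⟩ : A) = 2 := orderOf_eq_prime (Subtype.ext (by simpa [pow_two] using H.sq a (hcA a haA).2))
        (fun e => ha1 (congrArg Subtype.val e))
      exact this ▸ orderOf_dvd_natCard _
    have h1 : (1 : A) ∈ MulAction.fixedPoints T A := fun t => Subtype.ext (by
      show (t : G) * 1 * (t : G)⁻¹ = 1
      group)
    obtain ⟨b', hb', hne⟩ := hT2.exists_fixed_point_of_prime_dvd_card_of_fixed_point A h2 h1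
    exact ⟨b', b'.2, fun e => hne (Subtype.ext e.symm), fun t ht =>
      mul_inv_eq_iff_eq_mul.1 (congrArg Subtype.val (hb' ⟨t, ht⟩))⟩
  -- isolation
  have ha₀E := (hcA a₀ ha₀).2
  have ha₀K : a₀ ∈ K := (hcA a₀ ha₀).1
  have hord : orderOf (⟨a₀, ha₀K⟩ : K) = 2 := by
    rw [← Subgroup.orderOf_coe]
    exact orderOf_eq_prime (by rw [pow_two]; exact H.sq a₀ ha₀E) ha₀1
  have hiso : Cfsg.IsIsolatedInvolution (⟨a₀, ha₀K⟩ : K) := by
    refine ⟨hord, fun g hg => Subtype.ext ?_⟩
    show (g : G) * a₀ * (g : G)⁻¹ = a₀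
    have hg' : (g : G) * a₀ * (g : G)⁻¹ * a₀ = a₀ * ((g : G) * a₀ * (g : G)⁻¹) := (congrArg Subtype.val hg.eq).symm
    have hconj : IsConj s ((g : G) * a₀ * (g : G)⁻¹) := (H.fused a₀ ha₀E ha₀1).trans (isConj_iff.2 ⟨g, rfl⟩)
    have hyE := (H.block ha₀E ha₀1 hg').2 hconj
    obtain ⟨m₀, hm₀N, hm₀⟩ := H.normalizer_trans ha₀E ha₀1
    have hgN : (g : G) ∈ N := by
      have h1 : (g : G) * m₀ ∈ N := H.carrier (by rwa [show (g : G) * m₀ * s * ((g : G) * m₀)⁻¹ = g * (m₀ * s * m₀⁻¹) * (g : G)⁻¹ by group, hm₀])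
      have := mul_mem h1 (inv_mem hm₀N)
      rwa [mul_inv_cancel_right] at this
    exact mul_inv_eq_iff_eq_mul.2 (hfix g (mem_inf.2 ⟨hgN, g.2⟩))
  have hz := CfsgLib.Invol.zstar hiso
  set O := Cfsg.pPrimeCore 2 K with hO
  have hnd : ¬ 2 ∣ Nat.card O := CfsgLib.Coprime.pPrimeCore_not_dvd (G := K) Nat.prime_two
  haveI : O.Characteristic := CfsgLib.Coprime.pPrimeCore_characteristic 2
  have hodd : Odd (Nat.card O) := Nat.odd_iff.2 (by omega)
  have hinv : ∀ x, (hx : x ∈ A) → x ≠ 1 → ∀ o ∈ O, x * (o : G) * x = (o : G)⁻¹ := by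
    intro x hx hx1 o ho
    obtain ⟨hxK, hxE⟩ := hcA x hx
    have hsq : (⟨x, hxK⟩ : K) * ⟨x, hxK⟩ = 1 := Subtype.ext (H.sq x hxE)
    have h := CfsgLib.Spor.MTwelveCent.inverts_of_fixed_trivial (N := O) hodd hsq (fun y hy => by
        have := (inferInstance : O.Normal).conj_mem y hy ⟨x, hxK⟩
        rwa [inv_eq_of_mul_eq_one_right hsq] at this)
      (fun y hy e => ?_) o ho
    · exact congrArg Subtype.val h
    · have hyT : (y : G) ∈ T := mem_inf.2 ⟨(H.block hxE hx1 (congrArg Subtype.val e).symm).1, y.2⟩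
      obtain ⟨i, hi⟩ := hT2 ⟨(y : G), hyT⟩
      have h1 : orderOf y ∣ 2 ^ i := orderOf_dvd_of_pow_eq_one (Subtype.ext (congrArg (fun z : T => (z : G)) hi))
      have h2 : orderOf y ∣ Nat.card O := Subgroup.orderOf_dvd_natCard O hy
      exact orderOf_eq_one_iff.1 (Nat.eq_one_of_dvd_coprimes
        (Nat.Coprime.pow_left i ((Nat.Prime.coprime_iff_not_dvd Nat.prime_two).2 hnd)) h1 h2)
  have hbot : ∀ o ∈ O, o = 1 := by
    intro o ho
    have hab1 : a * b ≠ 1 := fun e => hab (mul_right_cancel (e.trans (H.sq b (hcA b hbA).2).symm))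
    have e1 := hinv a haA ha1 o ho
    have e2 := hinv b hbA hb1 o⁻¹ (inv_mem ho)
    have e3 := hinv (a * b) (mul_mem haA hbA) hab1 o ho
    simp only [Subgroup.coe_inv] at e2
    have hba := H.comm a (hcA a haA).2 b (hcA b hbA).2
    have e4 : a * b * (o : G) * (a * b) = o := by
      calc a * b * (o : G) * (a * b) = b * a * o * (a * b) := by rw [hba]
        _ = b * (a * o * a) * b := by group
        _ = o := by rw [e1, e2, inv_inv]
    rw [e3] at e4
    have h2 : o * o = 1 := Subtype.ext (by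
      show (o : G) * o = 1
      nth_rewrite 1 [← e4]; group)
    exact orderOf_eq_one_iff.1 (Nat.eq_one_of_dvd_coprimes (Nat.coprime_two_left.2 hodd)
      (orderOf_dvd_of_pow_eq_one (by rw [pow_two, h2])) (Subgroup.orderOf_dvd_natCard O ho))
  have hkc := hbot _ (hz ⟨k, mem_centralizer_singleton_iff.2 hk⟩)
  rw [mul_inv_eq_one] at hkc
  have hcomm : a₀ * k * a₀⁻¹ = k := congrArg Subtype.val hkc
  exact (H.block ha₀E ha₀1 (mul_inv_eq_iff_eq_mul.1 hcomm).symm).1

theorem normal : E.Normal := by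
  classical
  obtain ⟨r, hrs, hr2, hrE⟩ := H.outer
  have hr1 : r ≠ 1 := fun h => hrE (h ▸ one_mem E)
  have hrN := H.cent_s_le hrs
  haveI : Fact (Nat.Prime 2) := ⟨Nat.prime_two⟩
  have hro : orderOf r = 2 := orderOf_eq_prime (by rw [pow_two, hr2]) hr1
  have hns : ¬ IsConj s r := fun h => hrE (H.closed r h hrs)
  have hi : ∀ y, orderOf y = 2 → ¬ IsConj s y → y ∈ normalizer (E : Set G) := fun y hy hn => by
    obtain ⟨i, hi2, his, hiy⟩ := CfsgLib.Invol.exists_invol_commute_both H.ord hy hn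
    exact H.cent_le (H.cent_s_le his.eq) (CfsgLib.Invol.invol_mul_self hi2) (CfsgLib.Invol.invol_ne_one hi2) hiy.eq.symm
  refine ⟨fun e he g => ?_⟩
  rcases eq_or_ne e 1 with rfl | he1
  · simp
  set y := g * e * g⁻¹
  have hy : IsConj s y := (H.fused e he he1).trans (isConj_iff.2 ⟨g, rfl⟩)
  have hyo : orderOf y = 2 := by
    obtain ⟨m, hm⟩ := isConj_iff.1 hy
    rw [← hm]; exact CfsgLib.Invol.invol_conj H.ord m
  have hnc : ¬ IsConj r y := fun h => hns (hy.trans h.symm)
  obtain ⟨i, hi2, hir, hiy⟩ := CfsgLib.Invol.exists_invol_commute_both hro hyo hnc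
  have hiN := H.cent_le hrN hr2 hr1 hir.eq
  have hyN := H.cent_le hiN (CfsgLib.Invol.invol_mul_self hi2) (CfsgLib.Invol.invol_ne_one hi2) hiy.eq.symm
  obtain ⟨e', he', he1', hye⟩ : ∃ e' ∈ E, e' ≠ 1 ∧ y * e' = e' * y := by
    have hconj := (mem_normalizer_iff.1 hyN s).1 H.s_mem
    have hy2 := CfsgLib.Invol.invol_mul_self hyo
    rcases eq_or_ne (y * s * y⁻¹) s with h | h
    · exact ⟨s, H.s_mem, H.s_ne, mul_inv_eq_iff_eq_mul.1 h⟩
    refine ⟨s * (y * s * y⁻¹), mul_mem H.s_mem hconj, fun e => h (mul_left_cancel (e.trans H.ss.symm)), ?_⟩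
    have e1 : y * (s * (y * s * y⁻¹)) * y⁻¹ = s * (y * s * y⁻¹) := by
      calc y * (s * (y * s * y⁻¹)) * y⁻¹ = y * s * y⁻¹ * (y * y * s * (y * y)⁻¹) := by group
        _ = y * s * y⁻¹ * s := by rw [hy2]; group
        _ = _ := (H.comm s H.s_mem _ hconj).symm
    exact mul_inv_eq_iff_eq_mul.1 e1
  exact (H.block he' he1' hye).2 hy

/-- The quotient is the linear group. -/
theorem exists_linear : ∃ (N : Subgroup G) (_hN : N.Normal), IsMulCommutative N ∧ (∀ n ∈ N, n ^ 2 = 1) ∧
    Nat.card N = 8 ∧ Nonempty (G ⧸ N ≃* Matrix.ProjectiveSpecialLinearGroup (Fin 3) (ZMod 2)) := by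
  classical
  haveI := H.normal
  refine ⟨E, H.normal, ⟨⟨fun a b => Subtype.ext (H.comm a a.2 b b.2)⟩⟩, fun n hn => by rw [pow_two]; exact H.sq n hn,
    H.card, ?_⟩
  haveI : Fact (Nat.Prime 2) := ⟨Nat.prime_two⟩
  letI : CommGroup E := { (inferInstance : Group E) with mul_comm := fun a b => Subtype.ext (H.comm a a.2 b b.2) }
  letI : Module (ZMod 2) (Additive E) :=
    AddCommGroup.zmodModule (n := 2) fun x => by
      show Additive.toMul x ^ 2 = 1
      exact Subtype.ext (by simpa [pow_two] using H.sq _ (Additive.toMul x).2)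
  haveI : Finite (Additive E) := inferInstanceAs (Finite E)
  have hrank : Module.finrank (ZMod 2) (Additive E) = 3 := by
    have h1 := Module.natCard_eq_pow_finrank (K := ZMod 2) (V := Additive E)
    rw [Nat.card_zmod, show Nat.card (Additive E) = Nat.card E from rfl, H.card] at h1
    exact (Nat.pow_right_injective (le_refl 2) (show 2 ^ 3 = 2 ^ _ from h1)).symm
  let L : Additive E ≃ₗ[ZMod 2] (Fin 3 → ZMod 2) :=
    LinearEquiv.ofFinrankEq _ _ (by rw [hrank, Module.finrank_pi, Fintype.card_fin])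
  let ext : G →* (Additive E →ₗ[ZMod 2] Additive E) :=
    { toFun := fun g => AddMonoidHom.toZModLinearMap 2 (MonoidHom.toAdditive (MulAut.conjNormal g : MulAut E).toMonoidHom)
      map_one' := LinearMap.ext fun x => by simp
      map_mul' := fun a b => LinearMap.ext fun x => by simp }
  let toM : G →* GL (Fin 3) (ZMod 2) :=
    ((LinearMap.toMatrixAlgEquiv'.toMonoidHom).comp ((L.conjRingEquiv.toMonoidHom).comp ext)).toHomUnits
  have hker : toM.ker = E := by
    ext g
    rw [MonoidHom.mem_ker]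
    constructor
    · intro h
      have h1 : ext g = 1 := L.conjRingEquiv.injective (by
        rw [map_one]
        exact LinearMap.toMatrixAlgEquiv'.injective ((congrArg Units.val h).trans (map_one _).symm))
      refine H.eq_one_or_of_cent fun e he => ?_
      have h2 := LinearMap.congr_fun h1 (Additive.ofMul ⟨e, he⟩)
      exact mul_inv_eq_iff_eq_mul.1 (congrArg (fun t : Additive E => ((Additive.toMul t : E) : G)) h2)
    · intro hg
      have h1 : ext g = 1 := LinearMap.ext fun x => by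
        refine congrArg Additive.ofMul (Subtype.ext ?_ : (MulAut.conjNormal g (Additive.toMul x) : E) = Additive.toMul x)
        rw [MulAut.conjNormal_apply, H.comm g hg _ (Additive.toMul x).2, mul_inv_cancel_right]
      refine Units.ext ?_
      show LinearMap.toMatrixAlgEquiv' (L.conjRingEquiv (ext g)) = 1
      rw [h1, map_one, map_one]
  have hNtop : normalizer (E : Set G) = ⊤ := normalizer_eq_top_iff.2 H.normal
  have hG : Nat.card G = 1344 := by rw [← H.card_normalizer, hNtop, card_top]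
  have hGL : Nat.card (GL (Fin 3) (ZMod 2)) = 168 := by
    rw [Matrix.card_GL_field]
    simp [Fin.prod_univ_three]
  have hsurj : Function.Surjective toM := by
    refine MonoidHom.range_eq_top.1 (Subgroup.eq_top_of_card_eq _ ?_)
    have h := toM.ker.index_mul_card
    rw [Subgroup.index_ker, hker, H.card, hG] at h
    rw [hGL]; omega
  have hcent : Subgroup.center (Matrix.SpecialLinearGroup (Fin 3) (ZMod 2)) = ⊥ := by
    refine (Subgroup.eq_bot_iff_forall _).2 fun A hA => ?_
    obtain ⟨r, hr3, hr⟩ := Matrix.SpecialLinearGroup.mem_center_iff.1 hA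
    have hr1 : r = 1 := by revert hr3; revert r; simp
    refine Subtype.ext ?_
    rw [← hr, hr1, map_one, Matrix.SpecialLinearGroup.coe_one]
  have h2 : ∀ x : ZMod 2, x = 0 ∨ x = 1 := zmod_two_cases
  let toS : GL (Fin 3) (ZMod 2) ≃* Matrix.SpecialLinearGroup (Fin 3) (ZMod 2) :=
    { toFun := fun A => ⟨A.val, by
        have h : IsUnit (Matrix.det A.val) := (Matrix.isUnit_iff_isUnit_det _).1 A.isUnit
        exact (h2 _).resolve_left h.ne_zero⟩
      invFun := fun A => Matrix.SpecialLinearGroup.toGL A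
      left_inv := fun A => Units.ext rfl
      right_inv := fun A => Subtype.ext rfl
      map_mul' := fun A B => Subtype.ext rfl }
  exact ⟨(QuotientGroup.quotientMulEquivOfEq hker.symm).trans
    ((QuotientGroup.quotientKerEquivOfSurjective toM hsurj).trans (toS.trans
      ((QuotientGroup.quotientMulEquivOfEq hcent).trans QuotientGroup.quotientBot).symm))⟩

end Closed8

end CfsgLib.Spor.ExtraSymThree
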