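import Cfsg.Agent.Lib.Spor.ExtraSymThree.BPattern
import Cfsg.Agent.Lib.Spor.ExtraSymThree.Closed

/-!
# One fused class, or the standard three
-/

set_option autoImplicit false
set_option maxRecDepth 100000
set_option linter.unusedSectionVars false

namespace CfsgLib.Spor.ExtraSymThree

open Subgroup

/-- The standard fused classes. -/
def stdFused : List ℕ := [2, 10, 97]

theorem single_facts : ∀ a ∈ [2, 8, 10], a ∈ bReps ∧ ClosedB (0 :: 1 :: clsB a) ∧ (0 :: 1 :: clsB a).Nodup ∧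
    (0 :: 1 :: clsB a).length = 8 ∧ (∀ c ∈ 0 :: 1 :: clsB a, ∀ d ∈ 0 :: 1 :: clsB a, comB c d = true) ∧
    (∀ c < 192, (∀ d ∈ 0 :: 1 :: clsB a, comB c d = true) → c ∈ 0 :: 1 :: clsB a) ∧ 96 ∉ 0 :: 1 :: clsB a := by
  decide +kernel

theorem b_three_check : ((List.range 192).all fun h => h == 0 || mB (mB h h) h != 0 ||
    (List.range 192).all fun r => r == 0 || r == 1 || mB r r != 0 || !comB h r) = true := by decide +kernel

theorem b_three (h : ℕ) (hh : h < 192) (h0 : h ≠ 0) (h3 : mB (mB h h) h = 0) (r : ℕ) (hr : r < 192) (hr0 : r ≠ 0)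
    (hr2 : mB r r = 0) (hc : comB h r = true) : r = 1 := by
  have k := b_three_check
  simp only [List.all_eq_true, List.mem_range, Bool.or_eq_true, beq_iff_eq, bne_iff_ne, Bool.not_eq_true'] at k
  rcases (k h hh) with (e | e) | e
  · exact absurd e h0
  · exact absurd h3 e
  · rcases e r hr with ((e | e) | e) | e
    · exact absurd e hr0
    · exact e
    · exact absurd hr2 e
    · rw [hc] at e; exact absurd e (by decide)

theorem relabel_check : ∀ P ∈ goodPatterns, (∃ a ∈ [2, 8, 10], P = [a]) ∨ ∃ i < 6, ∀ r ∈ bReps, ∃ r' ∈ bReps,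
    autoB i r ∈ clsB r' ∧ (r' ∈ P ↔ r ∈ stdFused) := by decide +kernel

namespace BModel

variable {G : Type*} [Group G] [Finite G] {s : G} {ψ : ℕ → G} (M : BModel s ψ)
include M

theorem closed_of_single {a : ℕ} (ha : a ∈ [2, 8, 10]) (hP : patternB s ψ = [a]) : ∃ E, Closed8 s E := by
  obtain ⟨har, hC, hn, hl, hcm, hself, h96⟩ := single_facts a ha
  have hfus : IsConj s (ψ a) := (M.mem_pattern har).1 (hP ▸ List.mem_cons_self)
  refine ⟨M.sub _ hC, M.ord, by rw [M.card_sub _ _ hn, hl], ?_, ?_, ?_, ?_, ?_, ?_, M.card, ?_⟩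
  · rintro _ ⟨c, hc, rfl⟩ _ ⟨d, hd, rfl⟩
    exact (M.comm_iff (hC.2 c hc).1 (hC.2 d hd).1).2 (hcm c hc d hd)
  · rintro _ ⟨c, hc, rfl⟩
    rcases List.mem_cons.1 hc with rfl | hc
    · rw [M.one, one_mul]
    rcases List.mem_cons.1 hc with rfl | hc
    · rw [M.at_s, M.ss]
    · exact (M.code_ne har hc).2
  · rintro _ ⟨c, hc, rfl⟩ hne
    rcases List.mem_cons.1 hc with rfl | hc
    · exact absurd M.one hne
    rcases List.mem_cons.1 hc with rfl | hc
    · rw [M.at_s]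
    · exact hfus.trans (M.isConj_cls har hc)
  · intro y hy hys
    obtain ⟨g, rfl⟩ := isConj_iff.1 hy
    rcases M.inv_code hys (by rw [show g * s * g⁻¹ * (g * s * g⁻¹) = g * (s * s) * g⁻¹ by group, M.ss]; group)
      (fun h => M.s_ne (conj_eq_one_iff.1 h)) with e | ⟨r, hr, c, hc, e⟩
    · rw [e]; exact ⟨1, by simp, M.at_s⟩
    · rw [← e] at hy ⊢
      have hr' := (M.mem_pattern hr).2 (hy.trans (M.isConj_cls hr hc).symm)
      rw [hP, List.mem_singleton] at hr'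
      subst hr'
      exact ⟨c, List.mem_cons_of_mem _ (List.mem_cons_of_mem _ hc), rfl⟩
  · intro g hg h
    obtain ⟨c, hc, rfl⟩ := M.code_of_comm hg
    exact ⟨c, hself c hc fun d hd => (M.comm_iff hc (hC.2 d hd).1).1 (h _ ⟨d, hd, rfl⟩), rfl⟩
  · intro h r hh hr h3 h1 hr2 hr1 hc
    obtain ⟨c, hcl, rfl⟩ := M.code_of_comm hh
    obtain ⟨d, hd, rfl⟩ := M.code_of_comm hr
    rw [M.mul c hcl c hcl, M.mul _ (mB_lt c hcl c hcl) c hcl, M.eq_one_iff (mB_lt _ (mB_lt c hcl c hcl) _ hcl)] at h3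
    rw [b_three c hcl (fun e => h1 (e ▸ M.one)) h3 d hd (fun e => hr1 (e ▸ M.one)) ((M.sq_iff hd).1 hr2)
      ((M.comm_iff hcl hd).1 hc), M.at_s]
  · refine ⟨ψ 96, M.comm_s (by norm_num), (M.sq_iff (by norm_num)).2 (by decide +kernel), fun h => h96 ?_⟩
    exact (M.code_mem_sub hC (by norm_num)).1 h

/-- Either one class is fused, or a suitable model has the standard pattern. -/
theorem split {c : ℕ} (hc : c < 32) (hc0 : c ≠ 0) (hc1 : c ≠ 1) (h : IsConj s (ψ c)) :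
    (∃ E, Closed8 s E) ∨ ∃ ψ' : ℕ → G, BModel s ψ' ∧ ∀ r ∈ bReps, (IsConj s (ψ' r) ↔ r ∈ stdFused) := by
  rcases relabel_check _ (M.pattern_cases hc hc0 hc1 h) with ⟨a, ha, e⟩ | ⟨i, hi, hrel⟩
  · exact Or.inl (M.closed_of_single ha e)
  · refine Or.inr ⟨_, M.relabelled hi, fun r hr => ?_⟩
    obtain ⟨r', hr', hmem, hiff⟩ := hrel r hr
    rw [← hiff, M.mem_pattern hr']
    exact ⟨fun h => h.trans (M.isConj_cls hr' hmem).symm, fun h => h.trans (M.isConj_cls hr' hmem)⟩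

end BModel

end CfsgLib.Spor.ExtraSymThree
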