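import Cfsg.Agent.Lib.Spor.ExtraSymThree.BNine
import Cfsg.Agent.Lib.Spor.ExtraSymThree.BSplit
import Cfsg.Agent.Lib.Invol.TwoClasses

/-!
# The alternating groups of degree eight and nine exhaust the group
-/

set_option autoImplicit false
set_option maxRecDepth 100000
set_option linter.unusedSectionVars false

namespace CfsgLib.Spor.ExtraSymThree

open Subgroup CfsgLib.Lie.BoundedPres

namespace BEmb

variable {G : Type*} [Group G] [Finite G] {s : G} {ψ : ℕ → G} {ka kb : G} {f : alternatingGroup (Pt 6) →* G}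
  (E : BEmb s ψ ka kb f)
include E

theorem eq_top {H : Subgroup G} (hf : f.range ≤ H) (hV : centFour ψ ≤ H) : H = ⊤ := by
  classical
  haveI : Fact (Nat.Prime 2) := ⟨Nat.prime_two⟩
  have M := E.std.model
  obtain ⟨-, -, ⟨-, h178, h1796, -, -⟩, -⟩ := nine_facts
  -- the centralizer of the involution of the four-group
  have hcv : ∀ g : G, g * ψ 8 = ψ 8 * g → g ∈ H := by
    intro g hg
    rcases E.four_normal hg with h | h
    · exact hV (mem_centFour.2 ⟨hg, mul_inv_eq_iff_eq_mul.1 h⟩)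
    · have y8 : ψ 17 * ψ 8 * (ψ 17)⁻¹ = ψ 8 := by
        rw [E.conj_code (by norm_num) (by norm_num) (by rw [h178]; norm_num), h178]
      have y96 : ψ 17 * ψ 96 * (ψ 17)⁻¹ = ψ 96 * ψ 8 := by
        rw [E.conj_code (by norm_num) (by norm_num) (by rw [h1796]; norm_num), h1796, ← cv_codes.2.1,
          ← M.mul 8 (by norm_num) 96 (by norm_num), E.commute_v_u]
      have g8 : g * ψ 8 * g⁻¹ = ψ 8 := mul_inv_eq_iff_eq_mul.2 hg
      have hm : (ψ 17)⁻¹ * g ∈ centFour ψ := by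
        refine mem_centFour.2 ⟨?_, ?_⟩
        · calc (ψ 17)⁻¹ * g * ψ 8 = (ψ 17)⁻¹ * (g * ψ 8 * g⁻¹) * g := by group
            _ = (ψ 17)⁻¹ * (ψ 17 * ψ 8 * (ψ 17)⁻¹) * g := by rw [g8, y8]
            _ = _ := by group
        · calc (ψ 17)⁻¹ * g * ψ 96 = (ψ 17)⁻¹ * (g * ψ 96 * g⁻¹) * g := by group
            _ = (ψ 17)⁻¹ * (ψ 17 * ψ 96 * (ψ 17)⁻¹) * g := by rw [h, y96]
            _ = _ := by group
      have := mul_mem (hf (E.code_mem (show 17 < 192 by norm_num))) (hV hm)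
      rwa [mul_inv_cancel_left] at this
  have hcs : ∀ g : G, g * s = s * g → g ∈ H := fun g hg => hf (E.cent_le hg)
  have good : ∀ {a b g : G}, g ∈ H → g * a * g⁻¹ = b → (∀ x, x * a = a * x → x ∈ H) → ∀ x, x * b = b * x → x ∈ H := by
    intro a b g hg hab ha x hx
    have h : g⁻¹ * x * g ∈ H := ha _ (by
      subst hab
      calc g⁻¹ * x * g * a = g⁻¹ * (x * (g * a * g⁻¹)) * g := by group
        _ = g⁻¹ * (g * a * g⁻¹ * x) * g := by rw [hx]
        _ = _ := by group)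
    have h' := mul_mem (mul_mem hg h) (inv_mem hg)
    rwa [show g * (g⁻¹ * x * g) * g⁻¹ = x by group] at h'
  have hso : orderOf s = 2 := M.ord
  have hvo : orderOf (ψ 8) = 2 := Invol.invol_iff.2 ⟨E.v_sq, (M.code_ne (r := 8) (by decide) (cls_spec 8 (by decide)).2.1).1⟩
  -- involutions centralizing the central involution
  have hloc : ∀ {r : G}, r * s = s * r → r * r = 1 → r ≠ 1 → ∀ x, x * r = r * x → x ∈ H := by
    intro r hrs hr2 hr1
    obtain ⟨n, hn, h | h⟩ := E.classes_local hrs hr2 hr1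
    · exact good (hf hn) h hcs
    · exact good (hf hn) h hcv
  -- every involution of the subgroup is conjugate in it to one of two
  have hrep : ∀ r ∈ H, orderOf r = 2 → ∃ m ∈ H, m * s * m⁻¹ = r ∨ m * ψ 8 * m⁻¹ = r := by
    intro r hr hro
    obtain ⟨P, hP⟩ := M.exists_sylow
    have hPH : (P : Subgroup G) ≤ H := by rw [hP]; exact E.grpS_le.trans hf
    have hr' : IsPGroup 2 (zpowers (⟨r, hr⟩ : H)) := IsPGroup.of_card (n := 1) (by
      rw [Nat.card_zpowers, pow_one, orderOf_eq_prime (p := 2) (Subtype.ext (by simp [pow_two, Invol.invol_mul_self hro]))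
        (fun e => Invol.invol_ne_one hro (congrArg Subtype.val e))])
    obtain ⟨Q, hQ⟩ := hr'.exists_le_sylow
    obtain ⟨h, hh⟩ := MulAction.exists_smul_eq H Q (P.subtype hPH)
    have hm : (h : G) * r * (h : G)⁻¹ ∈ M.grpS := by
      have h' : h * ⟨r, hr⟩ * h⁻¹ ∈ ((P.subtype hPH : Sylow 2 H) : Subgroup H) := by
        rw [← hh, Sylow.coe_subgroup_smul]
        exact ⟨⟨r, hr⟩, hQ (mem_zpowers _), rfl⟩
      rw [Sylow.coe_subtype, mem_subgroupOf, hP] at h'
      exact h'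
    have hms : (h : G) * r * (h : G)⁻¹ * s = s * ((h : G) * r * (h : G)⁻¹) := by
      obtain ⟨c, hc, e⟩ := hm
      rw [← e]
      exact M.comm_s (sylB_facts.1.2 c hc).1
    obtain ⟨n, hn, e⟩ := E.classes_local hms (Invol.invol_mul_self (Invol.invol_conj hro h))
      (Invol.invol_ne_one (Invol.invol_conj hro h))
    refine ⟨(h : G)⁻¹ * n, mul_mem (inv_mem h.2) (hf hn), e.imp (fun e => ?_) fun e => ?_⟩
    · rw [show (h : G)⁻¹ * n * s * ((h : G)⁻¹ * n)⁻¹ = (h : G)⁻¹ * (n * s * n⁻¹) * h by group, e]; group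
    · rw [show (h : G)⁻¹ * n * ψ 8 * ((h : G)⁻¹ * n)⁻¹ = (h : G)⁻¹ * (n * ψ 8 * n⁻¹) * h by group, e]; group
  rw [eq_top_iff]
  intro g _
  set r := g * s * g⁻¹ with hrdef
  have hro : orderOf r = 2 := Invol.invol_conj hso g
  have hnc : ¬ IsConj (ψ 8) r := fun h => E.not_fused_eight ((isConj_iff.2 ⟨g, rfl⟩ : IsConj s r).trans h.symm)
  obtain ⟨i, hi2, hiv, hir⟩ := Invol.exists_invol_commute_both hvo hro hnc
  have hiH : i ∈ H := hcv i hiv.eq
  obtain ⟨m, hm, hme⟩ := hrep i hiH hi2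
  have hrH : r ∈ H := by
    rcases hme with h | h
    · exact good hm h hcs r hir.eq.symm
    · exact good hm h hcv r hir.eq.symm
  obtain ⟨m', hm', hm'e⟩ := hrep r hrH hro
  have em : m' * s * m'⁻¹ = r := hm'e.resolve_right fun h => hnc (isConj_iff.2 ⟨m', h⟩)
  have hx : (m'⁻¹ * g) * s = s * (m'⁻¹ * g) := by
    calc m'⁻¹ * g * s = m'⁻¹ * (g * s * g⁻¹) * g := by group
      _ = m'⁻¹ * (m' * s * m'⁻¹) * g := by rw [em]
      _ = _ := by group
  have := mul_mem hm' (hcs _ hx)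
  rwa [mul_inv_cancel_left] at this

/-- The group is an alternating group of degree eight or nine. -/
theorem iso_eight_or_nine :
    Nonempty (G ≃* alternatingGroup (Fin 8)) ∨ Nonempty (G ≃* alternatingGroup (Fin 9)) := by
  rcases E.nine_or_le with h | ⟨φ, hφ, hf, hV⟩
  · left
    have e := E.eq_top le_rfl h
    exact ⟨(MulEquiv.ofBijective f ⟨E.inj, MonoidHom.range_eq_top.1 e⟩).symm.trans
      (Equiv.altCongrHom finSumFinEquiv)⟩
  · right
    have e := E.eq_top hf hV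
    exact ⟨(MulEquiv.ofBijective φ ⟨hφ, MonoidHom.range_eq_top.1 e⟩).symm.trans
      (Equiv.altCongrHom finSumFinEquiv)⟩

end BEmb

/-- The standard pattern leads to an alternating group. -/
theorem BStd.iso_eight_or_nine {G : Type*} [Group G] [Finite G] {s : G} {ψ : ℕ → G} (D : BStd s ψ) :
    Nonempty (G ≃* alternatingGroup (Fin 8)) ∨ Nonempty (G ≃* alternatingGroup (Fin 9)) := by
  have M := D.model
  obtain ⟨ka, kb, h1, h2, h3, h4, h5, h6, h7, h8, h9⟩ := D.exists_pair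
  have P : Pair ψ ka kb := ⟨h1, h2, h3, h4, h5, h6, h7, h8, h9⟩
  obtain ⟨f, hinj, hgen, hcode⟩ := D.exists_eight P
  refine BEmb.iso_eight_or_nine (E := (⟨D, P, hinj, hcode, ?_, ?_⟩ : BEmb s ψ ka kb f))
  · refine ⟨codeEight 20 * eightGen 4, ?_⟩
    rw [map_mul, hgen, hcode 20 (by norm_num)]
    show ψ 20 * (ψ 20 * ka) = ka
    rw [← mul_assoc, (M.sq_iff (by norm_num)).2 (by decide +kernel), one_mul]
  · refine ⟨codeEight 4 * eightGen 5, ?_⟩
    rw [map_mul, hgen, hcode 4 (by norm_num)]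
    show ψ 4 * (ψ 4 * kb) = kb
    rw [← mul_assoc, (M.sq_iff (by norm_num)).2 (by decide +kernel), one_mul]

end CfsgLib.Spor.ExtraSymThree
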