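import Cfsg.Agent.Lib.Spor.ExtraSymThree.Closed
import Cfsg.Agent.Lib.Spor.ExtraSymThree.ToTwelve
import Cfsg.Agent.Lib.Spor.MTwelveCent.Iso

/-!
# The groups with a centralizer of the first type
-/

set_option autoImplicit false
set_option linter.unusedSectionVars false
set_option maxRecDepth 100000

namespace CfsgLib.Spor.ExtraSymThree

open CfsgLib.Spor.MTwelveCent Subgroup

theorem twelve_self : ∀ c < 192, (∀ d ∈ eList, commC c d = true) → c ∈ eList := by decide +kernel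

theorem twelve_three : ∀ c < 192, c ≠ 0 → mC (mC c c) c = 0 → ∀ d ∈ invList, commC c d = true → d = zC := by
  decide +kernel

theorem twelve_outer : vC ∈ invList ∧ vC ∉ eList := by decide +kernel

/-- In the second configuration the elementary group is closed. -/
theorem closed_of_caseB {G : Type*} [Group G] [Finite G] {z : G} {ψ : ℕ → G} (M : Model z ψ) {w : G}
    (hw : CaseB z ψ w) : ∃ E, Closed8 z E := by
  classical
  obtain ⟨hEc, -, -, hzE, hpE, hEcomm, hPE, hEcases, -⟩ := eList_facts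
  obtain ⟨hvR, -, -, -, -, -, -⟩ := v_facts
  obtain ⟨wz, -, ⟨r₁, hr₁, er₁⟩, -⟩ := hw
  have hp : IsConj z (ψ pC) := isConj_iff.2 ⟨w, wz⟩
  have s_not : ∀ c ∈ sList, ¬ IsConj z (ψ c) := fun c hc h => by
    refine M.not_isConj_r hvR (h.trans ((M.isConj_s hc).symm.trans ((M.isConj_s hr₁).trans ?_)))
    rw [← er₁]; exact (isConj_iff.2 ⟨w, rfl⟩).symm
  refine ⟨M.grpE, M.ord, M.card_grpE, ?_, ?_, ?_, ?_, ?_, ?_, M.card, ?_⟩
  · rintro _ ⟨c, hc, rfl⟩ _ ⟨d, hd, rfl⟩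
    exact (M.comm_iff (hEc.2 c hc).1 (hEc.2 d hd).1).2 (hEcomm c hc d hd)
  · rintro _ ⟨c, hc, rfl⟩
    rcases hEcases c hc with rfl | rfl | h
    · rw [M.one, one_mul]
    · rw [M.at_z, M.zz]
    · exact (M.code_ne (list_mem.2.1 c h)).2
  · rintro _ ⟨c, hc, rfl⟩ hne
    rcases hEcases c hc with rfl | rfl | h
    · exact absurd M.one hne
    · rw [M.at_z]
    · exact hp.trans (M.isConj_p h)
  · intro y hy hyz
    obtain ⟨g, rfl⟩ := isConj_iff.1 hy
    obtain ⟨c, hc, e⟩ := M.inv_code hyz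
      (by rw [show g * z * g⁻¹ * (g * z * g⁻¹) = g * (z * z) * g⁻¹ by group, M.zz]; group)
      (fun h => M.z_ne (conj_eq_one_iff.1 h))
    rw [← e] at hy ⊢
    rcases list_mem.2.2.2.2 c hc with rfl | h | h | h
    · exact ⟨_, hzE, rfl⟩
    · exact ⟨_, hPE c h, rfl⟩
    · exact absurd hy (M.not_isConj_r h)
    · exact absurd hy (s_not c h)
  · intro g hg h
    obtain ⟨c, hc, rfl⟩ := M.code_of_comm hg
    exact ⟨c, twelve_self c hc fun d hd => (M.comm_iff hc (hEc.2 d hd).1).1 (h _ ⟨d, hd, rfl⟩), rfl⟩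
  · intro h r hh hr h3 h1 hr2 hr1 hc
    obtain ⟨c, hcl, rfl⟩ := M.code_of_comm hh
    obtain ⟨d, hd, rfl⟩ := M.inv_code hr hr2 hr1
    rw [M.mul c hcl c hcl, M.mul _ (mC_lt c hcl c hcl) c hcl, M.eq_one_iff (mC_lt _ (mC_lt c hcl c hcl) _ hcl)] at h3
    rw [twelve_three c hcl (fun e => h1 (e ▸ M.one)) h3 d hd ((M.comm_iff hcl (invList_lt d hd).1).1 hc), M.at_z]
  · refine ⟨ψ vC, M.comm_z (by norm_num), (M.code_ne twelve_outer.1).2, fun h => twelve_outer.2 ?_⟩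
    exact (M.code_mem_sub hEc (by norm_num)).1 h

/-- The conclusion for the first type. -/
theorem twelve_cases {G : Type*} [Group G] [Finite G] {s : G} {ψ : ℕ → G} (M : LModel true false s ψ) {c : ℕ}
    (hc : c ∈ [10, 20, 30, 11, 21, 31]) (h : IsConj s (ψ c)) :
    (∃ (N : Subgroup G) (_hN : N.Normal), IsMulCommutative N ∧ (∀ n ∈ N, n ^ 2 = 1) ∧ Nat.card N = 8 ∧
        Nonempty (G ⧸ N ≃* Matrix.ProjectiveSpecialLinearGroup (Fin 3) (ZMod 2))) ∨ Cfsg.Spor.IsoM12 G := by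
  rcases M.toModel.exists_case (M.isConj_pC hc h) with ⟨w, hw⟩ | ⟨ψ', w, D⟩
  · obtain ⟨E, hE⟩ := closed_of_caseB M.toModel hw
    exact Or.inl hE.exists_linear
  · exact Or.inr (isoM12_of_caseA D)

end CfsgLib.Spor.ExtraSymThree
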