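import Cfsg.Agent.Lib.Spor.ExtraSymThree.BNorm
import Mathlib.GroupTheory.Perm.Cycle.Basic
import Mathlib.Tactic.NormNum.Prime
import Mathlib.GroupTheory.Transfer
import Mathlib.GroupTheory.QuotientGroup.Basic

/-!
# Exclusion of two fusion patterns
-/

set_option autoImplicit false
set_option maxRecDepth 100000
set_option linter.unusedSectionVars false

namespace CfsgLib.Spor.ExtraSymThree

open Subgroup

/-- The patterns with one fused class or with three. -/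
def goodPatterns : List (List ℕ) :=
  [[2], [8], [10], [2, 8, 96], [2, 10, 96], [8, 10, 96], [2, 8, 97], [2, 10, 97], [8, 10, 97]]

theorem pattern_check : ∀ P ∈ bReps.sublists, (∃ r ∈ P, r ∈ [2, 8, 10]) →
    (∀ w ∈ oList P, cntB P w = cntB P 1) → P ∈ [2, 8, 10] :: bReps :: goodPatterns := by decide +kernel

theorem seven_facts : (oList [2, 8, 10]).length = 7 ∧
    (∀ u ∈ wB, u ∉ 0 :: oList [2, 8, 10] → ∀ v ∈ wB, v ∉ 0 :: oList [2, 8, 10] → u ≠ v → mB u v ∈ oList [2, 8, 10]) ∧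
    (∀ u ∈ wB, u ∉ 0 :: oList [2, 8, 10] → (sylB.map fun k => cjB k u).toFinset.card = 4) ∧
    (wB.filter fun u => !(0 :: oList [2, 8, 10]).contains u).length = 8 := by decide +kernel

theorem fifteen_facts : (oList bReps).length = 15 ∧ (∀ w ∈ wB, w ≠ 0 → w ∈ oList bReps) ∧
    (∀ a ∈ sylB, a ∉ wB → ¬ 5 ∣ (wB.filter fun w => w != 0 && comB a w).length) ∧
    (∀ c ∈ sylB, ∀ d ∈ sylB, mB (mB c d) (invB (mB d c)) ∈ wB) ∧
    (∀ c ∈ sylB, mB c c ∈ wB) ∧ (4 ∈ sylB ∧ 4 ∉ wB) ∧ (16 ∈ sylB ∧ 16 ∉ wB) ∧ (mB 4 16 ∈ sylB ∧ mB 4 16 ∉ wB) := by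
  decide +kernel

theorem rep_cover : ∀ c < 32, mB c c = 0 → c = 0 ∨ c = 1 ∨ ∃ r ∈ [2, 8, 10], c ∈ clsB r := by decide +kernel

/-- A permutation whose seventh power is trivial fixes everything on fewer than seven points. -/
theorem perm_seven {T : Type*} [Finite T] (hT : Nat.card T < 7) {σ : Equiv.Perm T} (h : σ ^ 7 = 1) : σ = 1 := by
  classical
  letI := Fintype.ofFinite T
  rw [← orderOf_eq_one_iff]
  rcases (Nat.dvd_prime (by norm_num : Nat.Prime 7)).1 (orderOf_dvd_of_pow_eq_one h) with e | e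
  · exact e
  · have hd := orderOf_dvd_natCard σ
    rw [e, Nat.card_perm, (by norm_num : Nat.Prime 7).dvd_factorial] at hd
    omega

namespace BModel

variable {G : Type*} [Group G] [Finite G] {s : G} {ψ : ℕ → G} (M : BModel s ψ)
include M

theorem conj_pow_eq {x g : G} (h : x * g * x⁻¹ = g) (k : ℕ) : x ^ k * g * (x ^ k)⁻¹ = g :=
  mul_inv_eq_iff_eq_mul.2 ((show Commute x g from mul_inv_eq_iff_eq_mul.1 h).pow_left k).eq

/-- An element of prime order above two in the normalizer fixes nothing fused. -/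
theorem fused_free {p : ℕ} (hp : p.Prime) (hp2 : p ≠ 2) {x : G} (hx : x ∈ normalizer (M.grpW : Set G))
    (ho : orderOf x = p) {g : G} (hg : g ∈ M.grpW) (hconj : IsConj s g) : x * g ≠ g * x := by
  intro h
  obtain ⟨n, hn, e⟩ := M.fused_in_normalizer M.s_mem_grpW hg hconj
  have hm : n⁻¹ * x * n ∈ M.grpS := by
    rw [← M.normalizer_inf]
    refine mem_inf.2 ⟨mul_mem (mul_mem (inv_mem hn) hx) hn, mem_centralizer_singleton_iff.2 ?_⟩
    calc n⁻¹ * x * n * s = n⁻¹ * (x * (n * s * n⁻¹)) * n := by group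
      _ = n⁻¹ * (n * s * n⁻¹ * x) * n := by rw [e, h]
      _ = _ := by group
  have hd := Subgroup.orderOf_dvd_natCard _ hm
  rw [M.card_grpS, show orderOf (n⁻¹ * x * n) = p by
    rw [← ho, show n⁻¹ * x * n = MulAut.conj n⁻¹ x by simp]
    exact MulEquiv.orderOf_eq _ x] at hd
  exact hp2 ((Nat.prime_dvd_prime_iff_eq hp Nat.prime_two).1 (hp.dvd_of_dvd_pow (show p ∣ 2 ^ 6 from hd)))

theorem not_seven : patternB s ψ ≠ [2, 8, 10] := by
  classical
  intro hP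
  obtain ⟨h7, hsum, horb, hout⟩ := seven_facts
  set N := normalizer (M.grpW : Set G) with hN
  haveI : Fact (Nat.Prime 7) := ⟨by norm_num⟩
  have hNc : Nat.card N = 448 := by rw [M.card_normalizer, hP, h7]
  obtain ⟨x₀, hx₀⟩ := exists_prime_orderOf_dvd_card' (G := N) 7 (by rw [hNc]; norm_num)
  set x : G := x₀.1 with hxdef
  have hx : x ∈ N := x₀.2
  have hox : orderOf x = 7 := by rw [hxdef, Subgroup.orderOf_coe, hx₀]
  have hx7 : x ^ 7 = 1 := by rw [← hox]; exact pow_orderOf_eq_one x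
  obtain ⟨a, ha, ainj, -⟩ := M.exists_map hx
  have hnO : ∀ c ∈ wB, (c ∉ 0 :: oList [2, 8, 10] ↔ ψ c ≠ 1 ∧ ¬ IsConj s (ψ c)) := fun c hc => by
    rw [M.fused_iff hc, hP, List.mem_cons, not_or, Ne, M.eq_one_iff (wB_facts.1.2 c hc).1]
  have apres : ∀ c ∈ wB, c ∉ 0 :: oList [2, 8, 10] → a c ∉ 0 :: oList [2, 8, 10] := fun c hc h => by
    rw [hnO c hc] at h
    rw [hnO _ (ha c hc).1, ← (ha c hc).2]
    exact ⟨fun e => h.1 (conj_eq_one_iff.1 e), fun e => h.2 (e.trans (isConj_iff.2 ⟨x⁻¹, by group⟩))⟩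
  -- a fixed element outside
  let X := {g : M.grpW // (g : G) ≠ 1 ∧ ¬ IsConj s (g : G)}
  have hX : ∀ k : ℕ, ∀ g : X, x ^ k * (g.1 : G) * (x ^ k)⁻¹ ∈ M.grpW ∧
      (x ^ k * (g.1 : G) * (x ^ k)⁻¹ ≠ 1 ∧ ¬ IsConj s (x ^ k * (g.1 : G) * (x ^ k)⁻¹)) := fun k g =>
    ⟨(mem_normalizer_iff.1 (pow_mem hx k) _).1 g.1.2, fun e => g.2.1 (conj_eq_one_iff.1 e),
      fun e => g.2.2 (e.trans (isConj_iff.2 ⟨(x ^ k)⁻¹, by group⟩))⟩
  let σ : Equiv.Perm X :=
    { toFun := fun g => ⟨⟨_, (hX 1 g).1⟩, (hX 1 g).2⟩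
      invFun := fun g => ⟨⟨_, (hX 6 g).1⟩, (hX 6 g).2⟩
      left_inv := fun g => Subtype.ext (Subtype.ext (by
        show x ^ 6 * (x ^ 1 * (g.1 : G) * (x ^ 1)⁻¹) * (x ^ 6)⁻¹ = g.1
        rw [show x ^ 6 * (x ^ 1 * (g.1 : G) * (x ^ 1)⁻¹) * (x ^ 6)⁻¹ = x ^ 7 * g.1 * (x ^ 7)⁻¹ by group, hx7]
        group))
      right_inv := fun g => Subtype.ext (Subtype.ext (by
        show x ^ 1 * (x ^ 6 * (g.1 : G) * (x ^ 6)⁻¹) * (x ^ 1)⁻¹ = g.1
        rw [show x ^ 1 * (x ^ 6 * (g.1 : G) * (x ^ 6)⁻¹) * (x ^ 1)⁻¹ = x ^ 7 * g.1 * (x ^ 7)⁻¹ by group, hx7]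
        group)) }
  have hσ : ∀ k : ℕ, ∀ g : X, (((σ ^ k) g).1 : G) = x ^ k * g.1 * (x ^ k)⁻¹ := by
    intro k
    induction k with
    | zero => intro g; simp
    | succ k ih =>
      intro g
      rw [pow_succ', Equiv.Perm.mul_apply]
      show x ^ 1 * (((σ ^ k) g).1 : G) * (x ^ 1)⁻¹ = _
      rw [ih, pow_succ' x k]
      group
  letI : Fintype X := Fintype.ofFinite X
  have hXc : Fintype.card X = 8 := by
    rw [← hout, ← List.toFinset_card_of_nodup (wB_facts.2.1.filter _), ← Fintype.card_coe]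
    refine (Fintype.card_of_bijective (f := fun c => (⟨⟨ψ c.1, c.1, (List.mem_filter.1 (List.mem_toFinset.1 c.2)).1, rfl⟩,
      (hnO c.1 (List.mem_filter.1 (List.mem_toFinset.1 c.2)).1).1 (by
        simpa using (List.mem_filter.1 (List.mem_toFinset.1 c.2)).2)⟩ : X)) ⟨fun c d e => ?_, fun g => ?_⟩).symm
    · have hc := (List.mem_filter.1 (List.mem_toFinset.1 c.2)).1
      have hd := (List.mem_filter.1 (List.mem_toFinset.1 d.2)).1
      exact Subtype.ext (M.inj _ (wB_facts.1.2 _ hc).1 _ (wB_facts.1.2 _ hd).1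
        (congrArg (fun t : X => (t.1 : G)) e))
    · obtain ⟨c, hc, -, e⟩ := M.code_of_grpW g.1.2
      refine ⟨⟨c, List.mem_toFinset.2 (List.mem_filter.2 ⟨hc, ?_⟩)⟩, Subtype.ext (Subtype.ext e)⟩
      simpa using (hnO c hc).2 (e ▸ g.2)
  obtain ⟨u, hu⟩ := Equiv.Perm.exists_fixed_point_of_prime (p := 7) (n := 1) (by rw [hXc]; norm_num) (σ := σ)
    (Equiv.ext fun g => Subtype.ext (Subtype.ext (by rw [pow_one, hσ, hx7]; simp)))
  have hfix : x * (u.1 : G) * x⁻¹ = u.1 := by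
    have := congrArg (fun t : X => (t.1 : G)) hu
    rw [← pow_one σ, hσ, pow_one] at this
    exact this
  obtain ⟨c₀, hc₀, hc₀l, ec₀⟩ := M.code_of_grpW u.1.2
  have hc₀' := (hnO c₀ hc₀).2 (ec₀ ▸ u.2)
  have huniq : ∀ g : X, x * (g.1 : G) * x⁻¹ = g.1 → g = u := by
    intro g hg
    obtain ⟨c, hc, hcl, ec⟩ := M.code_of_grpW g.1.2
    by_contra hne
    have hcc : c ≠ c₀ := fun e => hne (Subtype.ext (Subtype.ext (by rw [← ec, e, ec₀])))
    have hO := hsum c hc ((hnO c hc).2 (ec ▸ g.2)) c₀ hc₀ hc₀' hcc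
    have hW := (wB_facts.1.2 c hc).2.2 c₀ hc₀
    rw [← hP, ← M.fused_iff hW, ← M.mul c hcl c₀ hc₀l] at hO
    refine M.fused_free (by norm_num) (by norm_num) hx hox (mul_mem ⟨c, hc, rfl⟩ ⟨c₀, hc₀, rfl⟩) hO ?_
    rw [← mul_inv_eq_iff_eq_mul, ec, ec₀,
      show x * ((g.1 : G) * u.1) * x⁻¹ = x * g.1 * x⁻¹ * (x * u.1 * x⁻¹) by group, hg, hfix]
  -- its orbit
  set St := N ⊓ centralizer ({(u.1 : G)} : Set G)
  have hWSt : M.grpW ≤ St := le_inf le_normalizer fun w hw => mem_centralizer_singleton_iff.2 (M.grpW_comm hw u.1.2)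
  have hxSt : x ∈ St := mem_inf.2 ⟨hx, mem_centralizer_singleton_iff.2 (mul_inv_eq_iff_eq_mul.1 hfix)⟩
  have h112 : 112 ∣ Nat.card St := by
    have h1 := card_dvd_of_le hWSt
    have h2 := Subgroup.orderOf_dvd_natCard _ hxSt
    rw [M.card_grpW] at h1
    rw [hox] at h2
    exact Nat.Coprime.mul_dvd_of_dvd_of_dvd (by norm_num : Nat.Coprime 16 7) h1 h2
  set T := {y : M.grpW // ∃ n ∈ N, n * (u.1 : G) * n⁻¹ = (y : G)}
  have hT4 : Nat.card T ≤ 4 := by
    have h := M.orbit_card u.1.2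
    rw [hNc] at h
    obtain ⟨k, hk⟩ := h112
    rw [show Nat.card ↥(N ⊓ centralizer ({(u.1 : G)} : Set G)) = 112 * k from hk] at h
    rcases Nat.eq_zero_or_pos k with rfl | hk0
    · simp at h
    · by_contra hc
      have : 5 * (112 * 1) ≤ Nat.card T * (112 * k) := Nat.mul_le_mul (by omega) (Nat.mul_le_mul_left _ hk0)
      rw [h] at this
      omega
  obtain ⟨k₁, hk₁, hne⟩ : ∃ k₁ ∈ sylB, cjB k₁ c₀ ≠ c₀ := by
    by_contra h
    push Not at h
    have hsub : (sylB.map fun k => cjB k c₀).toFinset ⊆ {c₀} := fun d hd => by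
      obtain ⟨k, hk, rfl⟩ := List.mem_map.1 (List.mem_toFinset.1 hd)
      simp [h k hk]
    have := Finset.card_le_card hsub
    rw [horb c₀ hc₀ hc₀'] at this
    simp at this
  have hk₁N : ψ k₁ ∈ N := M.grpS_le_normalizer ⟨k₁, hk₁, rfl⟩
  set g₁ : T := ⟨⟨ψ k₁ * u.1 * (ψ k₁)⁻¹, (mem_normalizer_iff.1 hk₁N _).1 u.1.2⟩, ψ k₁, hk₁N, rfl⟩
  let τ : Equiv.Perm T :=
    { toFun := fun y => ⟨⟨x * y.1 * x⁻¹, (mem_normalizer_iff.1 hx _).1 y.1.2⟩, by
        obtain ⟨n, hn, e⟩ := y.2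
        exact ⟨x * n, mul_mem hx hn, (show x * n * (u.1 : G) * (x * n)⁻¹ = x * (n * (u.1 : G) * n⁻¹) * x⁻¹ by group).trans
          (congrArg (fun t => x * t * x⁻¹) e)⟩⟩
      invFun := fun y => ⟨⟨x⁻¹ * y.1 * x⁻¹⁻¹, (mem_normalizer_iff.1 (inv_mem hx) _).1 y.1.2⟩, by
        obtain ⟨n, hn, e⟩ := y.2
        exact ⟨x⁻¹ * n, mul_mem (inv_mem hx) hn, (show x⁻¹ * n * (u.1 : G) * (x⁻¹ * n)⁻¹ = x⁻¹ * (n * (u.1 : G) * n⁻¹) * x⁻¹⁻¹ by group).trans
          (congrArg (fun t => x⁻¹ * t * x⁻¹⁻¹) e)⟩⟩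
      left_inv := fun y => Subtype.ext (Subtype.ext (by
        show x⁻¹ * (x * (y.1 : G) * x⁻¹) * x⁻¹⁻¹ = y.1
        group))
      right_inv := fun y => Subtype.ext (Subtype.ext (by
        show x * (x⁻¹ * (y.1 : G) * x⁻¹⁻¹) * x⁻¹ = y.1
        group)) }
  have hτ : ∀ k : ℕ, ∀ y : T, (((τ ^ k) y).1 : G) = x ^ k * y.1 * (x ^ k)⁻¹ := by
    intro k
    induction k with
    | zero => intro y; simp
    | succ k ih =>
      intro y
      rw [pow_succ', Equiv.Perm.mul_apply]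
      show x * (((τ ^ k) y).1 : G) * x⁻¹ = _
      rw [ih, pow_succ' x k]
      group
  have hτ1 : τ = 1 := perm_seven (by omega) (Equiv.ext fun y => Subtype.ext (Subtype.ext (by
    rw [hτ, hx7]; simp)))
  have hg₁X : (g₁.1 : G) ≠ 1 ∧ ¬ IsConj s (g₁.1 : G) :=
    ⟨fun e => u.2.1 (conj_eq_one_iff.1 e), fun e => u.2.2 (e.trans (isConj_iff.2 ⟨(ψ k₁)⁻¹, by
      show (ψ k₁)⁻¹ * (ψ k₁ * u.1 * (ψ k₁)⁻¹) * (ψ k₁)⁻¹⁻¹ = _
      group⟩))⟩
  have h1 := congrArg (fun t : T => (t.1 : G)) (Equiv.ext_iff.1 hτ1 g₁)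
  have heq := congrArg (fun t : X => (t.1 : G)) (huniq ⟨g₁.1, hg₁X⟩ h1)
  refine hne (M.inj _ (cjB_lt (sylB_facts.1.2 k₁ hk₁).1 hc₀l) _ hc₀l ?_)
  rw [← M.conj (sylB_facts.1.2 k₁ hk₁).1 hc₀l, ec₀]
  exact heq

/-- An involution outside the elementary group commuting modulo it with an element of order five is absurd. -/
theorem five_false (hP : patternB s ψ = bReps) {y : G} (hy : y ∈ normalizer (M.grpW : Set G)) (hy5 : orderOf y = 5)
    {a : ℕ} (ha : a ∈ sylB) (haW : a ∉ wB) (hcomm : ψ a * y * (ψ a)⁻¹ * y⁻¹ ∈ M.grpW) : False := by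
  classical
  obtain ⟨-, hall, hdiv, -⟩ := fifteen_facts
  have hal := (sylB_facts.1.2 a ha).1
  haveI : Fact (Nat.Prime 5) := ⟨by norm_num⟩
  set e := ψ a * y * (ψ a)⁻¹ * y⁻¹ with he
  let X := {g : M.grpW // (g : G) ≠ 1 ∧ ψ a * (g : G) = g * ψ a}
  have hX : ∀ g : X, y * (g.1 : G) * y⁻¹ ∈ M.grpW ∧
      (y * (g.1 : G) * y⁻¹ ≠ 1 ∧ ψ a * (y * (g.1 : G) * y⁻¹) = y * (g.1 : G) * y⁻¹ * ψ a) := fun g => by
    refine ⟨(mem_normalizer_iff.1 hy _).1 g.1.2, fun h => g.2.1 (conj_eq_one_iff.1 h), ?_⟩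
    set h := y * (g.1 : G) * y⁻¹ with hh
    have hhW : h ∈ M.grpW := (mem_normalizer_iff.1 hy _).1 g.1.2
    refine mul_inv_eq_iff_eq_mul.1 ?_
    have hay : ψ a * y = e * y * ψ a := by rw [he]; group
    calc ψ a * h * (ψ a)⁻¹ = ψ a * y * g.1 * (y⁻¹ * (ψ a)⁻¹) := by rw [hh]; group
      _ = e * y * ψ a * g.1 * (y⁻¹ * (ψ a)⁻¹) := by rw [hay]
      _ = e * y * (ψ a * g.1) * (y⁻¹ * (ψ a)⁻¹) := by group
      _ = e * y * (g.1 * ψ a) * (ψ a * y)⁻¹ := by rw [g.2.2]; group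
      _ = e * h * e⁻¹ := by rw [hay, hh]; group
      _ = h := by rw [M.grpW_comm hcomm hhW]; group
  let σ : X → X := fun g => ⟨⟨_, (hX g).1⟩, (hX g).2⟩
  have hσk : ∀ k : ℕ, ∀ g : X, ((σ^[k] g).1 : G) = y ^ k * g.1 * (y ^ k)⁻¹ := by
    intro k
    induction k with
    | zero => intro g; simp
    | succ k ih =>
      intro g
      rw [Function.iterate_succ_apply']
      show y * ((σ^[k] g).1 : G) * y⁻¹ = _
      rw [ih, pow_succ' y k]
      group
  have hy5' : y ^ 5 = 1 := by rw [← hy5]; exact pow_orderOf_eq_one y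
  let π : Equiv.Perm X :=
    ⟨σ, σ^[4], fun g => Subtype.ext (Subtype.ext (by
      show ((σ^[5] g).1 : G) = g.1
      rw [hσk, hy5']; simp)), fun g => Subtype.ext (Subtype.ext (by
      show (σ (σ^[4] g)).1.1 = g.1.1
      rw [← Function.iterate_succ_apply' σ 4 g]
      show ((σ^[5] g).1 : G) = g.1
      rw [hσk, hy5']; simp))⟩
  letI : Fintype X := Fintype.ofFinite X
  have hXc : Fintype.card X = (wB.filter fun w => w != 0 && comB a w).length := by
    rw [← List.toFinset_card_of_nodup (wB_facts.2.1.filter _), ← Fintype.card_coe]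
    have hmk : ∀ c : {c // c ∈ (wB.filter fun w => w != 0 && comB a w).toFinset},
        c.1 ∈ wB ∧ (ψ c.1 ≠ 1 ∧ ψ a * ψ c.1 = ψ c.1 * ψ a) := fun c => by
      obtain ⟨h1, h2⟩ := List.mem_filter.1 (List.mem_toFinset.1 c.2)
      simp only [Bool.and_eq_true, bne_iff_ne] at h2
      exact ⟨h1, fun e => h2.1 ((M.eq_one_iff (wB_facts.1.2 _ h1).1).1 e), (M.comm_iff hal (wB_facts.1.2 _ h1).1).2 h2.2⟩
    refine (Fintype.card_of_bijective (f := fun c => (⟨⟨ψ c.1, c.1, (hmk c).1, rfl⟩, (hmk c).2⟩ : X))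
      ⟨fun c d e => Subtype.ext (M.inj _ (wB_facts.1.2 _ (hmk c).1).1 _ (wB_facts.1.2 _ (hmk d).1).1
        (congrArg (fun t : X => (t.1 : G)) e)), fun g => ?_⟩).symm
    obtain ⟨c, hc, hcl, e⟩ := M.code_of_grpW g.1.2
    refine ⟨⟨c, List.mem_toFinset.2 (List.mem_filter.2 ⟨hc, ?_⟩)⟩, Subtype.ext (Subtype.ext e)⟩
    have h1 : c ≠ 0 := fun h => g.2.1 (by rw [← e, h, M.one])
    have h2 := (M.comm_iff hal hcl).1 (e ▸ g.2.2)
    simp [h1, h2]
  obtain ⟨g, hg⟩ := Equiv.Perm.exists_fixed_point_of_prime (p := 5) (n := 1) (by rw [hXc]; exact hdiv a ha haW)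
    (σ := π) (Equiv.ext fun g => Subtype.ext (Subtype.ext (by
      rw [pow_one, Equiv.Perm.coe_pow]
      show ((σ^[5] g).1 : G) = g.1
      rw [hσk, hy5']; simp)))
  obtain ⟨c, hc, hcl, ec⟩ := M.code_of_grpW g.1.2
  refine M.fused_free (by norm_num) (by norm_num) hy hy5 g.1.2 ?_
    (mul_inv_eq_iff_eq_mul.1 (congrArg (fun t : X => (t.1 : G)) hg))
  rw [← ec, M.fused_iff hc, hP]
  exact hall c hc fun h => g.2.1 (by rw [← ec, h, M.one])

theorem not_fifteen : patternB s ψ ≠ bReps := by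
  classical
  intro hP
  obtain ⟨h15, -, -, hab, -, ⟨hp, hpW⟩, ⟨hq, hqW⟩, hpq, hpqW⟩ := fifteen_facts
  haveI : Fact (Nat.Prime 2) := ⟨Nat.prime_two⟩
  haveI : Fact (Nat.Prime 5) := ⟨by norm_num⟩
  set N := normalizer (M.grpW : Set G) with hN
  set W' := M.grpW.subgroupOf N with hW'
  haveI : W'.Normal := normal_in_normalizer
  have hNc : Nat.card N = 960 := by rw [M.card_normalizer, hP, h15]
  have hW'c : Nat.card W' = 16 := by
    rw [Nat.card_congr (subgroupOfEquivOfLe (le_normalizer : M.grpW ≤ N)).toEquiv, M.card_grpW]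
  have hQc : Nat.card (N ⧸ W') = 60 := by
    have h := W'.card_mul_index
    rw [hW'c, hNc, index_eq_card] at h
    omega
  set π := QuotientGroup.mk' W' with hπ
  have mk_eq : ∀ {g h : N}, π g = π h ↔ (g : G)⁻¹ * h ∈ M.grpW := fun {g h} => by
    rw [hπ, QuotientGroup.mk'_apply, QuotientGroup.mk'_apply, QuotientGroup.eq, hW', mem_subgroupOf]
    rfl
  set S' := M.grpS.subgroupOf N
  set Pb := S'.map π with hPb
  have hPc : Nat.card Pb = 4 := by
    have hle : W' ≤ S' := fun w hw => mem_subgroupOf.2 (M.grpW_le (mem_subgroupOf.1 hw))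
    have hS'c : Nat.card S' = 64 := by
      rw [Nat.card_congr (subgroupOfEquivOfLe M.grpS_le_normalizer).toEquiv, M.card_grpS]
    have hi : S'.index = 15 := by
      have h := S'.card_mul_index
      rw [hS'c, hNc] at h
      omega
    have h2 : Pb.index = 15 := by
      rw [hPb, index_map_eq _ (QuotientGroup.mk'_surjective W') (by rw [QuotientGroup.ker_mk']; exact hle), hi]
    have h := Pb.card_mul_index
    rw [h2, hQc] at h
    omega
  let P : Sylow 2 (N ⧸ W') := Sylow.ofCard Pb (by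
    rw [hPc, hQc, show (60 : ℕ) = 2 ^ 2 * 15 by norm_num, Nat.factorization_mul (by norm_num) (by norm_num),
      Nat.Prime.factorization_pow Nat.prime_two]
    simp [Nat.factorization_eq_zero_of_not_dvd (show ¬ 2 ∣ 15 by norm_num)])
  have memS : ∀ {g : N}, π g ∈ Pb → (g : G) ∈ M.grpS := fun {g} hg => by
    obtain ⟨k, hk, e⟩ := hg
    have := mul_mem (mem_subgroupOf.1 hk) (M.grpW_le (mk_eq.1 e))
    rwa [mul_inv_cancel_left] at this
  have hP2 : normalizer ((P : Subgroup (N ⧸ W')) : Set (N ⧸ W')) ≤ centralizer ((P : Subgroup (N ⧸ W')) : Set (N ⧸ W')) := by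
    intro g hg
    obtain ⟨n, rfl⟩ := QuotientGroup.mk'_surjective W' g
    have hn : (n : G) ∈ M.grpS := by
      rw [← M.normalizer_inf]
      refine mem_inf.2 ⟨n.2, mem_centralizer_singleton_iff.2 (mul_inv_eq_iff_eq_mul.1 ?_)⟩
      refine (M.central_eq ?_ fun t ht => ?_).resolve_left fun h => M.s_ne (conj_eq_one_iff.1 h)
      · rw [show (n : G) * s * (n : G)⁻¹ * ((n : G) * s * (n : G)⁻¹) = n * (s * s) * (n : G)⁻¹ by group, M.ss]
        group
      · have htN := M.grpS_le_normalizer ht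
        have h1 : (π n)⁻¹ * π ⟨t, htN⟩ * π n ∈ Pb := by
          have := (mem_normalizer_iff.1 (inv_mem hg) (π ⟨t, htN⟩)).1 ⟨⟨t, htN⟩, mem_subgroupOf.2 ht, rfl⟩
          simp only [inv_inv] at this
          exact this
        rw [← map_inv, ← map_mul, ← map_mul] at h1
        have h2 : (n : G)⁻¹ * t * n ∈ M.grpS := by simpa using memS h1
        have h3 := (mem_centralizer_singleton_iff.1 (show (n : G)⁻¹ * t * n ∈ centralizer ({s} : Set G) from by
          rw [← M.normalizer_inf] at h2; exact (mem_inf.1 h2).2))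
        calc (n : G) * s * (n : G)⁻¹ * t = n * (s * ((n : G)⁻¹ * t * n)) * (n : G)⁻¹ := by group
          _ = n * ((n : G)⁻¹ * t * n * s) * (n : G)⁻¹ := by rw [h3]
          _ = _ := by group
    rw [mem_centralizer_iff]
    rintro _ ⟨k, hk, rfl⟩
    rw [← map_mul, ← map_mul, mk_eq]
    obtain ⟨c, hc, ec⟩ := mem_subgroupOf.1 hk
    obtain ⟨d, hd, ed⟩ := hn
    have hcl := (sylB_facts.1.2 c hc).1
    have hdl := (sylB_facts.1.2 d hd).1
    have hmem : ψ c * ψ d * (ψ d * ψ c)⁻¹ ∈ M.grpW :=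
      ⟨_, hab c hc d hd, by
        rw [M.mul c hcl d hdl, M.mul d hdl c hcl, M.inv (mB_lt _ hdl _ hcl),
          M.mul _ (mB_lt _ hcl _ hdl) _ (invB_spec _ (mB_lt _ hdl _ hcl)).1]⟩
    simp only [Subgroup.coe_mul]
    rw [← ec, ← ed]
    have h4 := M.grpS_normalizes (k := (ψ c * ψ d)⁻¹)
      (inv_mem (mul_mem ⟨c, hc, rfl⟩ ⟨d, hd, rfl⟩)) hmem
    have e4 : (ψ c * ψ d)⁻¹ * (ψ c * ψ d * (ψ d * ψ c)⁻¹) * (ψ c * ψ d)⁻¹⁻¹ = (ψ d * ψ c)⁻¹ * (ψ c * ψ d) := by group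
    rw [e4] at h4
    have := inv_mem h4
    rwa [show ((ψ d * ψ c)⁻¹ * (ψ c * ψ d))⁻¹ = (ψ c * ψ d)⁻¹ * (ψ d * ψ c) by group] at this
  set K := (MonoidHom.transferSylow P hP2).ker
  have hKc : Nat.card K = 15 := by
    have h := (MonoidHom.ker_transferSylow_isComplement' P hP2).card_mul_card
    rw [show Nat.card (P : Subgroup (N ⧸ W')) = 4 from hPc, hQc] at h
    have h' : Nat.card K * 4 = 60 := h
    omega
  obtain ⟨F⟩ : Nonempty (Sylow 5 K) := inferInstance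
  have hFc : Nat.card F = 5 := by
    rw [F.card_eq_multiplicity, hKc]
    rw [show (15 : ℕ) = 5 ^ 1 * 3 by norm_num, Nat.factorization_mul (by norm_num) (by norm_num)]
    simp [Nat.Prime.factorization_pow (show Nat.Prime 5 by norm_num),
      Nat.Prime.factorization_self (show Nat.Prime 5 by norm_num),
      Nat.factorization_eq_zero_of_not_dvd (show ¬ 5 ∣ 3 by norm_num)]
  have hone : Nat.card (Sylow 5 K) = 1 := by
    have h1 := card_sylow_modEq_one 5 K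
    have h2 : Nat.card (Sylow 5 K) ∣ 3 := by
      have h := F.card_dvd_index
      have hi := (F : Subgroup K).card_mul_index
      rw [hFc, hKc] at hi
      rwa [show (F : Subgroup K).index = 3 by omega] at h
    rcases (Nat.dvd_prime Nat.prime_three).1 h2 with h | h
    · exact h
    · rw [h] at h1; exact absurd h1 (by decide)
  obtain ⟨f₀, hf₀⟩ := exists_prime_orderOf_dvd_card' (G := (F : Subgroup K)) 5 (by rw [hFc])
  set yb : N ⧸ W' := ((f₀ : K) : N ⧸ W') with hyb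
  have hyb5 : orderOf yb = 5 := by rw [hyb, Subgroup.orderOf_coe, Subgroup.orderOf_coe, hf₀]
  have hFgen : (F : Subgroup K) = zpowers (f₀ : K) :=
    (eq_of_le_of_card_ge (zpowers_le.2 f₀.2) (by rw [Nat.card_zpowers, Subgroup.orderOf_coe, hf₀, hFc])).symm
  have hconj : ∀ g : N ⧸ W', ∃ i : ℤ, g * yb * g⁻¹ = yb ^ i := by
    intro g
    haveI : K.Normal := MonoidHom.normal_ker _
    set f' : K := ⟨g * yb * g⁻¹, (inferInstance : K.Normal).conj_mem _ (f₀ : K).2 g⟩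
    have hp' : IsPGroup 5 (zpowers f') := IsPGroup.of_card (n := 1) (by
      rw [Nat.card_zpowers, ← Subgroup.orderOf_coe, show ((f' : K) : N ⧸ W') = MulAut.conj g yb from rfl,
        MulEquiv.orderOf_eq, hyb5, pow_one])
    obtain ⟨F', hF'⟩ := hp'.exists_le_sylow
    haveI : Subsingleton (Sylow 5 K) := (Nat.card_eq_one_iff_unique.1 hone).1
    have hmem := hF' (mem_zpowers f')
    rw [Subsingleton.elim F' F] at hmem
    change f' ∈ (F : Subgroup K) at hmem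
    rw [hFgen, mem_zpowers_iff] at hmem
    obtain ⟨i, hi⟩ := hmem
    exact ⟨i, by rw [hyb, ← SubgroupClass.coe_zpow, hi]⟩
  have hinv : ∀ a ∈ sylB, ∀ (h : ψ a ∈ N), π ⟨ψ a, h⟩ * yb * (π ⟨ψ a, h⟩)⁻¹ = yb ∨
      π ⟨ψ a, h⟩ * yb * (π ⟨ψ a, h⟩)⁻¹ = yb⁻¹ := by
    intro a ha h
    have hal := (sylB_facts.1.2 a ha).1
    set g := π ⟨ψ a, h⟩
    have hg2 : g * g = 1 := by
      rw [← map_mul, ← map_one π, mk_eq]
      simp only [Subgroup.coe_mul, Subgroup.coe_one, mul_one]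
      exact inv_mem ⟨_, fifteen_facts.2.2.2.2.1 a ha, (M.mul a hal a hal).symm⟩
    obtain ⟨i, hi⟩ := hconj g
    have h2 : yb ^ (i * i) = yb := by
      rw [zpow_mul, ← hi, conj_zpow, ← hi]
      calc g * (g * yb * g⁻¹) * g⁻¹ = g * g * yb * (g * g)⁻¹ := by group
        _ = yb := by rw [hg2]; group
    have h3 : yb ^ (i * i) = yb ^ (1 : ℤ) := by rw [h2, zpow_one]
    rw [zpow_eq_zpow_iff_modEq, hyb5] at h3
    rw [hi]
    have h4 : i % 5 = 1 ∨ i % 5 = 4 := by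
      have h5 : i % 5 = 0 ∨ i % 5 = 1 ∨ i % 5 = 2 ∨ i % 5 = 3 ∨ i % 5 = 4 := by omega
      have h6 : (i * i) % 5 = (i % 5) * (i % 5) % 5 := Int.mul_emod i i 5
      have h7 : (i * i) % 5 = 1 := h3
      rw [h6] at h7
      rcases h5 with h | h | h | h | h <;> rw [h] at h7 <;> first | omega | exact Or.inl h | exact Or.inr h
    rcases h4 with h4 | h4
    · left
      rw [← zpow_mod_orderOf, hyb5]
      simp [h4]
    · right
      rw [← zpow_mod_orderOf, hyb5]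
      simp only [Nat.cast_ofNat, h4]
      rw [← zpow_neg_one, zpow_eq_zpow_iff_modEq, hyb5]
      decide
  -- one of three involutions centralizes
  have hS : ∀ {a}, a ∈ sylB → ψ a ∈ N := fun ha => M.grpS_le_normalizer ⟨_, ha, rfl⟩
  obtain ⟨a, ha, haW, hfix⟩ : ∃ a, ∃ (ha : a ∈ sylB), a ∉ wB ∧
      π ⟨ψ a, hS ha⟩ * yb * (π ⟨ψ a, hS ha⟩)⁻¹ = yb := by
    rcases hinv 4 hp (hS hp) with h | h
    · exact ⟨4, hp, hpW, h⟩
    rcases hinv 16 hq (hS hq) with h' | h'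
    · exact ⟨16, hq, hqW, h'⟩
    refine ⟨mB 4 16, hpq, hpqW, ?_⟩
    have e : (⟨ψ (mB 4 16), hS hpq⟩ : N) = ⟨ψ 4, hS hp⟩ * ⟨ψ 16, hS hq⟩ :=
      Subtype.ext (M.mul 4 (by norm_num) 16 (by norm_num)).symm
    rw [e, map_mul]
    set g := π ⟨ψ 4, hS hp⟩
    set g' := π ⟨ψ 16, hS hq⟩
    calc g * g' * yb * (g * g')⁻¹ = g * (g' * yb * g'⁻¹) * g⁻¹ := by group
      _ = (g * yb * g⁻¹)⁻¹ := by rw [h']; group
      _ = yb := by rw [h, inv_inv]
  obtain ⟨y, hy⟩ := QuotientGroup.mk'_surjective W' yb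
  set y' := y ^ 16 with hy'
  have hy'' : π y' = yb := by
    rw [hy', map_pow, hy, show (16 : ℕ) = 5 * 3 + 1 from rfl, pow_add, pow_mul, ← hyb5, pow_orderOf_eq_one, one_pow,
      one_mul, pow_one]
  have hy5 : (y' : G) ^ 5 = 1 := by
    have h5 : π (y ^ 5) = π 1 := by rw [map_pow, hy, ← hyb5, pow_orderOf_eq_one, map_one]
    have hW5 : (y : G) ^ 5 ∈ M.grpW := by simpa using inv_mem (mk_eq.1 h5.symm)
    have h2 := M.grpW_sq hW5
    rw [hy', Subgroup.coe_pow, ← pow_mul, show 16 * 5 = (5 + 5) * 8 from rfl, pow_mul, pow_add, h2, one_pow]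
  have hy'5 : orderOf (y' : G) = 5 := by
    refine orderOf_eq_prime hy5 fun h => ?_
    have : y' = 1 := Subtype.ext h
    rw [this, map_one] at hy''
    rw [← hy'', orderOf_one] at hyb5
    norm_num at hyb5
  refine M.five_false hP y'.2 hy'5 ha haW ?_
  rw [← hy'', ← map_inv, ← map_mul, ← map_mul, mk_eq] at hfix
  simp only [Subgroup.coe_mul, Subgroup.coe_inv] at hfix
  have h4 := (mem_normalizer_iff.1 y'.2 _).1 (inv_mem hfix)
  rwa [show (y' : G) * ((ψ a * (y' : G) * (ψ a)⁻¹)⁻¹ * y')⁻¹ * (y' : G)⁻¹ = ψ a * y' * (ψ a)⁻¹ * (y' : G)⁻¹ by group] at h4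

/-- The fusion patterns. -/
theorem pattern_cases {c : ℕ} (hc : c < 32) (hc0 : c ≠ 0) (hc1 : c ≠ 1) (h : IsConj s (ψ c)) :
    patternB s ψ ∈ goodPatterns := by
  have h0 : mB c c = 0 := by
    obtain ⟨g, hg⟩ := isConj_iff.1 h
    rw [← M.sq_iff (by omega), ← hg, show g * s * g⁻¹ * (g * s * g⁻¹) = g * (s * s) * g⁻¹ by group, M.ss]
    group
  obtain ⟨r, hr, hcr⟩ := ((rep_cover c hc h0).resolve_left hc0).resolve_left hc1
  have hr' : r ∈ bReps := by
    simp only [bReps, List.mem_cons, List.not_mem_nil, or_false] at hr ⊢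
    tauto
  have hex : ∃ r ∈ patternB s ψ, r ∈ [2, 8, 10] :=
    ⟨r, (M.mem_pattern hr').2 (h.trans (M.isConj_cls hr' hcr).symm), hr⟩
  rcases List.mem_cons.1 (pattern_check _ M.pattern_sublist hex fun w hw => M.cnt_eq hw) with h | h
  · exact absurd h M.not_seven
  rcases List.mem_cons.1 h with h | h
  · exact absurd h M.not_fifteen
  · exact h

end BModel

end CfsgLib.Spor.ExtraSymThree
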