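import Cfsg.Agent.Lib.Spor.ExtraSymThree.LFast

/-!
# Two of the four models are impossible
-/

set_option autoImplicit false
set_option maxRecDepth 100000
set_option linter.unusedSectionVars false

namespace CfsgLib.Spor.ExtraSymThree

open Subgroup

/-- Commuting codes. -/
def commL (sw e : Bool) (c d : ℕ) : Bool := Nat.beq (lMulT sw e c d) (lMulT sw e d c)

/-- The size of a centralizer. -/
def centN (sw e : Bool) (c : ℕ) : ℕ := ((List.range 192).filter fun k => commL sw e c k).length

/-- The number of square roots in a centralizer. -/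
def rootN (sw e : Bool) (c y : ℕ) : ℕ :=
  ((List.range 192).filter fun k => Nat.beq (lMulT sw e k k) y && commL sw e c k).length

/-- An involution code. -/
def isInvL (sw e : Bool) (c : ℕ) : Bool := c != 0 && lMulT sw e c c == 0

/-- The two invariants of an involution of the radical. -/
def radPair (sw e : Bool) (c : ℕ) : ℕ × ℕ := (centN sw e c, rootN sw e c c)

/-- The two invariants of a partner. -/
def partnerPair (sw e : Bool) (d : ℕ) : ℕ × ℕ := (centN sw e d, rootN sw e d 1)

theorem qMul_lt_any (p r : ℕ) : qMul p r < 32 := by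
  simp only [qMul]; omega

theorem lMul_lt {sw e : Bool} {c d : ℕ} (_hc : c < 192) (_hd : d < 192) : lMul sw e c d < 192 := by
  unfold lMul
  have h1 := qMul_lt_any (qMul (c % 32) (qXp (c / 32 % 3) (if c / 96 % 2 = 1 then qTs sw (d % 32) else d % 32)))
    (if e = true ∧ c / 96 % 2 = 1 ∧ d / 96 % 2 = 1 then 1 else 0)
  omega

theorem lMul_zero : ∀ sw e : Bool, lMul sw e 0 0 = 0 := by decide +kernel

namespace LModel

variable {G : Type*} [Group G] [Finite G] {sw e : Bool} {s : G} {ψ : ℕ → G} (M : LModel sw e s ψ)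
include M

theorem one : ψ 0 = 1 := by
  have h := M.mul 0 (by norm_num) 0 (by norm_num)
  rwa [lMul_zero, mul_eq_left] at h

theorem s_ne : s ≠ 1 := fun h => by have := M.ord; rw [h, orderOf_one] at this; norm_num at this

theorem ss : s * s = 1 := by rw [← pow_two, ← M.ord, pow_orderOf_eq_one]

theorem comm_iff {c d : ℕ} (hc : c < 192) (hd : d < 192) : ψ c * ψ d = ψ d * ψ c ↔ commL sw e c d = true := by
  rw [M.mul c hc d hd, M.mul d hd c hc, commL, Nat.beq_eq, ← lMulT_eq hc hd, ← lMulT_eq hd hc]
  exact ⟨M.inj _ (lMul_lt hc hd) _ (lMul_lt hd hc), congrArg ψ⟩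

theorem card_filter (P : G → Prop) (p : ℕ → Bool) (h : ∀ c < 192, P (ψ c) ↔ p c = true) :
    Nat.card {g : G // g ∈ centralizer ({s} : Set G) ∧ P g} = ((List.range 192).filter p).length := by
  classical
  set l := (List.range 192).filter p with hl
  let f : {c // c ∈ l.toFinset} → {g : G // g ∈ centralizer ({s} : Set G) ∧ P g} := fun c =>
    ⟨ψ c, by
      obtain ⟨hr, hp⟩ := List.mem_filter.1 (List.mem_toFinset.1 c.2)
      exact ⟨M.mem c (List.mem_range.1 hr), (h c (List.mem_range.1 hr)).2 hp⟩⟩
  have hf : Function.Bijective f := by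
    refine ⟨fun a b eq => Subtype.ext (M.inj a (List.mem_range.1 (List.mem_filter.1 (List.mem_toFinset.1 a.2)).1) b
      (List.mem_range.1 (List.mem_filter.1 (List.mem_toFinset.1 b.2)).1) (congrArg Subtype.val eq)), fun g => ?_⟩
    obtain ⟨c, hc, ec⟩ := M.surj g g.2.1
    exact ⟨⟨c, List.mem_toFinset.2 (List.mem_filter.2 ⟨List.mem_range.2 hc, (h c hc).1 (ec ▸ g.2.2)⟩)⟩, Subtype.ext ec⟩
  rw [← Nat.card_eq_of_bijective f hf, Nat.card_eq_fintype_card, Fintype.card_coe,
    List.toFinset_card_of_nodup (List.nodup_range.filter _)]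

/-- A fused involution of the radical and its partner have the same invariants. -/
theorem exists_partner {c : ℕ} (hc : c < 192) (hconj : IsConj s (ψ c)) :
    isInvL sw e c = true ∧ ∃ d < 192, isInvL sw e d = true ∧ radPair sw e c = partnerPair sw e d := by
  obtain ⟨g, hg⟩ := isConj_iff.1 hconj
  have hu2 : ψ c * ψ c = 1 := by
    rw [← hg, show g * s * g⁻¹ * (g * s * g⁻¹) = g * (s * s) * g⁻¹ by group, M.ss]; group
  have hcs : ψ c * s = s * ψ c := mem_centralizer_singleton_iff.1 (M.mem c hc)
  have hinv : ∀ {k}, k < 192 → ψ k * ψ k = 1 → ψ k ≠ 1 → isInvL sw e k = true := fun {k} hk h2 h1 => by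
    simp only [isInvL, Bool.and_eq_true, bne_iff_ne, ne_eq, beq_iff_eq]
    refine ⟨fun h => h1 (by rw [h, M.one]), (lMulT_eq hk hk).symm.trans (M.inj _ (lMul_lt hk hk) 0 (by norm_num) ?_)⟩
    rw [← M.mul k hk k hk, h2, M.one]
  have hd : g⁻¹ * s * g ∈ centralizer ({s} : Set G) := by
    rw [mem_centralizer_singleton_iff]
    calc g⁻¹ * s * g * s = g⁻¹ * (s * (g * s * g⁻¹)) * g := by group
      _ = g⁻¹ * (g * s * g⁻¹ * s) * g := by rw [hg, hcs]
      _ = _ := by group
  obtain ⟨d, hd', ed⟩ := M.surj _ hd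
  refine ⟨hinv hc hu2 (fun h => M.s_ne (conj_eq_one_iff.1 (hg.trans h))), d, hd', ?_, ?_⟩
  · refine hinv hd' ?_ ?_
    · rw [ed, show g⁻¹ * s * g * (g⁻¹ * s * g) = g⁻¹ * (s * s) * g by group, M.ss]; group
    · intro h
      rw [ed] at h
      refine M.s_ne ?_
      calc s = g * (g⁻¹ * s * g) * g⁻¹ := by group
        _ = 1 := by rw [h]; group
  have gd : g * ψ d * g⁻¹ = s := by rw [ed]; group
  have hmove : ∀ x : G, (x * s = s * x ∧ x * ψ d = ψ d * x) ↔
      (g * x * g⁻¹ * s = s * (g * x * g⁻¹) ∧ g * x * g⁻¹ * ψ c = ψ c * (g * x * g⁻¹)) := by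
    intro x
    have : ∀ a b : G, g * a * g⁻¹ * (g * b * g⁻¹) = g * b * g⁻¹ * (g * a * g⁻¹) ↔ a * b = b * a := fun a b => by
      rw [show g * a * g⁻¹ * (g * b * g⁻¹) = g * (a * b) * g⁻¹ by group,
        show g * b * g⁻¹ * (g * a * g⁻¹) = g * (b * a) * g⁻¹ by group]
      exact ⟨fun h => mul_left_cancel (mul_right_cancel h), fun h => by rw [h]⟩
    constructor
    · rintro ⟨h1, h2⟩
      exact ⟨gd ▸ (this x (ψ d)).2 h2, hg ▸ (this x s).2 h1⟩
    · rintro ⟨h1, h2⟩
      exact ⟨(this x s).1 (by rw [hg]; exact h2), (this x (ψ d)).1 (by rw [gd]; exact h1)⟩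
  have hsc : ∀ x : G, x ∈ centralizer ({s} : Set G) ↔ x * s = s * x := fun x => mem_centralizer_singleton_iff
  have hsq : ∀ x : G, (g * x * g⁻¹ * (g * x * g⁻¹) = ψ c) ↔ x * x = s := fun x => by
    rw [show g * x * g⁻¹ * (g * x * g⁻¹) = g * (x * x) * g⁻¹ by group, ← hg]
    exact ⟨fun h => mul_left_cancel (mul_right_cancel h), fun h => by rw [h]⟩
  have e1 : centN sw e c = centN sw e d := by
    rw [centN, centN, ← M.card_filter (fun x => x * ψ c = ψ c * x) _ fun k hk => by rw [eq_comm, M.comm_iff hc hk],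
      ← M.card_filter (fun x => x * ψ d = ψ d * x) _ fun k hk => by rw [eq_comm, M.comm_iff hd' hk]]
    refine (Nat.card_congr (Equiv.subtypeEquiv (MulAut.conj g).toEquiv fun x => ?_)).symm
    simp only [hsc]
    exact hmove x
  have e2 : rootN sw e c c = rootN sw e d 1 := by
    rw [rootN, rootN, ← M.card_filter (fun x => x * ψ c = ψ c * x ∧ x * x = ψ c) _ fun k hk => by
        rw [Bool.and_eq_true, Nat.beq_eq, and_comm (a := lMulT sw e k k = c), eq_comm, M.comm_iff hc hk, M.mul k hk k hk,
          ← lMulT_eq hk hk]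
        exact and_congr Iff.rfl ⟨M.inj _ (lMul_lt hk hk) c hc, congrArg ψ⟩,
      ← M.card_filter (fun x => x * ψ d = ψ d * x ∧ x * x = ψ 1) _ fun k hk => by
        rw [Bool.and_eq_true, Nat.beq_eq, and_comm (a := lMulT sw e k k = 1), eq_comm, M.comm_iff hd' hk, M.mul k hk k hk,
          ← lMulT_eq hk hk]
        exact and_congr Iff.rfl ⟨M.inj _ (lMul_lt hk hk) 1 (by norm_num), congrArg ψ⟩]
    refine (Nat.card_congr (Equiv.subtypeEquiv (MulAut.conj g).toEquiv fun x => ?_)).symm
    simp only [hsc, MulEquiv.toEquiv_eq_coe, EquivLike.coe_coe, MulAut.conj_apply, M.at_s, hsq, ← and_assoc]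
    exact and_congr (hmove x) Iff.rfl
  simp only [radPair, partnerPair, e1, e2]

end LModel

/-- A check on all involutions of the radical. -/
def radCheck (sw e : Bool) (ok : ℕ → ℕ × ℕ → Bool) : Bool :=
  (List.range 32).all fun c => !(isInvL sw e c) || c == 1 || ok c (radPair sw e c)

/-- A check on all involutions. -/
def partnerCheck (sw e : Bool) (ok : ℕ × ℕ → Bool) : Bool :=
  (List.range 192).all fun d => !(isInvL sw e d) || ok (partnerPair sw e d)

theorem rad_twisted : radCheck true true (fun _ p => p == (16, 0) || p == (32, 4)) = true := by decide +kernel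

theorem partner_twisted : partnerCheck true true (fun p => p != (16, 0) && p != (32, 4)) = true := by decide +kernel

theorem rad_split : radCheck false true (fun _ p => p == (32, 4)) = true := by decide +kernel

theorem partner_split : partnerCheck false true (fun p => p != (32, 4)) = true := by decide +kernel

theorem rad_twelve : radCheck true false (fun c p => [10, 20, 30, 11, 21, 31].contains c || p == (16, 0)) = true := by
  decide +kernel

theorem partner_twelve : partnerCheck true false (fun p => p != (16, 0)) = true := by decide +kernel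

theorem radCheck_spec {sw e : Bool} {ok : ℕ → ℕ × ℕ → Bool} (h : radCheck sw e ok = true) {c : ℕ} (hc : c < 32)
    (hi : isInvL sw e c = true) (hc1 : c ≠ 1) : ok c (radPair sw e c) = true := by
  simp only [radCheck, List.all_eq_true, List.mem_range, Bool.or_eq_true, Bool.not_eq_true', beq_iff_eq] at h
  rcases h c hc with (h | h) | h
  · rw [hi] at h; exact absurd h (by simp)
  · exact absurd h hc1
  · exact h

theorem partnerCheck_spec {sw e : Bool} {ok : ℕ × ℕ → Bool} (h : partnerCheck sw e ok = true) {d : ℕ} (hd : d < 192)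
    (hi : isInvL sw e d = true) : ok (partnerPair sw e d) = true := by
  simp only [partnerCheck, List.all_eq_true, List.mem_range, Bool.or_eq_true, Bool.not_eq_true'] at h
  rcases h d hd with h | h
  · rw [hi] at h; exact absurd h (by simp)
  · exact h

/-- The inverting element can be chosen as an involution. -/
theorem twist_false {G : Type*} [Group G] [Finite G] {sw e : Bool} {s : G} {ψ : ℕ → G} (M : LModel sw e s ψ) {c : ℕ}
    (hc : c < 32) (hc1 : c ≠ 1) (h : IsConj s (ψ c)) :
    e = false ∧ (sw = true → c ∈ [10, 20, 30, 11, 21, 31]) := by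
  obtain ⟨hi, d, hd, hdi, hp⟩ := M.exists_partner (by omega) h
  cases sw <;> cases e
  · exact ⟨rfl, fun h => absurd h Bool.false_ne_true⟩
  · have h1 := radCheck_spec rad_split hc hi hc1
    have h2 := partnerCheck_spec partner_split hd hdi
    simp [← hp] at h1 h2
    exact absurd h1 h2
  · refine ⟨rfl, fun _ => ?_⟩
    have h1 := radCheck_spec rad_twelve hc hi hc1
    have h2 := partnerCheck_spec partner_twelve hd hdi
    rw [← hp] at h2
    simp at h1 h2
    rcases h1 with h1 | h1
    · simp [h1]
    · exact absurd h1 h2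
  · have h1 := radCheck_spec rad_twisted hc hi hc1
    have h2 := partnerCheck_spec partner_twisted hd hdi
    rw [← hp] at h2
    simp at h1 h2
    rcases h1 with h1 | h1
    · exact absurd h1 h2.1
    · exact absurd h1 h2.2

end CfsgLib.Spor.ExtraSymThree
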