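import Cfsg.Agent.Lib.Spor.ExtraSymThree.BClasses
import Cfsg.Agent.Lib.Invol.ZStar
import Cfsg.Agent.Lib.Coprime.Core
import Cfsg.Agent.Lib.Spor.MTwelveCent.Basics
import Mathlib.GroupTheory.QuotientGroup.Basic

/-!
# The centralizer of the other involution normalizes a four-group
-/

set_option autoImplicit false
set_option maxRecDepth 100000
set_option linter.unusedSectionVars false

namespace CfsgLib.Spor.ExtraSymThree

open Subgroup CfsgLib.Lie.BoundedPres

theorem cv_codes : comB 8 96 = true ∧ mB 8 96 = 104 ∧ (1 ∈ sylB ∧ comB 1 8 = true) ∧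
    (∀ d ∈ [8, 96, 104], d ∈ clsB 8 ++ clsB 96) ∧ (1 ∈ nineO ∧ 2 ∈ nineO ∧ 3 ∈ nineO ∧ mB 1 2 = 3) := by
  decide +kernel

theorem cv_candidates : ∀ c < 192, mB c c = 0 → comB c 8 = true → c ≠ 8 → c ∈ clsB 8 ++ clsB 96 →
    mB c 8 ∈ clsB 8 ++ clsB 96 → c ∈ [16, 17, 24, 25, 96, 104] := by
  intro c hc h1 h2 h3 h4 h5
  have k : ((List.range 192).all fun c => mB c c != 0 || !comB c 8 || c == 8 || !(clsB 8 ++ clsB 96).contains c ||
      !(clsB 8 ++ clsB 96).contains (mB c 8) || [16, 17, 24, 25, 96, 104].contains c) = true := by decide +kernel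
  simp only [List.all_eq_true, List.mem_range, Bool.or_eq_true, Bool.not_eq_true', bne_iff_ne, beq_iff_eq] at k
  rcases k c hc with ((((e | e) | e) | e) | e) | e
  · exact absurd h1 e
  · rw [h2] at e; exact absurd e (by decide)
  · exact absurd e h3
  · rw [List.contains_iff_mem.2 h4] at e; exact absurd e (by decide)
  · rw [List.contains_iff_mem.2 h5] at e; exact absurd e (by decide)
  · exact List.contains_iff_mem.1 e

theorem cv_few : ∀ c ∈ [16, 17, 24, 25],
    ((List.range 192).filter fun d => mB d d == 0 && comB d 8 && comB d c).length < 16 := by decide +kernel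

/-- The unfused codes of the elementary group. -/
def wUnfused : List ℕ := [8, 9, 96, 98, 104, 107]

theorem cv_pair_check : (sylB.all fun x => !(clsB 2 ++ clsB 10 ++ clsB 97 ++ [1]).contains x ||
    wB.contains x || wUnfused.all fun a => wUnfused.all fun b =>
      a == b || !wUnfused.contains (mB a b) || !comB x a || !comB x b) = true := by decide +kernel

theorem cv_pair : ∀ x ∈ sylB, x ∈ clsB 2 ++ clsB 10 ++ clsB 97 ++ [1] → ∀ a ∈ [8, 9, 96, 98, 104, 107],
    ∀ b ∈ [8, 9, 96, 98, 104, 107], a ≠ b → mB a b ∈ [8, 9, 96, 98, 104, 107] → comB x a = true →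
    comB x b = true → x ∈ wB := by
  intro x hx hxc a ha b hb hne hab h1 h2
  have k := cv_pair_check
  simp only [List.all_eq_true, Bool.or_eq_true, Bool.not_eq_true', List.contains_iff_mem, beq_iff_eq] at k
  rcases k x hx with (h | h) | h
  · exact absurd (List.contains_iff_mem.2 hxc) (by rw [h]; simp)
  · exact h
  · rcases h a ha b hb with ((e | e) | e) | e
    · exact absurd e hne
    · exact absurd (List.contains_iff_mem.2 hab) (by rw [show wUnfused = [8, 9, 96, 98, 104, 107] from rfl] at e; rw [e]; simp)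
    · rw [h1] at e; exact absurd e (by decide)
    · rw [h2] at e; exact absurd e (by decide)

/-- The elements of the centralizer commuting with the involution. -/
theorem tz_facts : ∀ c < 192, comB c 8 = true →
    mB (mB (mB c c) (mB c c)) (mB (mB c c) (mB c c)) = 0 := fun c hc h => unfused_free 8 (by decide) c hc h

theorem t0_closed : ClosedB ((List.range 192).filter fun c => comB c 8) ∧
    ((List.range 192).filter fun c => comB c 8).Nodup ∧
    ((List.range 192).filter fun c => comB c 8).length = 32 := by decide +kernel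

namespace BEmb

variable {G : Type*} [Group G] [Finite G] {s : G} {ψ : ℕ → G} {ka kb : G} {f : alternatingGroup (Pt 6) →* G}
  (E : BEmb s ψ ka kb f)
include E

theorem commute_v_u : ψ 8 * ψ 96 = ψ 96 * ψ 8 :=
  (E.std.model.comm_iff (by norm_num) (by norm_num)).2 cv_codes.1

theorem v_sq : ψ 8 * ψ 8 = 1 := (E.std.model.sq_iff (by norm_num)).2 (by decide +kernel)

theorem u_sq : ψ 96 * ψ 96 = 1 := (E.std.model.sq_iff (by norm_num)).2 (by decide +kernel)

theorem u_mem_W : ψ 96 ∈ E.std.model.grpW := ⟨96, move_facts.2.2.2.2.1, rfl⟩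

theorem v_mem_W : ψ 8 ∈ E.std.model.grpW := ⟨8, move_facts.2.2.2.1, rfl⟩

theorem not_fused_of {g : G} (h : IsConj (ψ 8) g) : ¬ IsConj s g := fun hs => E.not_fused_eight (hs.trans h.symm)

theorem v_conj_u : IsConj (ψ 8) (ψ 96) := isConj_iff.2 ⟨ka, by rw [E.pair.actA 8 move_facts.2.2.2.1, move_facts.2.1]⟩

theorem v_conj_uv : IsConj (ψ 8) (ψ 96 * ψ 8) := by
  rw [← E.commute_v_u, E.std.model.mul 8 (by norm_num) 96 (by norm_num), cv_codes.2.1]
  exact E.v_conj_u.trans (isConj_iff.2 ⟨ka, by rw [E.pair.actA 96 move_facts.2.2.2.2.1, move_facts.2.2.1]⟩)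

/-- A two-group centralizing the involution has at most thirty-two elements. -/
theorem two_card_le {P : Subgroup G} (hP : IsPGroup 2 P) (hle : P ≤ centralizer ({ψ 8} : Set G)) :
    Nat.card P ≤ 32 := by
  haveI : Fact (Nat.Prime 2) := ⟨Nat.prime_two⟩
  have M := E.std.model
  obtain ⟨n, hn⟩ := IsPGroup.iff_card.1 hP
  by_contra hc
  obtain ⟨Q, hQ⟩ := M.exists_sylow
  obtain ⟨R, hR⟩ := hP.exists_le_sylow
  obtain ⟨g, hg⟩ := MulAction.exists_smul_eq G R Q
  set P' := P.map (MulAut.conj g).toMonoidHom with hP'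
  have hle' : P' ≤ M.grpS := by
    rw [← hQ, ← hg, Sylow.coe_subgroup_smul]
    rintro _ ⟨a, ha, rfl⟩
    exact ⟨a, hR ha, rfl⟩
  have hn6 : 6 ≤ n := by
    by_contra h
    rw [hn] at hc
    exact hc ((Nat.pow_le_pow_right (by norm_num) (show n ≤ 5 by omega)).trans (by norm_num))
  have e : P' = M.grpS := eq_of_le_of_card_ge hle' (by
    rw [M.card_grpS, card_map_of_injective (MulAut.conj g).injective, hn]
    exact le_trans (by norm_num) (Nat.pow_le_pow_right (by norm_num) hn6))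
  have hv : g * ψ 8 * g⁻¹ * (g * ψ 8 * g⁻¹) = 1 := by
    rw [show g * ψ 8 * g⁻¹ * (g * ψ 8 * g⁻¹) = g * (ψ 8 * ψ 8) * g⁻¹ by group, E.v_sq]; group
  have hcent : ∀ t ∈ M.grpS, g * ψ 8 * g⁻¹ * t = t * (g * ψ 8 * g⁻¹) := by
    intro t ht
    rw [← e] at ht
    obtain ⟨a, ha, rfl⟩ := ht
    have ha' := mem_centralizer_singleton_iff.1 (hle ha)
    show g * ψ 8 * g⁻¹ * (g * a * g⁻¹) = g * a * g⁻¹ * (g * ψ 8 * g⁻¹)
    rw [show g * ψ 8 * g⁻¹ * (g * a * g⁻¹) = g * (ψ 8 * a) * g⁻¹ by group, ← ha']; group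
  rcases M.central_eq hv hcent with h | h
  · exact (M.code_ne (r := 8) (by decide) (cls_spec 8 (by decide)).2.1).1 (conj_eq_one_iff.1 h)
  · exact E.not_fused_eight (isConj_iff.2 ⟨g⁻¹, by rw [← h]; group⟩)

/-- Two-groups of the centralizer go into that of the central involution. -/
theorem two_conj_into {P : Subgroup G} (hP : IsPGroup 2 P) (hle : P ≤ centralizer ({ψ 8} : Set G)) :
    ∃ k, k * ψ 8 = ψ 8 * k ∧ ∀ a ∈ P, k * a * k⁻¹ * s = s * (k * a * k⁻¹) := by
  classical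
  haveI : Fact (Nat.Prime 2) := ⟨Nat.prime_two⟩
  have M := E.std.model
  set K := centralizer ({ψ 8} : Set G) with hK
  obtain ⟨hT, hTn, hTl⟩ := t0_closed
  set T := M.sub _ hT with hTdef
  have hTK : T ≤ K := by
    rintro _ ⟨c, hc, rfl⟩
    obtain ⟨h1, h2⟩ := List.mem_filter.1 hc
    exact mem_centralizer_singleton_iff.2 ((M.comm_iff (List.mem_range.1 h1) (by norm_num)).2 h2)
  have hTc : Nat.card T = 32 := by rw [hTdef, M.card_sub _ _ hTn, hTl]
  have hTp : IsPGroup 2 (T.subgroupOf K) := IsPGroup.of_card (n := 5) (by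
    rw [Nat.card_congr (subgroupOfEquivOfLe hTK).toEquiv, hTc]; norm_num)
  obtain ⟨Q, hQ⟩ := hTp.exists_le_sylow
  have hQc : Nat.card ((Q : Subgroup K).map K.subtype) ≤ 32 :=
    E.two_card_le (Q.isPGroup'.map _) (map_subtype_le _)
  have hTQ : T = (Q : Subgroup K).map K.subtype := eq_of_le_of_card_ge
    (fun t ht => ⟨⟨t, hTK ht⟩, hQ (mem_subgroupOf.2 ht), rfl⟩) (by rw [hTc]; exact hQc)
  have hP' : IsPGroup 2 (P.subgroupOf K) := hP.of_equiv (subgroupOfEquivOfLe hle).symm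
  obtain ⟨R, hR⟩ := hP'.exists_le_sylow
  obtain ⟨k, hk⟩ := MulAction.exists_smul_eq K R Q
  refine ⟨k, mem_centralizer_singleton_iff.1 k.2, fun a ha => ?_⟩
  have hm : (k : G) * a * (k : G)⁻¹ ∈ T := by
    rw [hTQ, ← hk, Sylow.coe_subgroup_smul]
    exact ⟨k * ⟨a, hle ha⟩ * k⁻¹, ⟨⟨a, hle ha⟩, hR (mem_subgroupOf.2 ha), rfl⟩, rfl⟩
  obtain ⟨c, hc, e⟩ := hm
  rw [← e]
  exact M.comm_s (List.mem_range.1 (List.mem_filter.1 hc).1)

/-- A conjugate in the centralizer of a second involution of the four-group lies in the four-group. -/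
theorem conj_u_cases {k : G} (hk : k * ψ 8 = ψ 8 * k) (hcs : k * ψ 96 * k⁻¹ * s = s * (k * ψ 96 * k⁻¹)) :
    k * ψ 96 * k⁻¹ = ψ 96 ∨ k * ψ 96 * k⁻¹ = ψ 96 * ψ 8 := by
  classical
  haveI : Fact (Nat.Prime 2) := ⟨Nat.prime_two⟩
  have M := E.std.model
  obtain ⟨-, h104, -, hV, -⟩ := cv_codes
  have hcand := cv_candidates
  have hfew := cv_few
  have hpair := cv_pair
  set y := k * ψ 96 * k⁻¹ with hy
  have kvk : k * ψ 8 * k⁻¹ = ψ 8 := mul_inv_eq_iff_eq_mul.2 hk
  have hyv : y * ψ 8 = ψ 8 * y := by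
    calc y * ψ 8 = k * ψ 96 * k⁻¹ * (k * ψ 8 * k⁻¹) := by rw [kvk]
      _ = k * (ψ 96 * ψ 8) * k⁻¹ := by group
      _ = k * (ψ 8 * ψ 96) * k⁻¹ := by rw [E.commute_v_u]
      _ = k * ψ 8 * k⁻¹ * (k * ψ 96 * k⁻¹) := by group
      _ = _ := by rw [kvk]
  have hy2 : y * y = 1 := by
    rw [hy, show k * ψ 96 * k⁻¹ * (k * ψ 96 * k⁻¹) = k * (ψ 96 * ψ 96) * k⁻¹ by group, E.u_sq]; group
  obtain ⟨c, hc, ec⟩ := M.code_of_comm hcs
  have hu1 : ψ 96 ≠ 1 := (M.code_ne (r := 96) (by decide) (cls_spec 96 (by decide)).2.1).1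
  have clsv : ∀ {d : ℕ}, d < 192 → IsConj (ψ 8) (ψ d) → d ∈ clsB 8 ++ clsB 96 := by
    intro d hd h
    have hd2 : ψ d * ψ d = 1 := by
      obtain ⟨g, hg⟩ := isConj_iff.1 h
      rw [← hg, show g * ψ 8 * g⁻¹ * (g * ψ 8 * g⁻¹) = g * (ψ 8 * ψ 8) * g⁻¹ by group, E.v_sq]; group
    rcases inv_cover d hd ((M.sq_iff hd).1 hd2) with rfl | rfl | ⟨r, hr, hdr⟩
    · rw [M.one] at h
      obtain ⟨g, hg⟩ := isConj_iff.1 h
      exact absurd (conj_eq_one_iff.1 hg) (M.code_ne (r := 8) (by decide) (cls_spec 8 (by decide)).2.1).1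
    · exact absurd (by rw [M.at_s]) (E.not_fused_of h)
    · rcases class_split r hr with h' | rfl | rfl
      · refine absurd (((E.std.fused r hr).2 ?_).trans (M.isConj_cls hr hdr)) (E.not_fused_of h)
        simpa [stdFused] using h'
      · exact List.mem_append_left _ hdr
      · exact List.mem_append_right _ hdr
  have hc1 : c ∈ clsB 8 ++ clsB 96 := clsv hc (ec.symm ▸ E.v_conj_u.trans (isConj_iff.2 ⟨k, rfl⟩))
  have hc8 : mB c 8 ∈ clsB 8 ++ clsB 96 := by
    refine clsv (mB_lt c hc 8 (by norm_num)) ?_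
    rw [← M.mul c hc 8 (by norm_num), ec]
    refine E.v_conj_uv.trans (isConj_iff.2 ⟨k, ?_⟩)
    rw [show k * (ψ 96 * ψ 8) * k⁻¹ = k * ψ 96 * k⁻¹ * (k * ψ 8 * k⁻¹) by group, kvk]
  have hne8 : c ≠ 8 := by
    rintro rfl
    have : ψ 96 = ψ 8 := by
      calc ψ 96 = k⁻¹ * (k * ψ 96 * k⁻¹) * k := by group
        _ = k⁻¹ * (k * ψ 8 * k⁻¹) * k := by rw [← hy, ← ec, kvk]
        _ = _ := by group
    exact absurd (M.inj 96 (by norm_num) 8 (by norm_num) this) (by norm_num)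
  have hm := hcand c hc ((M.sq_iff hc).1 (by rw [ec]; exact hy2))
    ((M.comm_iff hc (by norm_num)).1 (by rw [ec]; exact hyv)) hne8 hc1 hc8
  by_cases hlast : c = 96 ∨ c = 104
  · rcases hlast with rfl | rfl
    · exact Or.inl ec.symm
    · right
      rw [← ec, ← E.commute_v_u, M.mul 8 (by norm_num) 96 (by norm_num), h104]
  exfalso
  have hc4 : c ∈ [16, 17, 24, 25] := by
    simp only [List.mem_cons, List.not_mem_nil, or_false] at hm ⊢
    tauto
  have hlt := hfew c hc4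
  -- the conjugate of the elementary group
  set W' := M.grpW.map (MulAut.conj k).toMonoidHom with hW'
  set C := centralizer ({ψ 8} : Set G) ⊓ centralizer ({y} : Set G) with hC
  have hW'C : W' ≤ C := by
    rintro _ ⟨w, hw, rfl⟩
    refine mem_inf.2 ⟨mem_centralizer_singleton_iff.2 ?_, mem_centralizer_singleton_iff.2 ?_⟩
    · show k * w * k⁻¹ * ψ 8 = ψ 8 * (k * w * k⁻¹)
      calc k * w * k⁻¹ * ψ 8 = k * w * k⁻¹ * (k * ψ 8 * k⁻¹) := by rw [kvk]
        _ = k * (w * ψ 8) * k⁻¹ := by group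
        _ = k * (ψ 8 * w) * k⁻¹ := by rw [M.grpW_comm hw E.v_mem_W]
        _ = k * ψ 8 * k⁻¹ * (k * w * k⁻¹) := by group
        _ = _ := by rw [kvk]
    · show k * w * k⁻¹ * y = y * (k * w * k⁻¹)
      rw [hy, show k * w * k⁻¹ * (k * ψ 96 * k⁻¹) = k * (w * ψ 96) * k⁻¹ by group, M.grpW_comm hw E.u_mem_W]; group
  have hsC : s ∈ C := mem_inf.2 ⟨mem_centralizer_singleton_iff.2 (M.comm_s (by norm_num)).symm,
    mem_centralizer_singleton_iff.2 hcs.symm⟩
  have hs2 : IsPGroup 2 ((zpowers s).subgroupOf C) := by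
    refine IsPGroup.of_card (n := 1) ?_
    rw [Nat.card_congr (subgroupOfEquivOfLe (zpowers_le.2 hsC)).toEquiv, Nat.card_zpowers, M.ord, pow_one]
  have hW'2 : IsPGroup 2 (W'.subgroupOf C) := IsPGroup.of_card (n := 4) (by
    rw [Nat.card_congr (subgroupOfEquivOfLe hW'C).toEquiv, hW', card_map_of_injective (MulAut.conj k).injective,
      M.card_grpW]; norm_num)
  obtain ⟨P₁, hP₁⟩ := hs2.exists_le_sylow
  obtain ⟨P₂, hP₂⟩ := hW'2.exists_le_sylow
  obtain ⟨m, hm'⟩ := MulAction.exists_smul_eq C P₂ P₁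
  obtain ⟨Q, hQ⟩ := M.exists_sylow
  obtain ⟨R, hR⟩ := (P₁.isPGroup'.map C.subtype).exists_le_sylow
  obtain ⟨g, hg⟩ := MulAction.exists_smul_eq G R Q
  have toS : ∀ {a : G}, a ∈ (P₁ : Subgroup C).map C.subtype → g * a * g⁻¹ ∈ M.grpS := fun {a} ha => by
    rw [← hQ, ← hg, Sylow.coe_subgroup_smul]
    exact ⟨a, hR ha, rfl⟩
  have hmW : ∀ w ∈ M.grpW, (m : G) * (k * w * k⁻¹) * (m : G)⁻¹ ∈ (P₁ : Subgroup C).map C.subtype := fun w hw => by
    rw [← hm', Sylow.coe_subgroup_smul]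
    exact ⟨m * ⟨k * w * k⁻¹, hW'C ⟨w, hw, rfl⟩⟩ * m⁻¹, ⟨_, hP₂ (mem_subgroupOf.2 ⟨w, hw, rfl⟩), rfl⟩, rfl⟩
  set A := M.grpW.map (MulAut.conj (g * (m : G) * k)).toMonoidHom with hA
  have hAS : A = M.grpW := by
    refine M.eq_grpW_of_le (by rw [hA, card_map_of_injective (MulAut.conj _).injective, M.card_grpW]) ?_ ?_
    · rintro _ ⟨w, hw, rfl⟩
      rw [← map_mul, M.grpW_sq hw, map_one]
    · rintro _ ⟨w, hw, rfl⟩
      show g * (m : G) * k * w * (g * (m : G) * k)⁻¹ ∈ M.grpS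
      rw [show g * (m : G) * k * w * (g * (m : G) * k)⁻¹ = g * ((m : G) * (k * w * k⁻¹) * (m : G)⁻¹) * g⁻¹ by group]
      exact toS (hmW w hw)
  obtain ⟨hmv, hmy⟩ := mem_inf.1 m.2
  rw [mem_centralizer_singleton_iff] at hmv hmy
  have hav : g * ψ 8 * g⁻¹ ∈ M.grpW := by
    rw [← hAS]
    refine ⟨ψ 8, E.v_mem_W, ?_⟩
    show g * (m : G) * k * ψ 8 * (g * (m : G) * k)⁻¹ = _
    rw [show g * (m : G) * k * ψ 8 * (g * (m : G) * k)⁻¹ = g * ((m : G) * (k * ψ 8 * k⁻¹) * (m : G)⁻¹) * g⁻¹ by group,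
      kvk, hmv, mul_inv_cancel_right]
  have hay : g * y * g⁻¹ ∈ M.grpW := by
    rw [← hAS]
    refine ⟨ψ 96, E.u_mem_W, ?_⟩
    show g * (m : G) * k * ψ 96 * (g * (m : G) * k)⁻¹ = _
    rw [show g * (m : G) * k * ψ 96 * (g * (m : G) * k)⁻¹ = g * ((m : G) * (k * ψ 96 * k⁻¹) * (m : G)⁻¹) * g⁻¹ by group,
      ← hy, hmy, mul_inv_cancel_right]
  obtain ⟨a, ha, hal, ea⟩ := M.code_of_grpW hav
  obtain ⟨b, hb, hbl, eb⟩ := M.code_of_grpW hay
  obtain ⟨x, hx, ex⟩ := toS ⟨⟨s, hsC⟩, hP₁ (mem_subgroupOf.2 (mem_zpowers s)), rfl⟩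
  have hxl := (sylB_facts.1.2 x hx).1
  have vU : ∀ {d : ℕ}, d ∈ wB → IsConj (ψ 8) (ψ d) → d ∈ [8, 9, 96, 98, 104, 107] := fun {d} hd h => by
    refine (unfused_list d hd fun h' => E.not_fused_of h ((E.std.fused_iff hd).2 h')).resolve_left fun h0 => ?_
    rw [h0, M.one] at h
    obtain ⟨g, hg⟩ := isConj_iff.1 h
    exact (M.code_ne (r := 8) (by decide) (cls_spec 8 (by decide)).2.1).1 (conj_eq_one_iff.1 hg)
  have ha' := vU ha (isConj_iff.2 ⟨g, ea.symm⟩)
  have hb' := vU hb (by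
    rw [eb]
    exact E.v_conj_u.trans ((isConj_iff.2 ⟨k, rfl⟩ : IsConj (ψ 96) y).trans (isConj_iff.2 ⟨g, rfl⟩)))
  have hab : mB a b ∈ [8, 9, 96, 98, 104, 107] := by
    refine vU ((wB_facts.1.2 a ha).2.2 b hb) ?_
    rw [← M.mul a hal b hbl, ea, eb]
    refine E.v_conj_uv.trans (isConj_iff.2 ⟨g * k, ?_⟩)
    calc g * k * (ψ 96 * ψ 8) * (g * k)⁻¹ = g * (k * ψ 96 * k⁻¹ * (k * ψ 8 * k⁻¹)) * g⁻¹ := by group
      _ = g * (ψ 8 * y) * g⁻¹ := by rw [kvk, ← hy, hyv]
      _ = _ := by group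
  have hne : a ≠ b := fun h => hne8 (by
    refine M.inj c hc 8 (by norm_num) ?_
    rw [h, eb] at ea
    rw [ec]
    exact mul_left_cancel (mul_right_cancel ea))
  have hxc : x ∈ clsB 2 ++ clsB 10 ++ clsB 97 ++ [1] := by
    have hxs : IsConj s (ψ x) := isConj_iff.2 ⟨g, ex.symm⟩
    have hx2 : mB x x = 0 := by
      rw [← M.sq_iff hxl, ex]
      show g * s * g⁻¹ * (g * s * g⁻¹) = 1
      rw [show g * s * g⁻¹ * (g * s * g⁻¹) = g * (s * s) * g⁻¹ by group, M.ss]; group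
    rcases inv_cover x hxl hx2 with rfl | rfl | ⟨r, hr, hxr⟩
    · rw [M.one] at hxs
      obtain ⟨g', hg'⟩ := isConj_iff.1 hxs
      exact absurd (conj_eq_one_iff.1 hg') M.s_ne
    · simp
    · have hr' := (E.std.fused r hr).1 (hxs.trans (M.isConj_cls hr hxr).symm)
      simp only [stdFused, List.mem_cons, List.not_mem_nil, or_false] at hr'
      rcases hr' with rfl | rfl | rfl <;> simp [hxr]
  have hcx : ∀ {d : G}, s * d = d * s → ψ x * (g * d * g⁻¹) = g * d * g⁻¹ * ψ x := fun {d} h => by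
    rw [ex]
    show g * s * g⁻¹ * (g * d * g⁻¹) = g * d * g⁻¹ * (g * s * g⁻¹)
    rw [show g * s * g⁻¹ * (g * d * g⁻¹) = g * (s * d) * g⁻¹ by group, h]; group
  have hxW := hpair x hx hxc a ha' b hb' hne hab
    ((M.comm_iff hxl hal).1 (ea ▸ hcx (M.comm_s (by norm_num)).symm))
    ((M.comm_iff hxl hbl).1 (eb ▸ hcx hcs.symm))
  -- sixteen commuting elements in the centralizer
  have hcode : ∀ w : M.grpW, ∃ d, d ∈ ((List.range 192).filter fun d => mB d d == 0 && comB d 8 && comB d c).toFinset ∧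
      ψ d = g⁻¹ * (w : G) * g := by
    intro w
    have hsW : g * s * g⁻¹ ∈ M.grpW := ex ▸ ⟨x, hxW, rfl⟩
    have key : ∀ {t : G}, g * t * g⁻¹ ∈ M.grpW → g⁻¹ * (w : G) * g * t = t * (g⁻¹ * (w : G) * g) := fun {t} ht => by
      calc g⁻¹ * (w : G) * g * t = g⁻¹ * ((w : G) * (g * t * g⁻¹)) * g := by group
        _ = g⁻¹ * (g * t * g⁻¹ * (w : G)) * g := by rw [M.grpW_comm w.2 ht]
        _ = _ := by group
    obtain ⟨d, hd, ed⟩ := M.code_of_comm (key hsW)
    refine ⟨d, List.mem_toFinset.2 (List.mem_filter.2 ⟨List.mem_range.2 hd, ?_⟩), ed⟩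
    have h1 : mB d d = 0 := (M.sq_iff hd).1 (by
      rw [ed, show g⁻¹ * (w : G) * g * (g⁻¹ * (w : G) * g) = g⁻¹ * ((w : G) * w) * g by group, M.grpW_sq w.2]; group)
    have h2 := (M.comm_iff hd (by norm_num)).1 (ed ▸ key hav)
    have h3 := (M.comm_iff hd hc).1 (ed ▸ ec ▸ key hay)
    simp [h1, h2, h3]
  choose d hd1 hd2 using hcode
  have h16 := Nat.card_le_card_of_injective (fun w => (⟨d w, hd1 w⟩ : {z // z ∈ _})) fun w w' e => by
    have e' : d w = d w' := congrArg Subtype.val e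
    exact Subtype.ext (mul_left_cancel (mul_right_cancel ((hd2 w).symm.trans (e' ▸ hd2 w'))))
  rw [M.card_grpW, Nat.card_eq_fintype_card, Fintype.card_coe] at h16
  have h32 : ((List.range 192).filter fun d => mB d d == 0 && comB d 8 && comB d c).toFinset.card ≤
      ((List.range 192).filter fun d => mB d d == 0 && comB d 8 && comB d c).length := List.toFinset_card_le _
  omega

/-- The four-group is normal in the centralizer. -/
theorem four_normal {k : G} (hk : k * ψ 8 = ψ 8 * k) :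
    k * ψ 96 * k⁻¹ = ψ 96 ∨ k * ψ 96 * k⁻¹ = ψ 96 * ψ 8 := by
  classical
  haveI : Fact (Nat.Prime 2) := ⟨Nat.prime_two⟩
  have M := E.std.model
  set v := ψ 8 with hv
  set u := ψ 96 with hu
  set K := centralizer ({v} : Set G) with hK
  have hvK : v ∈ K := mem_centralizer_singleton_iff.2 rfl
  set Z := zpowers (⟨v, hvK⟩ : K) with hZ
  haveI : Z.Normal := by
    refine ⟨fun a ha g => ?_⟩
    obtain ⟨i, rfl⟩ := mem_zpowers_iff.1 ha
    have hg : g * (⟨v, hvK⟩ : K) = ⟨v, hvK⟩ * g := Subtype.ext (mem_centralizer_singleton_iff.1 g.2)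
    rw [((show Commute g (⟨v, hvK⟩ : K) from hg).zpow_right i).eq, mul_inv_cancel_right]
    exact ha
  set π := QuotientGroup.mk' Z with hπ
  have hvv : v * v = 1 := E.v_sq
  have ker : ∀ {g : K}, π g = 1 → (g : G) = 1 ∨ (g : G) = v := fun {g} hg => by
    rw [hπ, QuotientGroup.mk'_apply, QuotientGroup.eq_one_iff, hZ, mem_zpowers_iff] at hg
    obtain ⟨i, rfl⟩ := hg
    rw [Subgroup.coe_zpow]
    rcases Int.even_or_odd i with ⟨j, rfl⟩ | ⟨j, rfl⟩
    · left; rw [← two_mul, zpow_mul, zpow_two, hvv, one_zpow]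
    · right; rw [zpow_add, zpow_mul, zpow_two, hvv, one_zpow, one_mul, zpow_one]
  have huK : u ∈ K := mem_centralizer_singleton_iff.2 E.commute_v_u.symm
  set ub := π ⟨u, huK⟩ with hub
  have hub1 : ub ≠ 1 := fun h => by
    rcases ker h with h' | h'
    · exact (M.code_ne (r := 96) (by decide) (cls_spec 96 (by decide)).2.1).1 h'
    · exact absurd (M.inj 96 (by norm_num) 8 (by norm_num) h') (by norm_num)
  have hiso : Cfsg.IsIsolatedInvolution ub := by
    refine ⟨orderOf_eq_prime ?_ hub1, fun g hg => ?_⟩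
    · rw [pow_two, hub, ← map_mul, show (⟨u, huK⟩ : K) * ⟨u, huK⟩ = 1 from Subtype.ext E.u_sq, map_one]
    obtain ⟨g, rfl⟩ := QuotientGroup.mk'_surjective Z g
    set y := (g : G) * u * (g : G)⁻¹ with hy
    have hgv : (g : G) * v = v * g := mem_centralizer_singleton_iff.1 g.2
    have gvg : (g : G) * v * (g : G)⁻¹ = v := mul_inv_eq_iff_eq_mul.2 hgv
    have hyu : y * u = u * y ∨ y * u = u * y * v := by
      have h : π (g * ⟨u, huK⟩ * g⁻¹ * ⟨u, huK⟩) = π (⟨u, huK⟩ * (g * ⟨u, huK⟩ * g⁻¹)) := by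
        simp only [map_mul, map_inv]; exact hg.eq.symm
      have h' : π ((⟨u, huK⟩ * (g * ⟨u, huK⟩ * g⁻¹))⁻¹ * (g * ⟨u, huK⟩ * g⁻¹ * ⟨u, huK⟩)) = 1 := by
        rw [map_mul, map_inv, h, inv_mul_cancel]
      rcases ker h' with e | e
      · left
        exact (inv_mul_eq_one.1 e).symm
      · right
        simp only [Subgroup.coe_mul, Subgroup.coe_inv] at e
        rw [← hy] at e
        rw [← e]; group
    set P := closure ({v, u} : Set G) with hP
    have hPK : P ≤ K := (closure_le _).2 (by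
      rintro a (rfl | rfl)
      · exact hvK
      · exact huK)
    have hPW : P ≤ M.grpW := (closure_le _).2 (by
      rintro a (rfl | rfl)
      · exact E.v_mem_W
      · exact E.u_mem_W)
    have hP2 : IsPGroup 2 P := (IsPGroup.of_card (n := 4) (by rw [M.card_grpW]; norm_num) :
      IsPGroup 2 M.grpW).to_le hPW
    have hyK : y ∈ K := mul_mem (mul_mem g.2 huK) (inv_mem g.2)
    have hy2 : y * y = 1 := by
      rw [hy, show (g : G) * u * (g : G)⁻¹ * ((g : G) * u * (g : G)⁻¹) = g * (u * u) * (g : G)⁻¹ by group, E.u_sq]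
      group
    have hyi : y⁻¹ = y := inv_eq_of_mul_eq_one_right hy2
    have hyv : y * v = v * y := mem_centralizer_singleton_iff.1 hyK
    have hyN : y ∈ normalizer (P : Set G) := by
      have hyuP : y * u * y⁻¹ ∈ P := by
        rcases hyu with h | h
        · rw [h, mul_inv_cancel_right]; exact subset_closure (by simp)
        · rw [h, mul_assoc (u * y), hyi, ← hyv, show u * y * (y * v) = u * (y * y) * v by group, hy2, mul_one]
          exact mul_mem (subset_closure (by simp)) (subset_closure (by simp))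
      have hle : P.map (MulAut.conj y).toMonoidHom ≤ P := by
        rw [hP, MonoidHom.map_closure, closure_le]
        rintro _ ⟨a, rfl | rfl, rfl⟩
        · show y * v * y⁻¹ ∈ closure ({v, u} : Set G)
          rw [hyv, mul_inv_cancel_right]; exact subset_closure (by simp)
        · exact hyuP
      rw [mem_normalizer_iff]
      intro a
      refine ⟨fun ha => hle ⟨a, ha, rfl⟩, fun ha => ?_⟩
      have := hle ⟨_, ha, rfl⟩
      change y * (y * a * y⁻¹) * y⁻¹ ∈ P at this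
      rwa [show y * (y * a * y⁻¹) * y⁻¹ = y * y * a * (y * y)⁻¹ by group, hy2, one_mul, inv_one, mul_one] at this
    have hy2' : IsPGroup 2 (zpowers y) := fun a => by
      obtain ⟨i, hi⟩ := mem_zpowers_iff.1 a.2
      refine ⟨1, Subtype.ext ?_⟩
      rw [pow_one, pow_two, Subgroup.coe_mul, ← hi, ← zpow_add, ← two_mul, zpow_mul, zpow_two, hy2, one_zpow]
      rfl
    have hQ := hP2.to_sup_of_normal_left' hy2' (zpowers_le.2 hyN)
    obtain ⟨m, hmv, hm⟩ := E.two_conj_into hQ (sup_le hPK (zpowers_le.2 hyK))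
    have h1 := hm u (mem_sup_left (subset_closure (by simp)))
    have h2 := hm y (mem_sup_right (mem_zpowers y))
    have c1 := E.conj_u_cases hmv h1
    have hmg : m * (g : G) * v = v * (m * (g : G)) := by
      rw [mul_assoc, hgv, ← mul_assoc, hmv, mul_assoc]
    have c2 := E.conj_u_cases hmg (by
      rw [show m * (g : G) * u * (m * (g : G))⁻¹ = m * y * m⁻¹ by rw [hy]; group]; exact h2)
    rw [show m * (g : G) * u * (m * (g : G))⁻¹ = m * y * m⁻¹ by rw [hy]; group] at c2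
    have mvm : m * v * m⁻¹ = v := mul_inv_eq_iff_eq_mul.2 hmv
    have huv : m * (u * v) * m⁻¹ = m * u * m⁻¹ * v := by
      calc m * (u * v) * m⁻¹ = m * u * m⁻¹ * (m * v * m⁻¹) := by group
        _ = _ := by rw [mvm]
    have hyres : y = u ∨ y = u * v := by
      rcases c1 with c1 | c1 <;> rcases c2 with c2 | c2
      · exact Or.inl (mul_left_cancel (mul_right_cancel (c2.trans c1.symm)))
      · exact Or.inr (mul_left_cancel (mul_right_cancel (c2.trans ((congrArg (· * v) c1.symm).trans huv.symm))))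
      · refine Or.inr (mul_left_cancel (mul_right_cancel (c2.trans ?_)))
        rw [huv, c1, mul_assoc, hvv, mul_one]
      · exact Or.inl (mul_left_cancel (mul_right_cancel (c2.trans c1.symm)))
    have hπv : π ⟨v, hvK⟩ = 1 := (QuotientGroup.eq_one_iff _).2 (mem_zpowers _)
    show π g * ub * (π g)⁻¹ = ub
    rw [hub, ← map_inv, ← map_mul, ← map_mul]
    rcases hyres with h | h
    · exact congrArg π (Subtype.ext h)
    · rw [show g * ⟨u, huK⟩ * g⁻¹ = (⟨u, huK⟩ : K) * ⟨v, hvK⟩ from Subtype.ext h, map_mul, hπv, mul_one]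
  have hzst := CfsgLib.Invol.zstar hiso
  set O := Cfsg.pPrimeCore 2 (K ⧸ Z) with hO
  have hnd : ¬ 2 ∣ Nat.card O := CfsgLib.Coprime.pPrimeCore_not_dvd (G := K ⧸ Z) Nat.prime_two
  have hodd : Odd (Nat.card O) := Nat.odd_iff.2 (by omega)
  haveI : O.Characteristic := CfsgLib.Coprime.pPrimeCore_characteristic 2
  obtain ⟨-, -, -, -, ⟨h1O, h2O, h3O, h123⟩⟩ := cv_codes
  have inv3 : ∀ w ∈ nineO, ∀ (hw : ψ w ∈ K), ∀ o ∈ O, π ⟨ψ w, hw⟩ * o * π ⟨ψ w, hw⟩ = o⁻¹ := by
    intro w hw hwK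
    have hwW : w ∈ wB := (by decide : ∀ w ∈ nineO, w ∈ wB) w hw
    set x := π ⟨ψ w, hwK⟩ with hxdef
    have hx2 : x * x = 1 := by
      rw [hxdef, ← map_mul, show (⟨ψ w, hwK⟩ : K) * ⟨ψ w, hwK⟩ = 1 from Subtype.ext (M.grpW_sq ⟨w, hwW, rfl⟩),
        map_one]
    refine CfsgLib.Spor.MTwelveCent.inverts_of_fixed_trivial hodd hx2 (fun o ho => ?_) (fun o ho h => ?_)
    · have := (inferInstance : O.Normal).conj_mem o ho x
      rwa [inv_eq_of_mul_eq_one_right hx2] at this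
    obtain ⟨n, rfl⟩ := QuotientGroup.mk'_surjective Z o
    rw [hxdef] at h
    change π ⟨ψ w, hwK⟩ * π n = π n * π ⟨ψ w, hwK⟩ at h
    have hn : π ((n * ⟨ψ w, hwK⟩ * n⁻¹) * ⟨ψ w, hwK⟩) = 1 := by
      rw [map_mul, map_mul, map_mul, map_inv, ← h, mul_inv_cancel_right]
      exact hx2
    have hnv : (n : G) * v = v * n := mem_centralizer_singleton_iff.1 n.2
    have hnn : ((n : G) * n) * ψ w = ψ w * ((n : G) * n) := by
      refine mul_inv_eq_iff_eq_mul.1 ?_
      rw [show (n : G) * n * ψ w * ((n : G) * n)⁻¹ = n * ((n : G) * ψ w * (n : G)⁻¹) * (n : G)⁻¹ by group]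
      have hww : ψ w * ψ w = 1 := M.grpW_sq ⟨w, hwW, rfl⟩
      rcases ker hn with e | e
      · have e' : (n : G) * ψ w * (n : G)⁻¹ = ψ w := by
          have := eq_inv_of_mul_eq_one_left (show (n : G) * ψ w * (n : G)⁻¹ * ψ w = 1 from e)
          rw [this, inv_eq_of_mul_eq_one_right hww]
        rw [e', e']
      · have e' : (n : G) * ψ w * (n : G)⁻¹ = v * ψ w := by
          rw [← show (n : G) * ψ w * (n : G)⁻¹ * ψ w = v from e, mul_assoc _ (ψ w) (ψ w), hww, mul_one]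
        rw [e', show (n : G) * (v * ψ w) * (n : G)⁻¹ = n * v * (n : G)⁻¹ * (n * ψ w * (n : G)⁻¹) by group,
          hnv, mul_inv_cancel_right, e', ← mul_assoc, hvv, one_mul]
    have h8 := E.fused_unfused_two (w := ψ w) (d := v) ⟨w, hwW, rfl⟩ E.v_mem_W ((E.std.fused_iff hwW).2 hw)
      E.not_fused_eight (M.code_ne (r := 8) (by decide) (cls_spec 8 (by decide)).2.1).1 hnn
      (by rw [mul_assoc, hnv, ← mul_assoc, hnv, mul_assoc])
    have hpow : π n ^ 16 = 1 := by
      have e16 : n ^ 16 = 1 := Subtype.ext (by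
        rw [Subgroup.coe_pow, show (16 : ℕ) = 2 * 8 from rfl, pow_mul, pow_two]; exact h8)
      rw [← map_pow, e16, map_one]
    exact orderOf_eq_one_iff.1 (Nat.eq_one_of_dvd_coprimes
      (show Nat.Coprime (2 ^ 4) (Nat.card O) from
        Nat.Coprime.pow_left 4 ((Nat.Prime.coprime_iff_not_dvd Nat.prime_two).2 hnd))
      (orderOf_dvd_of_pow_eq_one hpow) (Subgroup.orderOf_dvd_natCard O ho))
  have memK : ∀ {w : ℕ}, w ∈ nineO → ψ w ∈ K := fun {w} hw => mem_centralizer_singleton_iff.2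
    (M.grpW_comm ⟨w, (by decide : ∀ w ∈ nineO, w ∈ wB) w hw, rfl⟩ E.v_mem_W)
  have hbot : ∀ o ∈ O, o = 1 := by
    intro o ho
    set x1 := π ⟨ψ 1, memK h1O⟩
    set x2 := π ⟨ψ 2, memK h2O⟩
    have h3' : π ⟨ψ 3, memK h3O⟩ = x1 * x2 := by
      rw [← map_mul]
      exact congrArg π (Subtype.ext (by
        show ψ 3 = ψ 1 * ψ 2
        rw [M.mul 1 (by norm_num) 2 (by norm_num), h123]))
    have e1 := inv3 1 h1O (memK h1O) o ho
    have e2 := inv3 2 h2O (memK h2O) o⁻¹ (inv_mem ho)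
    have e3 := inv3 3 h3O (memK h3O) o ho
    rw [h3'] at e3
    have hc : x1 * x2 = x2 * x1 := by
      rw [← map_mul, ← map_mul]
      exact congrArg π (Subtype.ext ((M.comm_iff (by norm_num) (by norm_num)).2 (by decide +kernel)))
    have e4 : x1 * x2 * o * (x1 * x2) = o := by
      calc x1 * x2 * o * (x1 * x2) = x2 * x1 * o * (x1 * x2) := by rw [hc]
        _ = x2 * (x1 * o * x1) * x2 := by group
        _ = o := by rw [e1, e2, inv_inv]
    rw [e3] at e4
    have h2 : o * o = 1 := by nth_rewrite 1 [← e4]; group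
    exact orderOf_eq_one_iff.1 (Nat.eq_one_of_dvd_coprimes (Nat.coprime_two_left.2 hodd)
      (orderOf_dvd_of_pow_eq_one (by rw [pow_two, h2])) (Subgroup.orderOf_dvd_natCard O ho))
  set kk : K := ⟨k, mem_centralizer_singleton_iff.2 hk⟩
  have hc := mul_inv_eq_one.1 (hbot _ (hzst (π kk)))
  have hc' : π (kk * ⟨u, huK⟩ * kk⁻¹ * (⟨u, huK⟩ : K)⁻¹) = 1 := by
    rw [map_mul, map_mul, map_mul, map_inv, map_inv, ← hub]
    have hcc : ub * π kk = π kk * ub := mul_inv_eq_iff_eq_mul.1 hc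
    rw [← hcc]
    group
  rcases ker hc' with e | e
  · exact Or.inl (mul_inv_eq_one.1 e)
  · right
    have e' : k * u * k⁻¹ * u⁻¹ = v := e
    calc k * u * k⁻¹ = v * u := by rw [← e', inv_mul_cancel_right]
      _ = u * v := E.commute_v_u

end BEmb

end CfsgLib.Spor.ExtraSymThree
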