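import Cfsg.Agent.Lib.Spor.ExtraSymThree.BEight
import Cfsg.Agent.Lib.Invol.Basic

/-!
# The two classes of involutions and the normalizer of the elementary group
-/

set_option autoImplicit false
set_option maxRecDepth 100000
set_option linter.unusedSectionVars false

namespace CfsgLib.Spor.ExtraSymThree

open Subgroup CfsgLib.Spor.TC CfsgLib.Lie.BoundedPres

/-- The data after the embedding of the alternating group. -/
structure BEmb {G : Type*} [Group G] (s : G) (ψ : ℕ → G) (ka kb : G) (f : alternatingGroup (Pt 6) →* G) : Prop where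
  std : BStd s ψ
  pair : Pair ψ ka kb
  inj : Function.Injective f
  code : ∀ c < 192, f (codeEight c) = ψ c
  memA : ka ∈ f.range
  memB : kb ∈ f.range

theorem class_split : ∀ r ∈ bReps, r ∈ [2, 10, 97] ∨ r = 8 ∨ r = 96 := by decide +kernel

theorem move_facts : (∀ r ∈ [2, 10, 97], r ∈ nineO ∧ r ∈ wB) ∧ extB actA 8 = 96 ∧ extB actA 96 = 104 ∧
    8 ∈ wB ∧ 96 ∈ wB ∧ 104 ∈ wB := by decide +kernel

theorem unfused_free : ∀ d ∈ [8, 9, 96, 98, 104, 107], ∀ c < 192, comB c d = true →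
    mB (mB (mB c c) (mB c c)) (mB (mB c c) (mB c c)) = 0 := by decide +kernel

theorem unfused_list : ∀ d ∈ wB, d ∉ nineO → d = 0 ∨ d ∈ [8, 9, 96, 98, 104, 107] := by decide +kernel

namespace BEmb

variable {G : Type*} [Group G] [Finite G] {s : G} {ψ : ℕ → G} {ka kb : G} {f : alternatingGroup (Pt 6) →* G}
  (E : BEmb s ψ ka kb f)
include E

theorem code_mem {c : ℕ} (hc : c < 192) : ψ c ∈ f.range := ⟨_, E.code c hc⟩

theorem cent_le {g : G} (hg : g * s = s * g) : g ∈ f.range := by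
  obtain ⟨c, hc, rfl⟩ := E.std.model.code_of_comm hg
  exact E.code_mem hc

theorem grpS_le : E.std.model.grpS ≤ f.range := by
  rintro _ ⟨c, hc, rfl⟩
  exact E.code_mem (sylB_facts.1.2 c hc).1

theorem pair_normalizer {k : G} {t : ℕ × ℕ × ℕ × ℕ} (ht : t ∈ nineActs) (hk : HasAct ψ k t) :
    k ∈ normalizer (E.std.model.grpW : Set G) := by
  have hle : E.std.model.grpW.map (MulAut.conj k).toMonoidHom = E.std.model.grpW := by
    refine eq_of_le_of_card_ge ?_ (by rw [card_map_of_injective (MulAut.conj k).injective])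
    rintro _ ⟨_, ⟨c, hc, rfl⟩, rfl⟩
    exact ⟨_, (nine_cube t ht c hc).1, (hk c hc).symm⟩
  rw [mem_normalizer_iff]
  intro w
  refine ⟨fun hw => ?_, fun hw => ?_⟩
  · rw [← hle]; exact ⟨w, hw, rfl⟩
  · rw [← hle] at hw
    obtain ⟨u, hu, e⟩ := hw
    have e' : k * u * k⁻¹ = k * w * k⁻¹ := e
    rwa [← mul_left_cancel (mul_right_cancel e')]

/-- The fused elements are reached by the subgroup. -/
theorem nine_mover {w : ℕ} (hw : w ∈ nineO) :
    ∃ n ∈ f.range, n ∈ normalizer (E.std.model.grpW : Set G) ∧ n * s * n⁻¹ = ψ w := by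
  have M := E.std.model
  obtain ⟨i, -, j, -, e⟩ := nine_reach w hw
  have it : ∀ {k : G} {t : ℕ × ℕ × ℕ × ℕ}, t ∈ nineActs → HasAct ψ k t → ∀ (n c : ℕ), c ∈ wB →
      (extB t)^[n] c ∈ wB ∧ k ^ n * ψ c * (k ^ n)⁻¹ = ψ ((extB t)^[n] c) := by
    intro k t ht hk n c hc
    induction n with
    | zero => exact ⟨hc, by simp⟩
    | succ n ih =>
      rw [Function.iterate_succ_apply', pow_succ']
      refine ⟨(nine_cube t ht _ ih.1).1, ?_⟩
      rw [← hk _ ih.1, ← ih.2]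
      group
  obtain ⟨-, -, hAm, hBm, -⟩ := act_facts
  obtain ⟨h1, e1⟩ := it hBm E.pair.actB j 1 wB_facts.2.2.2.1
  obtain ⟨-, e2⟩ := it hAm E.pair.actA i _ h1
  refine ⟨ka ^ i * kb ^ j, mul_mem (pow_mem E.memA _) (pow_mem E.memB _),
    mul_mem (pow_mem (E.pair_normalizer hAm E.pair.actA) _) (pow_mem (E.pair_normalizer hBm E.pair.actB) _), ?_⟩
  rw [show ka ^ i * kb ^ j * s * (ka ^ i * kb ^ j)⁻¹ = ka ^ i * (kb ^ j * s * (kb ^ j)⁻¹) * (ka ^ i)⁻¹ by group,
    ← M.at_s, e1, e2, e]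

theorem normalizer_le : normalizer (E.std.model.grpW : Set G) ≤ f.range := by
  intro n hn
  have M := E.std.model
  obtain ⟨w, hw, -, e⟩ := M.code_of_grpW ((mem_normalizer_iff.1 hn s).1 M.s_mem_grpW)
  have hO := (E.std.fused_iff hw).1 (isConj_iff.2 ⟨n, e.symm⟩)
  obtain ⟨m, hmR, -, em⟩ := E.nine_mover hO
  have h : m⁻¹ * n * s = s * (m⁻¹ * n) := by
    calc m⁻¹ * n * s = m⁻¹ * (n * s * n⁻¹) * n := by group
      _ = m⁻¹ * (m * s * m⁻¹) * n := by rw [← e, ← em]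
      _ = _ := by group
  have := mul_mem hmR (E.cent_le h)
  rwa [mul_inv_cancel_left] at this

theorem not_fused_eight : ¬ IsConj s (ψ 8) := fun h =>
  (by decide : (8 : ℕ) ∉ stdFused) ((E.std.fused 8 (by decide)).1 h)

/-- The involutions of the centralizer are conjugate in the subgroup to one of two. -/
theorem classes_local {x : G} (hxs : x * s = s * x) (hx : x * x = 1) (hx1 : x ≠ 1) :
    ∃ n ∈ f.range, n * s * n⁻¹ = x ∨ n * ψ 8 * n⁻¹ = x := by
  have M := E.std.model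
  rcases M.inv_code hxs hx hx1 with e | ⟨r, hr, c, hc, e⟩
  · exact ⟨1, one_mem _, Or.inl (by rw [e]; group)⟩
  subst e
  obtain ⟨hl, -, -, -, k, hk, ek⟩ := (cls_spec r hr).2.2 c hc
  have hkk : ψ k * ψ r * (ψ k)⁻¹ = ψ c := by rw [M.conj hk (cls_spec r hr).1, ek]
  suffices h : ∃ n ∈ f.range, n * s * n⁻¹ = ψ r ∨ n * ψ 8 * n⁻¹ = ψ r by
    obtain ⟨n, hn, h⟩ := h
    refine ⟨ψ k * n, mul_mem (E.code_mem hk) hn, h.imp (fun h => ?_) fun h => ?_⟩ <;>
      · rw [← hkk, ← h]; group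
  obtain ⟨h2, hA8, -, h8, -⟩ := move_facts
  rcases class_split r hr with h | rfl | rfl
  · obtain ⟨n, hn, -, en⟩ := E.nine_mover (h2 r h).1
    exact ⟨n, hn, Or.inl en⟩
  · exact ⟨1, one_mem _, Or.inr (by group)⟩
  · exact ⟨ka, E.memA, Or.inr (by rw [E.pair.actA 8 h8, hA8])⟩

/-- Elements commuting with a fused and another element of the elementary group form a two-group. -/
theorem fused_unfused_two {w d : G} (hw : w ∈ E.std.model.grpW) (hd : d ∈ E.std.model.grpW) (hws : IsConj s w)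
    (hds : ¬ IsConj s d) (hd1 : d ≠ 1) {g : G} (hgw : g * w = w * g) (hgd : g * d = d * g) : g ^ 8 = 1 := by
  have M := E.std.model
  obtain ⟨c, hc, -, rfl⟩ := M.code_of_grpW hw
  obtain ⟨n, -, hnN, en⟩ := E.nine_mover ((E.std.fused_iff hc).1 hws)
  obtain ⟨e, he, hel, ee⟩ := M.code_of_grpW ((mem_normalizer_iff.1 (inv_mem hnN) d).1 hd)
  rw [inv_inv] at ee
  have he' : e ∈ [8, 9, 96, 98, 104, 107] := by
    refine (unfused_list e he fun h => hds ?_).resolve_left fun h => hd1 ?_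
    · exact ((E.std.fused_iff he).2 h).trans (isConj_iff.2 ⟨n, by rw [ee]; group⟩)
    · rw [h, M.one] at ee
      calc d = n * (n⁻¹ * d * n) * n⁻¹ := by group
        _ = 1 := by rw [← ee]; group
  obtain ⟨b, hb, eb⟩ := M.code_of_comm (g := n⁻¹ * g * n) (by
    calc n⁻¹ * g * n * s = n⁻¹ * (g * (n * s * n⁻¹)) * n := by group
      _ = n⁻¹ * (n * s * n⁻¹ * g) * n := by rw [en, hgw]
      _ = _ := by group)
  have hcb : comB b e = true := (M.comm_iff hb hel).1 (by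
    rw [eb, ee]
    calc n⁻¹ * g * n * (n⁻¹ * d * n) = n⁻¹ * (g * d) * n := by group
      _ = n⁻¹ * (d * g) * n := by rw [hgd]
      _ = _ := by group)
  have h0 := unfused_free e he' b hb hcb
  have h8 : ψ b ^ 8 = 1 := by
    have l2 := mB_lt b hb b hb
    have l4 := mB_lt _ l2 _ l2
    rw [show ψ b ^ 8 = ψ b * ψ b * (ψ b * ψ b) * (ψ b * ψ b * (ψ b * ψ b)) by simp [pow_succ, mul_assoc],
      M.mul b hb b hb, M.mul _ l2 _ l2, M.mul _ l4 _ l4, h0, M.one]
  rw [eb] at h8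
  have e8 : (n⁻¹ * g * n) ^ 8 = n⁻¹ * g ^ 8 * n := by
    have := conj_pow (a := n⁻¹) (b := g) (i := 8)
    rwa [inv_inv] at this
  rw [e8] at h8
  calc g ^ 8 = n * (n⁻¹ * g ^ 8 * n) * n⁻¹ := by group
    _ = 1 := by rw [h8]; group

end BEmb

end CfsgLib.Spor.ExtraSymThree
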