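import Cfsg.Agent.Lib.Spor.TC.Check

/-!
# Relators for the alternating group of degree eight

Letters `0, …, 3` are involutions of the centralizer, `4` and `5` invert the two elements of order three.
-/

set_option autoImplicit false

namespace CfsgLib.Spor.ExtraSymThree

/-- The codes of the letters in the centralizer. -/
def lCodesB : List ℕ := [4, 20, 98, 153]

/-- Words for some elements of the centralizer. -/
def wordB : ℕ → List ℕ
  | 1 => [2, 3, 2, 3, 2, 3]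
  | 2 => [0, 2, 0, 2]
  | 3 => [3, 0, 3]
  | 4 => [0]
  | 8 => [3, 0, 1, 3]
  | 10 => [1, 2, 1, 2]
  | 20 => [1]
  | 97 => [2, 3, 0, 3]
  | 98 => [2]
  | 99 => [3, 2, 3, 2, 3]
  | 153 => [3]
  | 158 => [0, 3, 0]
  | 180 => [2, 3, 2]
  | _ => []

/-- Relators of the centralizer. -/
def centRelsB : List (List ℕ) := [[0, 1, 3, 1, 3, 0, 2, 1, 2], [0, 2, 0, 2, 1, 3, 0, 3, 1], [0, 2, 0, 3, 0, 2, 3, 2, 3]]

/-- The known conjugates: the letter, the element, its image. -/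
def conjTriples : List (ℕ × ℕ × ℕ) := [(4, 1, 3), (4, 97, 97), (5, 1, 10), (5, 2, 99), (5, 8, 98), (5, 97, 97)]

/-- The letter and an involution with product of order three. -/
def cubePairs : List (ℕ × ℕ) := [(4, 153), (5, 158), (5, 180)]

/-- The relators. -/
def eightRels : List (List ℕ) :=
  [[0, 1, 3, 1, 3, 0, 2, 1, 2],
   [0, 2, 0, 2, 1, 3, 0, 3, 1],
   [0, 2, 0, 3, 0, 2, 3, 2, 3],
   [4, 5, 4, 5],
   [4, 2, 3, 2, 3, 2, 3, 4, 3, 0, 3],
   [4, 2, 3, 0, 3, 4, 3, 0, 3, 2],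
   [4, 3, 4, 3, 4, 3],
   [5, 2, 3, 2, 3, 2, 3, 5, 2, 1, 2, 1],
   [5, 0, 2, 0, 2, 5, 3, 2, 3, 2, 3],
   [5, 3, 0, 1, 3, 5, 2],
   [5, 2, 3, 0, 3, 5, 3, 0, 3, 2],
   [5, 0, 3, 0, 5, 0, 3, 0, 5, 0, 3, 0],
   [5, 2, 3, 2, 5, 2, 3, 2, 5, 2, 3, 2]
  ]

/-- The generators of the subgroup. -/
def eightSubs : List (List ℕ) := [[0], [1], [2], [3]]

end CfsgLib.Spor.ExtraSymThree
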