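import Cfsg.Agent.Lib.Lie.BoundedPres.Carmichael
import Cfsg.Agent.Lib.Spor.ExtraSymThree.BData
import Cfsg.Agent.Lib.Spor.ExtraSymThree.Relators
import Cfsg.Agent.Lib.Spor.TC.Word

/-!
# The letters as even permutations of eight points
-/

set_option autoImplicit false
set_option maxRecDepth 100000

namespace CfsgLib.Spor.ExtraSymThree

open CfsgLib.Lie.BoundedPres CfsgLib.Spor.TC

/-- The letters as permutations. -/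
def permGen : ℕ → Equiv.Perm (Pt 6)
  | 0 => Equiv.swap (.inr 0 : Pt 6) (.inr 4) * Equiv.swap (.inr 1 : Pt 6) (.inr 5) * Equiv.swap (.inl 0 : Pt 6) (.inr 2) * Equiv.swap (.inl 1 : Pt 6) (.inr 3)
  | 1 => Equiv.swap (.inr 0 : Pt 6) (.inr 4) * Equiv.swap (.inr 1 : Pt 6) (.inr 5) * Equiv.swap (.inl 0 : Pt 6) (.inr 3) * Equiv.swap (.inl 1 : Pt 6) (.inr 2)
  | 2 => Equiv.swap (.inl 0 : Pt 6) (.inr 4) * Equiv.swap (.inl 1 : Pt 6) (.inr 5)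
  | 3 => Equiv.swap (.inr 0 : Pt 6) (.inl 0) * Equiv.swap (.inr 1 : Pt 6) (.inl 1) * Equiv.swap (.inr 2 : Pt 6) (.inr 3) * Equiv.swap (.inr 4 : Pt 6) (.inr 5)
  | 4 => Equiv.swap (.inr 0 : Pt 6) (.inr 4) * Equiv.swap (.inr 1 : Pt 6) (.inl 1) * Equiv.swap (.inl 0 : Pt 6) (.inr 2) * Equiv.swap (.inr 3 : Pt 6) (.inr 5)
  | 5 => Equiv.swap (.inr 0 : Pt 6) (.inr 4) * Equiv.swap (.inr 1 : Pt 6) (.inl 0) * Equiv.swap (.inl 1 : Pt 6) (.inr 2) * Equiv.swap (.inr 3 : Pt 6) (.inr 5)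
  | _ => 1

theorem permGen_sign : ∀ i < 7, Equiv.Perm.sign (permGen i) = 1 := by decide +kernel

/-- The letters in the alternating group. -/
def eightGen (i : ℕ) : alternatingGroup (Pt 6) :=
  if h : i < 6 then ⟨permGen i, Equiv.Perm.mem_alternatingGroup.2 (permGen_sign i (by omega))⟩ else 1

/-- Words in the four letters of the centralizer for all codes. -/
def allWords : List (List ℕ) :=
  [[],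
   [2, 3, 2, 3, 2, 3],
   [0, 2, 0, 2],
   [3, 0, 3],
   [0],
   [2, 0, 2, 3, 0, 3],
   [2, 0, 2],
   [0, 3, 0, 3],
   [3, 0, 1, 3],
   [0, 1, 2, 0, 1, 2],
   [1, 2, 1, 2],
   [3, 1, 3],
   [0, 3, 0, 1, 3],
   [1, 2, 0, 1, 2],
   [3, 1, 3, 0],
   [0, 3, 1, 3],
   [0, 1],
   [0, 2, 1, 2, 3, 1, 3],
   [2, 0, 2, 1],
   [1, 2, 0, 2],
   [1],
   [2, 1, 2, 3, 1, 3],
   [1, 3, 0, 3],
   [3, 0, 3, 1],
   [0, 1, 3, 0, 1, 3],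
   [2, 0, 1, 2],
   [2, 1, 2, 0],
   [0, 2, 1, 2],
   [1, 3, 0, 1, 3],
   [0, 2, 0, 1, 2],
   [1, 3, 1, 3],
   [2, 1, 2],
   [0, 3, 2, 0, 1],
   [3, 0, 2, 1],
   [3, 2, 1],
   [1, 3, 1, 2],
   [3, 2, 0, 1],
   [0, 3, 0, 2, 1],
   [0, 3, 2, 1],
   [0, 1, 3, 1, 2],
   [1, 3, 2],
   [3, 1, 2, 1],
   [1, 3, 0, 2],
   [0, 1, 3, 2, 0],
   [0, 1, 3, 2],
   [0, 3, 1, 2, 1],
   [0, 1, 3, 0, 2],
   [1, 3, 2, 0],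
   [1, 3, 2, 0, 1],
   [3, 1, 2, 0],
   [0, 3, 1, 2],
   [0, 1, 3, 2, 1],
   [0, 1, 3, 2, 0, 1],
   [3, 0, 1, 2],
   [3, 1, 2],
   [1, 3, 2, 1],
   [0, 3, 2],
   [3, 0, 2, 0],
   [3, 2, 0],
   [0, 3, 0, 2],
   [3, 2],
   [2, 3, 2, 3],
   [0, 3, 2, 0],
   [3, 0, 2],
   [0, 1, 2, 3, 0],
   [1, 2, 0, 3],
   [0, 1, 2, 3],
   [0, 2, 1, 3, 1],
   [1, 2, 3, 0],
   [0, 1, 2, 0, 3],
   [1, 2, 3],
   [2, 1, 3, 1],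
   [0, 1, 2, 3, 1],
   [0, 2, 1, 3],
   [0, 1, 2, 3, 0, 1],
   [2, 0, 1, 3],
   [1, 2, 3, 1],
   [2, 1, 3],
   [1, 2, 3, 0, 1],
   [2, 1, 3, 0],
   [2, 3, 0],
   [0, 2, 0, 3],
   [3, 2, 3, 2],
   [2, 3],
   [0, 2, 3, 0],
   [2, 0, 3],
   [2, 0, 3, 0],
   [0, 2, 3],
   [2, 3, 1],
   [1, 2, 1, 3],
   [0, 2, 0, 3, 1],
   [2, 3, 0, 1],
   [0, 2, 3, 1],
   [0, 1, 2, 1, 3],
   [2, 0, 3, 1],
   [0, 2, 3, 0, 1],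
   [0, 2, 0],
   [2, 3, 0, 3],
   [2],
   [3, 2, 3, 2, 3],
   [2, 0],
   [0, 2, 3, 0, 3],
   [0, 2],
   [2, 0, 3, 0, 3],
   [1, 2, 1],
   [2, 3, 1, 3],
   [2, 3, 0, 1, 3],
   [0, 1, 2, 0, 1],
   [0, 1, 2, 1],
   [0, 2, 3, 1, 3],
   [2, 3, 1, 3, 0],
   [1, 2, 0, 1],
   [1, 2, 0],
   [2, 0, 2, 1, 2],
   [0, 2, 1, 3, 1, 3],
   [0, 1, 2],
   [0, 1, 2, 0],
   [1, 2, 3, 0, 3],
   [2, 1, 3, 1, 3],
   [1, 2],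
   [0, 2, 1],
   [2, 1, 2, 0, 2],
   [2, 0, 1],
   [0, 2, 3, 0, 3, 1],
   [2, 1],
   [1, 2, 3, 1, 3],
   [0, 2, 0, 1],
   [2, 3, 0, 3, 1],
   [2, 0, 1, 2, 3],
   [0, 1, 3, 0, 1],
   [0, 2, 1, 2, 3],
   [0, 1, 3, 1],
   [2, 1, 2, 3, 0],
   [1, 3, 0, 1],
   [2, 1, 2, 3],
   [1, 3, 1],
   [0, 2, 1, 2, 3, 1],
   [0, 1, 3],
   [1, 2, 0, 2, 3],
   [0, 1, 3, 0],
   [2, 1, 2, 3, 1],
   [1, 3],
   [3, 0, 3, 1, 3],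
   [1, 3, 0],
   [0, 2, 0, 2, 3, 1],
   [3, 0, 1],
   [3, 1],
   [1, 2, 1, 2, 3],
   [2, 0, 2, 3, 1],
   [0, 3, 0, 1],
   [0, 3, 1],
   [3, 1, 3, 0, 3],
   [2, 3, 2, 3, 2],
   [3],
   [3, 0],
   [0, 2, 0, 2, 3],
   [2, 0, 2, 3, 0],
   [0, 3],
   [0, 3, 0],
   [2, 0, 2, 3],
   [1, 2, 3, 2],
   [1, 3, 2, 3],
   [1, 2, 3, 0, 2],
   [1, 3, 0, 2, 3],
   [0, 1, 2, 3, 2],
   [0, 1, 3, 2, 3],
   [1, 3, 2, 0, 3],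
   [1, 2, 0, 3, 2],
   [2, 1, 3, 0, 2],
   [0, 3, 2, 0, 1, 3],
   [2, 1, 3, 2],
   [3, 2, 1, 3],
   [2, 0, 1, 3, 2],
   [3, 2, 0, 1, 3],
   [0, 2, 1, 3, 2],
   [0, 3, 2, 1, 3],
   [0, 2, 3, 2],
   [0, 3, 2, 3],
   [2, 0, 3, 2],
   [3, 2, 0, 3],
   [2, 3, 2],
   [3, 2, 3],
   [3, 0, 2, 3],
   [2, 3, 0, 2],
   [2, 0, 3, 1, 2],
   [0, 2, 3, 0, 1, 2],
   [0, 2, 3, 1, 2],
   [0, 3, 1, 2, 3],
   [3, 0, 1, 2, 3],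
   [2, 3, 0, 1, 2],
   [2, 3, 1, 2],
   [3, 1, 2, 3]
  ]

/-- Words for the three-cycles through the two fixed points. -/
def cycWords : List (List ℕ) :=
  [[0, 2, 3, 2, 4, 1, 5, 3, 2], [2, 3, 1, 4, 2, 5, 0, 3, 2], [3, 4, 5, 0, 2, 1, 3], [3, 0, 1, 5, 2, 4, 3], [2, 1, 4, 5, 0], [0, 4, 1, 5]]

/-- A code as a permutation. -/
noncomputable def codeEight (c : ℕ) : alternatingGroup (Pt 6) := ev eightGen (allWords.getD c [])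

theorem cycWords_spec : ∀ i : Fin 6, ev eightGen (cycWords.getD i.1 []) = cyc i ∧
    ∀ x ∈ cycWords.getD i.1 [], x < 6 := by decide +kernel

theorem eightRels_hold : ∀ r ∈ eightRels, ev eightGen r = 1 := by decide +kernel

theorem eightGen_sq : ∀ i < 7, eightGen i * eightGen i = 1 := by decide +kernel

end CfsgLib.Spor.ExtraSymThree
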