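import Cfsg.Agent.Lib.Spor.ExtraSymThree.BLocal
import Cfsg.Agent.Lib.Spor.ExtraSymThree.EightData
import Cfsg.Agent.Lib.Spor.ExtraSymThree.Cert.Data
import Mathlib.GroupTheory.SpecificGroups.Alternating.Simple

/-!
# The alternating group of degree eight in the group
-/

set_option autoImplicit false
set_option maxRecDepth 100000
set_option linter.unusedSectionVars false

namespace CfsgLib.Spor.ExtraSymThree

open Subgroup CfsgLib.Spor.TC CfsgLib.Lie.BoundedPres

/-- The code of a word in the letters of the centralizer. -/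
noncomputable def foldB (l : List ℕ) : ℕ := l.foldl (fun c i => mB c (lCodesB.getD i 0)) 0

/-- The relations known in both groups. -/
def rawEight : List (List ℕ) :=
  centRelsB ++ [[4, 5, 4, 5]] ++ conjTriples.map (fun p => p.1 :: wordB p.2.1 ++ p.1 :: (wordB p.2.2).reverse) ++
    cubePairs.map (fun p => powWord (p.1 :: wordB p.2) 3)

theorem rels_eq : ∀ r ∈ eightRels, r ∈ rawEight := by decide +kernel

/-- The action on an elementary group of order eight meeting `wB` in four elements. -/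
noncomputable def eK (t : ℕ × ℕ × ℕ × ℕ) (p c : ℕ) : ℕ :=
  if c ∈ wB then extB t c else mB (extB t (mB c p)) p

/-- The elementary groups normalized by the two elements. -/
def eightLists : List (List ℕ) := [0 :: 1 :: clsB 2, 0 :: 1 :: clsB 10]

theorem eK_facts :
    (∀ c ∈ 0 :: 1 :: clsB 2, c ∈ wB ∨ mB c 4 ∈ wB ∧ mB (mB c 4) 4 = c) ∧
    (∀ c ∈ 0 :: 1 :: clsB 10, c ∈ wB ∨ mB c 20 ∈ wB ∧ mB (mB c 20) 20 = c) ∧
    (∀ c ∈ 0 :: 1 :: clsB 2, eK actA 4 c ∈ 0 :: 1 :: clsB 2) ∧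
    (∀ c ∈ 0 :: 1 :: clsB 10, eK actB 20 c ∈ 0 :: 1 :: clsB 10) := by decide +kernel

/-- The action of the two letters on their groups. -/
noncomputable def aE (i c : ℕ) : ℕ := if i = 4 then cjB 20 (eK actA 4 c) else cjB 4 (eK actB 20 c)

/-- The group normalized by a letter. -/
def eOf (i : ℕ) : List ℕ := if i = 4 then 0 :: 1 :: clsB 2 else 0 :: 1 :: clsB 10

theorem conj_triple_facts : ∀ p ∈ conjTriples, (p.1 = 4 ∨ p.1 = 5) ∧ p.2.1 ∈ wB ∧
    (p.1 = 4 → cjB 20 (extB actA p.2.1) = p.2.2) ∧ (p.1 = 5 → cjB 4 (extB actB p.2.1) = p.2.2) := by decide +kernel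

theorem cube_facts : ∀ p ∈ cubePairs, (p.1 = 4 ∨ p.1 = 5) ∧ p.2 < 192 ∧ mB p.2 p.2 = 0 ∧
    (∀ c ∈ eOf p.1, aE p.1 c ∈ eOf p.1 ∧ cjB p.2 c ∈ eOf p.1 ∧ c < 192 ∧
      aE p.1 (cjB p.2 (aE p.1 (cjB p.2 (aE p.1 (cjB p.2 c))))) = c ∧
      (aE p.1 (cjB p.2 c) = c → c = 0 ∨ mB c p.2 ∈ clsB 8 ++ clsB 96)) := by decide +kernel

theorem word_facts : (∀ r ∈ centRelsB, foldB r = 0 ∧ ∀ i ∈ r, i < 4) ∧
    (∀ p ∈ conjTriples, foldB (wordB p.2.1) = p.2.1 ∧ foldB (wordB p.2.2) = p.2.2 ∧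
      (∀ i ∈ wordB p.2.1, i < 4) ∧ ∀ i ∈ wordB p.2.2, i < 4) ∧
    (∀ p ∈ cubePairs, foldB (wordB p.2) = p.2 ∧ ∀ i ∈ wordB p.2, i < 4) ∧
    (∀ i < 4, lCodesB.getD i 0 < 192 ∧ mB (lCodesB.getD i 0) (lCodesB.getD i 0) = 0) ∧
    (∀ c < 192, foldB (allWords.getD c []) = c ∧ ∀ i ∈ allWords.getD c [], i < 4) := by decide +kernel

theorem nine_reach : ∀ w ∈ nineO, ∃ i < 3, ∃ j < 3, (extB actA)^[i] ((extB actB)^[j] 1) = w := by decide +kernel

theorem eight_lists_facts : (∀ i < 2, (eightLists.getD i []) = eOf (4 + i)) ∧ 8 ∈ bReps ∧ 96 ∈ bReps ∧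
    8 ∉ stdFused ∧ 96 ∉ stdFused ∧ 10 ∈ stdFused ∧ 2 ∈ stdFused ∧ 20 ∈ clsB 10 ∧ 4 ∈ clsB 2 := by decide +kernel

theorem code_zero : codeEight 0 = 1 := by decide +kernel

theorem code_step_check : ((List.range 192).all fun c => (List.range 4).all fun i =>
    decide (mB c (lCodesB.getD i 0) < 192) &&
      decide (codeEight (mB c (lCodesB.getD i 0)) = codeEight c * eightGen i)) = true := by decide +kernel

theorem code_step (c : ℕ) (hc : c < 192) (i : ℕ) (hi : i < 4) : mB c (lCodesB.getD i 0) < 192 ∧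
    codeEight (mB c (lCodesB.getD i 0)) = codeEight c * eightGen i := by
  have k := code_step_check
  simp only [List.all_eq_true, List.mem_range, Bool.and_eq_true, decide_eq_true_eq] at k
  exact k c hc i hi

theorem ev_rev_inv {G : Type*} [Group G] {g : ℕ → G} (hg : ∀ x, g x * g x = 1) :
    ∀ l, ev g l.reverse = (ev g l)⁻¹ := by
  intro l
  induction l with
  | nil => simp [ev]
  | cons a l ih =>
    rw [List.reverse_cons, ev_append, ih, show ev g (a :: l) = g a * ev g l by simp [ev], mul_inv_rev,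
      inv_eq_of_mul_eq_one_right (hg a)]
    simp [ev]

/-- The six letters in the group. -/
def eightLetters {G : Type*} [Group G] (ψ : ℕ → G) (ka kb : G) (i : ℕ) : G :=
  if i < 4 then ψ (lCodesB.getD i 0) else if i = 4 then ψ 20 * ka else if i = 5 then ψ 4 * kb else 1

/-- The data of the two elements. -/
structure Pair {G : Type*} [Group G] (ψ : ℕ → G) (ka kb : G) : Prop where
  cubeA : ka * ka * ka = 1
  cubeB : kb * kb * kb = 1
  comm : ka * kb = kb * ka
  actA : HasAct ψ ka actA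
  actB : HasAct ψ kb actB
  fixA : ψ 4 * ka = ka * ψ 4
  fixB : ψ 20 * kb = kb * ψ 20
  invA : ψ 20 * ka * ψ 20 = ka⁻¹
  invB : ψ 4 * kb * ψ 4 = kb⁻¹

namespace BStd

variable {G : Type*} [Group G] [Finite G] {s : G} {ψ : ℕ → G} (D : BStd s ψ) {ka kb : G} (P : Pair ψ ka kb)
include D P

theorem ev_fold {l : List ℕ} (hl : ∀ i ∈ l, i < 4) : ev (eightLetters ψ ka kb) l = ψ (foldB l) := by
  have M := D.model
  suffices h : ∀ c < 192, ψ c * ev (eightLetters ψ ka kb) l = ψ (l.foldl (fun c i => mB c (lCodesB.getD i 0)) c) ∧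
      l.foldl (fun c i => mB c (lCodesB.getD i 0)) c < 192 by
    have := (h 0 (by norm_num)).1
    rwa [M.one, one_mul] at this
  induction l with
  | nil => intro c hc; exact ⟨by simp [ev], hc⟩
  | cons i l ih =>
    intro c hc
    have hi := hl i List.mem_cons_self
    obtain ⟨hli, -⟩ := word_facts.2.2.2.1 i hi
    obtain ⟨h1, h2⟩ := ih (fun j hj => hl j (List.mem_cons_of_mem _ hj)) _ (mB_lt c hc _ hli)
    refine ⟨?_, h2⟩
    rw [List.foldl_cons, ← h1, ← M.mul c hc _ hli, mul_assoc]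
    simp [ev, eightLetters, hi]

theorem sq_letters (i : ℕ) : eightLetters ψ ka kb i * eightLetters ψ ka kb i = 1 := by
  have M := D.model
  unfold eightLetters
  split_ifs with h1 h4 h5
  · obtain ⟨hl, h2⟩ := word_facts.2.2.2.1 i h1
    exact (M.sq_iff hl).2 h2
  · calc ψ 20 * ka * (ψ 20 * ka) = ψ 20 * ka * ψ 20 * ka := by group
      _ = 1 := by rw [P.invA, inv_mul_cancel]
  · calc ψ 4 * kb * (ψ 4 * kb) = ψ 4 * kb * ψ 4 * kb := by group
      _ = 1 := by rw [P.invB, inv_mul_cancel]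
  · rw [one_mul]

theorem letters_comm : (ψ 20 * ka) * (ψ 4 * kb) = (ψ 4 * kb) * (ψ 20 * ka) := by
  have M := D.model
  have e : ψ 20 * ψ 4 = ψ 4 * ψ 20 := by
    rw [M.mul 20 (by norm_num) 4 (by norm_num), M.mul 4 (by norm_num) 20 (by norm_num)]
    exact congrArg ψ (by decide +kernel)
  calc ψ 20 * ka * (ψ 4 * kb) = ψ 20 * (ka * ψ 4) * kb := by group
    _ = ψ 20 * ψ 4 * (ka * kb) := by rw [← P.fixA]; group
    _ = ψ 4 * (ψ 20 * kb) * ka := by rw [e, P.comm]; group
    _ = _ := by rw [P.fixB]; group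

theorem aE_spec {i : ℕ} (hi : i = 4 ∨ i = 5) {c : ℕ} (hc : c ∈ eOf i) :
    eightLetters ψ ka kb i * ψ c * (eightLetters ψ ka kb i)⁻¹ = ψ (aE i c) := by
  have M := D.model
  obtain ⟨f2, f10, g2, g10⟩ := eK_facts
  have key : ∀ (k : G) (t : ℕ × ℕ × ℕ × ℕ) (p : ℕ), HasAct ψ k t → ψ p * k = k * ψ p → p < 192 →
      (∀ w ∈ wB, extB t w ∈ wB) → (c ∈ wB ∨ mB c p ∈ wB ∧ mB (mB c p) p = c) →
      k * ψ c * k⁻¹ = ψ (eK t p c) := by
    intro k t p hk hp hpl ht hor
    by_cases h : c ∈ wB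
    · rw [eK, if_pos h]; exact hk c h
    · obtain ⟨h1, h2⟩ := hor.resolve_left h
      have l1 := (wB_facts.1.2 _ h1).1
      rw [eK, if_neg h]
      nth_rewrite 1 [← h2]
      rw [← M.mul _ l1 p hpl, ← M.mul _ (wB_facts.1.2 _ (ht _ h1)).1 p hpl]
      calc k * (ψ (mB c p) * ψ p) * k⁻¹ = k * ψ (mB c p) * k⁻¹ * (k * ψ p * k⁻¹) := by group
        _ = _ := by rw [hk _ h1, ← hp, mul_inv_cancel_right]
  obtain ⟨-, -, hAm, hBm, -⟩ := act_facts
  rcases hi with rfl | rfl
  · have hc' : c ∈ 0 :: 1 :: clsB 2 := hc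
    have hlt : eK actA 4 c < 192 := by
      rcases List.mem_cons.1 (g2 c hc') with h | h
      · omega
      rcases List.mem_cons.1 h with h | h
      · omega
      · exact ((cls_spec 2 (by decide)).2.2 _ h).1
    show ψ 20 * ka * ψ c * (ψ 20 * ka)⁻¹ = _
    rw [show ψ 20 * ka * ψ c * (ψ 20 * ka)⁻¹ = ψ 20 * (ka * ψ c * ka⁻¹) * (ψ 20)⁻¹ by group,
      key ka actA 4 P.actA P.fixA (by norm_num) (fun w hw => (nine_cube _ hAm w hw).1) (f2 c hc'),
      M.conj (by norm_num) hlt]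
    rfl
  · have hc' : c ∈ 0 :: 1 :: clsB 10 := hc
    have hlt : eK actB 20 c < 192 := by
      rcases List.mem_cons.1 (g10 c hc') with h | h
      · omega
      rcases List.mem_cons.1 h with h | h
      · omega
      · exact ((cls_spec 10 (by decide)).2.2 _ h).1
    show ψ 4 * kb * ψ c * (ψ 4 * kb)⁻¹ = _
    rw [show ψ 4 * kb * ψ c * (ψ 4 * kb)⁻¹ = ψ 4 * (kb * ψ c * kb⁻¹) * (ψ 4)⁻¹ by group,
      key kb actB 20 P.actB P.fixB (by norm_num) (fun w hw => (nine_cube _ hBm w hw).1) (f10 c hc'),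
      M.conj (by norm_num) hlt]
    rfl

theorem conj_triple {i y z : ℕ} (h : (i, y, z) ∈ conjTriples) :
    eightLetters ψ ka kb i * ψ y * (eightLetters ψ ka kb i)⁻¹ = ψ z := by
  have M := D.model
  obtain ⟨hi, hy, hA, hB⟩ := conj_triple_facts _ h
  have hyl := (wB_facts.1.2 y hy).1
  obtain ⟨-, -, hAm, hBm, -⟩ := act_facts
  rcases hi with hi | hi
  · dsimp only at hi hy; subst hi
    show ψ 20 * ka * ψ y * (ψ 20 * ka)⁻¹ = _
    rw [show ψ 20 * ka * ψ y * (ψ 20 * ka)⁻¹ = ψ 20 * (ka * ψ y * ka⁻¹) * (ψ 20)⁻¹ by group, P.actA y hy,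
      M.conj (by norm_num) (wB_facts.1.2 _ (nine_cube _ hAm y hy).1).1]
    exact congrArg ψ (hA rfl)
  · dsimp only at hi hy; subst hi
    show ψ 4 * kb * ψ y * (ψ 4 * kb)⁻¹ = _
    rw [show ψ 4 * kb * ψ y * (ψ 4 * kb)⁻¹ = ψ 4 * (kb * ψ y * kb⁻¹) * (ψ 4)⁻¹ by group, P.actB y hy,
      M.conj (by norm_num) (wB_facts.1.2 _ (nine_cube _ hBm y hy).1).1]
    exact congrArg ψ (hB rfl)

theorem letter_fused {i : ℕ} (hi : i = 4 ∨ i = 5) : IsConj s (eightLetters ψ ka kb i) := by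
  have M := D.model
  obtain ⟨-, -, -, -, -, h10, h2, h20, h4⟩ := eight_lists_facts
  have key : ∀ {r : ℕ} {p : ℕ} {k : G}, r ∈ bReps → r ∈ stdFused → p ∈ clsB r → k * k * k = 1 →
      ψ p * k * ψ p = k⁻¹ → IsConj s (ψ p * k) := by
    intro r p k hr hf hp h3 hi
    refine ((D.fused r hr).2 hf).trans ((M.isConj_cls hr hp).trans (isConj_iff.2 ⟨k, ?_⟩))
    have pp := (M.code_ne hr hp).2
    have e : k * ψ p = ψ p * k⁻¹ := by
      rw [← hi, ← mul_assoc, ← mul_assoc, pp, one_mul]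
    calc k * ψ p * k⁻¹ = ψ p * (k * k * k) * (k * k * k)⁻¹ * (k⁻¹ * k⁻¹) := by rw [e]; group
      _ = ψ p * k := by
        rw [h3, show k⁻¹ * k⁻¹ = k by rw [← mul_inv_rev, inv_eq_iff_mul_eq_one, h3]]
        group
  rcases hi with rfl | rfl
  · exact key (by decide) h10 h20 P.cubeA P.invA
  · exact key (by decide) h2 h4 P.cubeB P.invB

theorem cube_one {i x : ℕ} (h : (i, x) ∈ cubePairs) :
    (eightLetters ψ ka kb i * ψ x) ^ 3 = 1 := by
  have M := D.model
  obtain ⟨hi, hxl, hx2, hE⟩ := cube_facts _ h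
  dsimp only at hi hxl hx2 hE
  set a := eightLetters ψ ka kb i with ha
  set t := a * ψ x with ht
  have hx1 : ψ x * ψ x = 1 := (M.sq_iff hxl).2 hx2
  have ha1 : a * a = 1 := D.sq_letters P i
  have hstep : ∀ c ∈ eOf i, t * ψ c * t⁻¹ = ψ (aE i (cjB x c)) := fun c hc => by
    rw [ht, show a * ψ x * ψ c * (a * ψ x)⁻¹ = a * (ψ x * ψ c * (ψ x)⁻¹) * a⁻¹ by group,
      M.conj hxl (hE c hc).2.2.1, ha, D.aE_spec P hi (hE c hc).2.1]
  have hmem : ∀ c ∈ eOf i, aE i (cjB x c) ∈ eOf i := fun c hc => (hE _ (hE c hc).2.1).1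
  have ht3 : ∀ c ∈ eOf i, t ^ 3 * ψ c = ψ c * t ^ 3 := fun c hc => by
    refine mul_inv_eq_iff_eq_mul.1 ?_
    rw [show t ^ 3 * ψ c * (t ^ 3)⁻¹ = t * (t * (t * ψ c * t⁻¹) * t⁻¹) * t⁻¹ by simp [pow_succ, mul_assoc], hstep c hc,
      hstep _ (hmem c hc), hstep _ (hmem _ (hmem c hc)), (hE c hc).2.2.2.1]
  obtain ⟨r, hr, her⟩ : ∃ r ∈ [2, 8, 10], eOf i = 0 :: 1 :: clsB r := by
    rcases hi with rfl | rfl
    · exact ⟨2, by decide, rfl⟩
    · exact ⟨10, by decide, rfl⟩
  obtain ⟨-, hEc, -, -, -, hself, -⟩ := single_facts r hr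
  obtain ⟨f, hf, hfl, ef⟩ : ∃ f ∈ eOf i, f < 192 ∧ ψ f = t ^ 3 := by
    have h1 : (1 : ℕ) ∈ eOf i := her ▸ by simp
    obtain ⟨f, hf, ef⟩ := M.code_of_comm (g := t ^ 3) (by
      have := ht3 1 h1
      rwa [M.at_s] at this)
    refine ⟨f, her ▸ hself f hf fun d hd => (M.comm_iff hf (hEc.2 d hd).1).1 ?_, hf, ef⟩
    rw [ef]
    exact ht3 d (her ▸ hd)
  have hfix : aE i (cjB x f) = f := by
    refine M.inj _ ((hE _ (hmem f hf)).2.2.1) _ hfl ?_
    rw [← hstep f hf, ef]
    group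
  rcases (hE f hf).2.2.2.2 hfix with rfl | hv
  · rw [← ef, M.one]
  · exfalso
    have hc : IsConj s (ψ f * ψ x) := by
      refine (D.letter_fused P hi).trans (isConj_iff.2 ⟨t, ?_⟩)
      rw [ef, ← ha]
      calc t * a * t⁻¹ = a * ψ x * a * (ψ x)⁻¹ * a⁻¹ := by rw [ht]; group
        _ = a * ψ x * a * ψ x * a := by rw [inv_eq_of_mul_eq_one_right hx1, inv_eq_of_mul_eq_one_right ha1]
        _ = (a * ψ x) * (a * ψ x) * (a * ψ x) * (ψ x)⁻¹ := by group
        _ = t ^ 3 * ψ x := by rw [inv_eq_of_mul_eq_one_right hx1, ht, pow_succ, pow_two]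
    rw [M.mul f hfl x hxl] at hc
    obtain ⟨-, h8, h96, n8, n96, -⟩ := eight_lists_facts
    rcases List.mem_append.1 hv with h' | h'
    · exact n8 ((D.fused 8 h8).1 (hc.trans (M.isConj_cls h8 h').symm))
    · exact n96 ((D.fused 96 h96).1 (hc.trans (M.isConj_cls h96 h').symm))

theorem rels_hold : ∀ r ∈ eightRels, ev (eightLetters ψ ka kb) r = 1 := by
  intro r hr
  have M := D.model
  have sq := D.sq_letters P
  have hrev : ∀ w : List ℕ, ev (eightLetters ψ ka kb) w.reverse = (ev (eightLetters ψ ka kb) w)⁻¹ := fun w =>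
    ev_rev_inv sq w
  have h := rels_eq r hr
  simp only [rawEight, List.mem_append, List.mem_cons, List.not_mem_nil, or_false, List.mem_map] at h
  obtain ⟨w1, w2, w3, -, -⟩ := word_facts
  rcases h with ((h | rfl) | ⟨⟨i, y, z⟩, hm, rfl⟩) | ⟨⟨i, x⟩, hm, rfl⟩
  · rw [D.ev_fold P (w1 r h).2, (w1 r h).1, M.one]
  · have e := D.letters_comm P
    have a1 := sq 4; have b1 := sq 5
    calc ev (eightLetters ψ ka kb) [4, 5, 4, 5] = eightLetters ψ ka kb 4 * eightLetters ψ ka kb 5 *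
          (eightLetters ψ ka kb 4 * eightLetters ψ ka kb 5) := by simp [ev, mul_assoc]
      _ = eightLetters ψ ka kb 4 * eightLetters ψ ka kb 5 * (eightLetters ψ ka kb 5 * eightLetters ψ ka kb 4) := by
          congr 1
      _ = 1 := by rw [mul_assoc, ← mul_assoc (eightLetters ψ ka kb 5), b1, one_mul, a1]
  · obtain ⟨e1, e2, l1, l2⟩ := w2 _ hm
    dsimp only at e1 e2 l1 l2 ⊢
    have hcons : ∀ w, ev (eightLetters ψ ka kb) (i :: w) = eightLetters ψ ka kb i * ev (eightLetters ψ ka kb) w :=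
      fun w => by simp [ev]
    rw [ev_append, hcons, hcons, D.ev_fold P l1, e1, hrev, D.ev_fold P l2, e2]
    rw [← mul_assoc, ← D.conj_triple P hm, inv_eq_of_mul_eq_one_right (sq i)]
    exact mul_inv_cancel _
  · obtain ⟨e1, l1⟩ := w3 _ hm
    dsimp only at e1 l1 ⊢
    rw [ev_powWord, show ev (eightLetters ψ ka kb) (i :: wordB x) = eightLetters ψ ka kb i *
      ev (eightLetters ψ ka kb) (wordB x) by simp [ev], D.ev_fold P l1, e1]
    exact D.cube_one P hm

/-- The alternating group of degree eight maps in, extending the centralizer. -/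
theorem exists_eight : ∃ f : alternatingGroup (Pt 6) →* G, Function.Injective f ∧
    (∀ i, f (eightGen i) = eightLetters ψ ka kb i) ∧ (∀ c < 192, f (codeEight c) = ψ c) := by
  classical
  have M := D.model
  set P' : ℕ → G × alternatingGroup (Pt 6) := fun i => (eightLetters ψ ka kb i, eightGen i) with hP
  set K : Subgroup (G × alternatingGroup (Pt 6)) := closure (P' '' Set.Iio 6) with hK
  set g : ℕ → K := fun i => if h : i < 6 then ⟨P' i, subset_closure ⟨i, h, rfl⟩⟩ else 1 with hgdef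
  have hgval : ∀ i, (g i : G × alternatingGroup (Pt 6)) = P' i := by
    intro i
    simp only [g]
    split_ifs with h
    · rfl
    · simp only [P', eightLetters, if_neg (show ¬ i < 4 by omega), if_neg (show i ≠ 4 by omega),
        if_neg (show i ≠ 5 by omega), eightGen, dif_neg h]
      rfl
  have sq8 : ∀ i, eightGen i * eightGen i = 1 := fun i => by
    by_cases h : i < 7
    · exact eightGen_sq i h
    · simp [eightGen, show ¬ i < 6 by omega]
  have hsq : ∀ i, g i * g i = 1 := fun i => Subtype.ext (by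
    rw [Subgroup.coe_mul, hgval]
    exact Prod.ext (D.sq_letters P i) (sq8 i))
  have hgen : closure (g '' Set.Iio 6) = ⊤ := by
    rw [eq_top_iff, ← closure_closure_coe_preimage (k := P' '' Set.Iio 6)]
    refine closure_mono ?_
    rintro x ⟨i, hi, e⟩
    exact ⟨i, hi, Subtype.ext ((hgval i).trans e)⟩
  have hrels : ∀ r ∈ eightRels, ev g r = 1 := fun r hr => Subtype.ext (by
    rw [← Subgroup.subtype_apply, map_ev, show (fun x => K.subtype (g x)) = P' from funext hgval]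
    refine Prod.ext ?_ ?_
    · rw [← MonoidHom.coe_fst, map_ev]; exact D.rels_hold P r hr
    · rw [← MonoidHom.coe_snd, map_ev]; exact eightRels_hold r hr)
  have hfold : ∀ c < 192, (ev g (allWords.getD c []) : K).1.1 = ψ c := fun c hc => by
    obtain ⟨e, hl⟩ := word_facts.2.2.2.2 c hc
    rw [← Subgroup.subtype_apply, map_ev, show (fun x => K.subtype (g x)) = P' from funext hgval,
      ← MonoidHom.coe_fst, map_ev]
    exact (D.ev_fold P hl).trans (by rw [e])
  set p₁ : K →* G := (MonoidHom.fst _ _).comp K.subtype with hp₁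
  set p₂ : K →* alternatingGroup (Pt 6) := (MonoidHom.snd _ _).comp K.subtype with hp₂
  have p₂g : ∀ i, p₂ (g i) = eightGen i := fun i => by
    show (g i : G × alternatingGroup (Pt 6)).2 = _; rw [hgval]
  have p₁g : ∀ i, p₁ (g i) = eightLetters ψ ka kb i := fun i => by
    show (g i : G × alternatingGroup (Pt 6)).1 = _; rw [hgval]
  -- at most twenty thousand one hundred and sixty elements
  set S : Subgroup K := closure (g '' Set.Iio 4) with hS
  have hsubs : ∀ r ∈ eightSubs, ev g r ∈ S := by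
    intro r hr
    simp only [eightSubs, List.mem_cons, List.not_mem_nil, or_false] at hr
    rcases hr with rfl | rfl | rfl | rfl <;>
      exact ev_mem fun i hi => subset_closure ⟨i, by simp at hi; subst hi; norm_num, rfl⟩
  obtain ⟨-, hidx⟩ := Cert.cert.index_le Cert.steps_ok Cert.rows_ok Cert.row_zero (by norm_num) g hsq
    (show g 6 = 1 by simp [g]) hgen hrels S hsubs
  have hrel4 : ∀ x ∈ S, ∃ c < 192, ψ c = (x : G × alternatingGroup (Pt 6)).1 ∧
      codeEight c = (x : G × alternatingGroup (Pt 6)).2 := by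
    have base : ∀ c < 192, ∀ i < 4, mB c (lCodesB.getD i 0) < 192 ∧
        codeEight (mB c (lCodesB.getD i 0)) = codeEight c * eightGen i := code_step
    intro x hx
    induction hx using closure_induction_right with
    | one => exact ⟨0, by norm_num, M.one, code_zero⟩
    | mul_right x _ y hy ih =>
      obtain ⟨i, hi, rfl⟩ := hy
      obtain ⟨c, hc, e1, e2⟩ := ih
      obtain ⟨hl, e3⟩ := base c hc i hi
      refine ⟨_, hl, ?_, ?_⟩
      · rw [← M.mul c hc _ (word_facts.2.2.2.1 i hi).1, e1, Subgroup.coe_mul, Prod.fst_mul, hgval]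
        simp [P', eightLetters, show i < 4 from hi]
      · rw [e3, e2, Subgroup.coe_mul, Prod.snd_mul, hgval]
    | mul_inv_cancel x _ y hy ih =>
      obtain ⟨i, hi, rfl⟩ := hy
      obtain ⟨c, hc, e1, e2⟩ := ih
      obtain ⟨hl, e3⟩ := base c hc i hi
      rw [inv_eq_of_mul_eq_one_right (hsq i)]
      refine ⟨_, hl, ?_, ?_⟩
      · rw [← M.mul c hc _ (word_facts.2.2.2.1 i hi).1, e1, Subgroup.coe_mul, Prod.fst_mul, hgval]
        simp [P', eightLetters, show i < 4 from hi]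
      · rw [e3, e2, Subgroup.coe_mul, Prod.snd_mul, hgval]
  have hS192 : Nat.card S ≤ 192 := by
    choose c hc h1 h2 using hrel4
    refine le_trans (Nat.card_le_card_of_injective (fun x : S => (⟨c x.1 x.2, hc x.1 x.2⟩ : Fin 192)) ?_) (by simp)
    intro x y e
    have e' : c x.1 x.2 = c y.1 y.2 := congrArg Fin.val e
    exact Subtype.ext (Subtype.ext (Prod.ext (by rw [← h1 x.1 x.2, ← h1 y.1 y.2, e'])
      (by rw [← h2 x.1 x.2, ← h2 y.1 y.2, e'])))
  have hcard : Nat.card K ≤ 20160 := by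
    rw [← S.card_mul_index]
    exact le_trans (Nat.mul_le_mul hS192 hidx) (by norm_num)
  have s₂ : Function.Surjective p₂ := by
    rw [← MonoidHom.range_eq_top, eq_top_iff, ← closure_cyc 6, closure_le]
    rintro _ ⟨i, rfl⟩
    refine ⟨ev g (cycWords.getD i.1 []), ?_⟩
    rw [map_ev, show (fun x => p₂ (g x)) = eightGen from funext p₂g]
    exact (cycWords_spec i).1
  haveI : Nontrivial (Pt 6) := ⟨⟨.inl 0, .inl 1, by simp⟩⟩
  have h8 : Nat.card (alternatingGroup (Pt 6)) = 20160 := by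
    have h := two_mul_nat_card_alternatingGroup (α := Pt 6)
    rw [Nat.card_perm, Nat.card_sum, Nat.card_fin, Nat.card_fin,
      show Nat.factorial (2 + 6) = 40320 by decide +kernel] at h
    omega
  have b₂ : Function.Bijective p₂ := s₂.bijective_of_nat_card_le (by rw [h8]; exact hcard)
  set e₂ := MulEquiv.ofBijective p₂ b₂
  set f : alternatingGroup (Pt 6) →* G := p₁.comp e₂.symm.toMonoidHom with hf
  have fgen : ∀ i, f (eightGen i) = eightLetters ψ ka kb i := fun i => by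
    rw [← p₁g i, hf]
    show p₁ (e₂.symm (eightGen i)) = _
    rw [show eightGen i = e₂ (g i) from (p₂g i).symm, MulEquiv.symm_apply_apply]
  have fcode : ∀ c < 192, f (codeEight c) = ψ c := fun c hc => by
    obtain ⟨e, hl⟩ := word_facts.2.2.2.2 c hc
    rw [codeEight, map_ev, show (fun x => f (eightGen x)) = eightLetters ψ ka kb from funext fgen, D.ev_fold P hl, e]
  refine ⟨f, ?_, fgen, fcode⟩
  haveI : IsSimpleGroup (alternatingGroup (Pt 6)) := alternatingGroup.isSimpleGroup (by simp)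
  refine (MonoidHom.ker_eq_bot_iff f).1 ((IsSimpleGroup.eq_bot_or_eq_top_of_normal f.ker inferInstance).resolve_right
    fun h => M.s_ne ?_)
  rw [← M.at_s, ← fcode 1 (by norm_num)]
  exact MonoidHom.mem_ker.1 (h ▸ mem_top _)

end BStd

end CfsgLib.Spor.ExtraSymThree
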