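import Cfsg.Agent.Lib.Spor.ExtraSymThree.BCentV
import Cfsg.Agent.Lib.Invol.FourCentralizer

/-!
# The centralizer of the four-group is small or an extension by the alternating group of degree five
-/

set_option autoImplicit false
set_option maxRecDepth 100000
set_option linter.unusedSectionVars false

namespace CfsgLib.Spor.ExtraSymThree

open Subgroup CfsgLib.Lie.BoundedPres

/-- The codes of the four-group. -/
def vFour : List ℕ := [0, 8, 96, 104]

/-- Representatives of the elementary group modulo the four-group. -/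
def wReps : List ℕ := [0, 9, 98, 107]

theorem five_facts : ClosedB vFour ∧ vFour.Nodup ∧ (∀ c ∈ vFour, c ∈ wB ∧ comB c 8 = true) ∧
    (∀ e ∈ vFour, e = 0 ∨ mB e 9 ∈ nineO) ∧ (∀ d ∈ wReps, d ∈ wB ∧ ∀ d' ∈ wReps, mB (invB d) d' ∈ vFour → d = d') ∧
    mB 8 9 = 1 ∧ (∀ c < 192, comB c 8 = true → comB c 96 = true → c ∈ wB) ∧
    (∀ c ∈ wB, ∃ d ∈ wReps, mB d c ∈ vFour) ∧
    (∀ c ∈ vFour, extB actA (extB actA (extB actB c)) = c) ∧
    (extB actA (extB actA (extB actB 9)) = 98 ∧ extB actA (extB actA (extB actB 98)) = 107) ∧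
    cjB 17 96 = 104 ∧ cjB 17 8 = 8 ∧ mB 9 98 = 107 ∧ 9 ∉ nineO ∧ comB 9 98 = true ∧ wReps.Nodup := by decide +kernel

/-- The centralizer of the four-group. -/
def centFour {G : Type*} [Group G] (ψ : ℕ → G) : Subgroup G :=
  centralizer ({ψ 8} : Set G) ⊓ centralizer ({ψ 96} : Set G)

theorem mem_centFour {G : Type*} [Group G] {ψ : ℕ → G} {g : G} :
    g ∈ centFour ψ ↔ g * ψ 8 = ψ 8 * g ∧ g * ψ 96 = ψ 96 * g := by
  rw [centFour, mem_inf, mem_centralizer_singleton_iff, mem_centralizer_singleton_iff]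

namespace BEmb

variable {G : Type*} [Group G] [Finite G] {s : G} {ψ : ℕ → G} {ka kb : G} {f : alternatingGroup (Pt 6) →* G}
  (E : BEmb s ψ ka kb f)
include E

/-- The four-group. -/
def grpV : Subgroup G := E.std.model.sub vFour five_facts.1

theorem grpV_central {e g : G} (he : e ∈ E.grpV) (hg : g ∈ centFour ψ) : g * e = e * g := by
  have M := E.std.model
  obtain ⟨c, hc, rfl⟩ := he
  obtain ⟨h8, h96⟩ := mem_centFour.1 hg
  simp only [vFour, Set.mem_setOf_eq, List.mem_cons, List.not_mem_nil, or_false] at hc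
  rcases hc with rfl | rfl | rfl | rfl
  · rw [M.one, mul_one, one_mul]
  · exact h8
  · exact h96
  · rw [← cv_codes.2.1, ← M.mul 8 (by norm_num) 96 (by norm_num), ← mul_assoc, h8, mul_assoc, h96, ← mul_assoc]

theorem grpV_le : E.grpV ≤ centFour ψ := by
  rintro _ ⟨c, hc, rfl⟩
  obtain ⟨hw, -⟩ := five_facts.2.2.1 c hc
  exact mem_centFour.2 ⟨E.std.model.grpW_comm ⟨c, hw, rfl⟩ E.v_mem_W, E.std.model.grpW_comm ⟨c, hw, rfl⟩ E.u_mem_W⟩

theorem grpW_le_centFour : E.std.model.grpW ≤ centFour ψ := fun _ hw =>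
  mem_centFour.2 ⟨E.std.model.grpW_comm hw E.v_mem_W, E.std.model.grpW_comm hw E.u_mem_W⟩

theorem grpV_le_range : E.grpV ≤ f.range := by
  rintro _ ⟨c, hc, rfl⟩
  exact E.code_mem (five_facts.1.2 c hc).1

instance grpV_normal : (E.grpV.subgroupOf (centFour ψ)).Normal :=
  ⟨fun a ha g => by
    have h := E.grpV_central (mem_subgroupOf.1 ha) g.2
    rwa [show g * a * g⁻¹ = a from Subtype.ext (mul_inv_eq_iff_eq_mul.2 h)]⟩

/-- The quotient by the four-group. -/
abbrev quotFour := ↥(centFour ψ) ⧸ E.grpV.subgroupOf (centFour ψ)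

theorem quot_eq_one {g : centFour ψ} :
    (QuotientGroup.mk g : E.quotFour) = 1 ↔ (g : G) ∈ E.grpV := by
  rw [QuotientGroup.eq_one_iff, mem_subgroupOf]

theorem quot_eq {g h : centFour ψ} :
    (QuotientGroup.mk g : E.quotFour) = QuotientGroup.mk h ↔ (g : G)⁻¹ * h ∈ E.grpV := by
  rw [QuotientGroup.eq, mem_subgroupOf]
  rfl

/-- The element cycling the other four-group. -/
theorem cycler : ka * ka * kb ∈ centFour ψ ∧ ka * ka * kb ∈ f.range ∧
    ka * ka * kb * ψ 9 * (ka * ka * kb)⁻¹ = ψ 98 ∧ ka * ka * kb * ψ 98 * (ka * ka * kb)⁻¹ = ψ 107 ∧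
    (ka * ka * kb) * (ka * ka * kb) * (ka * ka * kb) = 1 := by
  obtain ⟨-, -, hv, -, hr, -, -, -, hfix, ⟨h9, h98⟩, -⟩ := five_facts
  obtain ⟨-, -, hAm, hBm, -⟩ := act_facts
  have P := E.pair
  set k := ka * ka * kb
  have hk : ∀ c ∈ wB, k * ψ c * k⁻¹ = ψ (extB actA (extB actA (extB actB c))) := fun c hc => by
    have c1 := (nine_cube _ hBm c hc).1
    have c2 := (nine_cube _ hAm _ c1).1
    rw [show k * ψ c * k⁻¹ = ka * (ka * (kb * ψ c * kb⁻¹) * ka⁻¹) * ka⁻¹ by simp only [k]; group,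
      P.actB c hc, P.actA _ c1, P.actA _ c2]
  have hcm : k * k * k = 1 := by
    have hc : Commute (ka * ka) kb := (show Commute ka kb from P.comm).mul_left P.comm
    rw [← pow_two, ← pow_succ, hc.mul_pow, pow_succ kb, pow_two kb, P.cubeB,
      mul_one, pow_succ, pow_two, show ka * ka * (ka * ka) * (ka * ka) = ka * ka * ka * (ka * ka * ka) by group, P.cubeA,
      one_mul]
  refine ⟨mem_centFour.2 ⟨mul_inv_eq_iff_eq_mul.1 ?_, mul_inv_eq_iff_eq_mul.1 ?_⟩,
    mul_mem (mul_mem E.memA E.memA) E.memB, by rw [hk 9 (hr 9 (by decide)).1, h9],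
    by rw [hk 98 (hr 98 (by decide)).1, h98], hcm⟩
  · rw [hk 8 (hv 8 (by decide)).1, hfix 8 (by decide)]
  · rw [hk 96 (hv 96 (by decide)).1, hfix 96 (by decide)]

theorem rep_mem {d : ℕ} (hd : d ∈ wReps) : ψ d ∈ centFour ψ :=
  E.grpW_le_centFour ⟨d, (five_facts.2.2.2.2.1 d hd).1, rfl⟩

/-- The centralizer of an involution in the quotient. -/
theorem cent_quot {y : E.quotFour}
    (hy : y * QuotientGroup.mk ⟨ψ 9, E.rep_mem (by decide)⟩ = QuotientGroup.mk ⟨ψ 9, E.rep_mem (by decide)⟩ * y) :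
    ∃ d, ∃ hd : d ∈ wReps, y = QuotientGroup.mk ⟨ψ d, E.rep_mem hd⟩ := by
  have M := E.std.model
  obtain ⟨-, -, -, hfus, hrep, h89, hW, hcov, -, -, -, -, -, h9, -⟩ := five_facts
  obtain ⟨g, rfl⟩ := QuotientGroup.mk_surjective y
  rw [← QuotientGroup.mk_mul, ← QuotientGroup.mk_mul, E.quot_eq] at hy
  simp only [Subgroup.coe_mul] at hy
  have h9W : ψ 9 ∈ M.grpW := ⟨9, (hrep 9 (by decide)).1, rfl⟩
  have h99 : ψ 9 * ψ 9 = 1 := M.grpW_sq h9W
  have hy' := E.grpV_central hy (inv_mem g.2)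
  obtain ⟨e, he, ee⟩ := hy
  have hel : e < 192 := (five_facts.1.2 e he).1
  have key : (g : G)⁻¹ * ψ 9 * g = ψ (mB 9 e) := by
    rw [← M.mul 9 (by norm_num) e hel, ee]
    calc (g : G)⁻¹ * ψ 9 * g = (ψ 9 * ψ 9) * ((g : G)⁻¹ * ψ 9 * g) := by rw [h99, one_mul]
      _ = ψ 9 * (((g : G) * ψ 9)⁻¹ * (ψ 9 * g)) := by
          rw [mul_inv_rev, inv_eq_of_mul_eq_one_right h99]; group
  have he0 : e = 0 := by
    refine (hfus e he).resolve_right fun h => h9 ?_
    have hc : mB 9 e = mB e 9 := by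
      refine M.inj _ (mB_lt 9 (by norm_num) e hel) _ (mB_lt e hel 9 (by norm_num)) ?_
      rw [← M.mul 9 (by norm_num) e hel, ← M.mul e hel 9 (by norm_num)]
      exact M.grpW_comm h9W ⟨e, (five_facts.2.2.1 e he).1, rfl⟩
    refine (E.std.fused_iff (hrep 9 (by decide)).1).1 (((E.std.fused_iff ?_).2 h).trans ?_)
    · exact (by decide : ∀ w ∈ nineO, w ∈ wB) _ h
    · rw [← hc, ← key]; exact isConj_iff.2 ⟨g, by group⟩
  subst he0
  have hg9 : (g : G) * ψ 9 = ψ 9 * g := by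
    rw [M.one] at ee
    exact inv_mul_eq_one.1 ee.symm
  obtain ⟨hg8, hg96⟩ := mem_centFour.1 g.2
  obtain ⟨c, hc, ec⟩ := M.code_of_comm (g := (g : G)) (by
    rw [← M.at_s, ← h89, ← M.mul 8 (by norm_num) 9 (by norm_num), ← mul_assoc, hg8, mul_assoc, hg9, ← mul_assoc])
  have hcW := hW c hc ((M.comm_iff hc (by norm_num)).1 (ec ▸ hg8)) ((M.comm_iff hc (by norm_num)).1 (ec ▸ hg96))
  obtain ⟨d, hd, hdc⟩ := hcov c hcW
  refine ⟨d, hd, (E.quot_eq.2 ?_).symm⟩
  show (ψ d)⁻¹ * (g : G) ∈ E.grpV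
  have hdl := (wB_facts.1.2 d (hrep d hd).1).1
  rw [inv_eq_of_mul_eq_one_right (M.grpW_sq ⟨d, (hrep d hd).1, rfl⟩), ← ec, M.mul d hdl c hc]
  exact ⟨_, hdc, rfl⟩

theorem five_or_le :
    centFour ψ ≤ f.range ∨ Nonempty (E.quotFour ≃* alternatingGroup (Fin 5)) := by
  classical
  by_cases hle : centFour ψ ≤ f.range
  · exact Or.inl hle
  right
  have M := E.std.model
  haveI : Fact (Nat.Prime 2) := ⟨Nat.prime_two⟩
  obtain ⟨hVc, hVn, hVW, -, hrep, -, -, hcov, -, -, -, -, h9_98, -, hc998, hrn⟩ := five_facts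
  have mkr : ∀ {d}, (hd : d ∈ wReps) → (QuotientGroup.mk ⟨ψ d, E.rep_mem hd⟩ : E.quotFour) *
      QuotientGroup.mk ⟨ψ d, E.rep_mem hd⟩ = 1 := fun {d} hd => by
    rw [← QuotientGroup.mk_mul, E.quot_eq_one]
    show ψ d * ψ d ∈ E.grpV
    rw [M.grpW_sq ⟨d, (hrep d hd).1, rfl⟩]; exact one_mem _
  have rinj : ∀ {d d'}, (hd : d ∈ wReps) → (hd' : d' ∈ wReps) →
      (QuotientGroup.mk ⟨ψ d, E.rep_mem hd⟩ : E.quotFour) = QuotientGroup.mk ⟨ψ d', E.rep_mem hd'⟩ → d = d' := by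
    intro d d' hd hd' e
    rw [E.quot_eq] at e
    have hl := (wB_facts.1.2 d (hrep d hd).1).1
    have hl' := (wB_facts.1.2 d' (hrep d' hd').1).1
    refine (hrep d hd).2 d' hd' ?_
    change (ψ d)⁻¹ * ψ d' ∈ E.grpV at e
    rw [M.inv hl, M.mul _ (invB_spec d hl).1 d' hl'] at e
    exact (M.code_mem_sub hVc (mB_lt _ (invB_spec d hl).1 d' hl')).1 e
  set xb : E.quotFour := QuotientGroup.mk ⟨ψ 9, E.rep_mem (by decide)⟩ with hxb
  have h0 : (QuotientGroup.mk ⟨ψ 0, E.rep_mem (by decide)⟩ : E.quotFour) = 1 := by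
    rw [E.quot_eq_one]
    show ψ 0 ∈ E.grpV
    rw [M.one]; exact one_mem _
  have hxb1 : xb ≠ 1 := fun h => absurd (rinj (by decide) (by decide) (h.trans h0.symm)) (by norm_num : (9 : ℕ) ≠ 0)
  have hord : orderOf xb = 2 := orderOf_eq_prime (by rw [pow_two]; exact mkr (by decide : 9 ∈ wReps)) hxb1
  have hcomm : ∀ {d}, (hd : d ∈ wReps) → (QuotientGroup.mk ⟨ψ d, E.rep_mem hd⟩ : E.quotFour) * xb =
      xb * QuotientGroup.mk ⟨ψ d, E.rep_mem hd⟩ := fun {d} hd => by
    rw [hxb, ← QuotientGroup.mk_mul, ← QuotientGroup.mk_mul]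
    exact congrArg _ (Subtype.ext (M.grpW_comm ⟨d, (hrep d hd).1, rfl⟩ ⟨9, (hrep 9 (by decide)).1, rfl⟩))
  have hC : ∀ y ∈ centralizer ({xb} : Set E.quotFour), ∃ d, ∃ hd : d ∈ wReps,
      y = QuotientGroup.mk ⟨ψ d, E.rep_mem hd⟩ := fun y hy => E.cent_quot (mem_centralizer_singleton_iff.1 hy)
  have hC4 : Nat.card (centralizer ({xb} : Set E.quotFour)) = 4 := by
    let g : {d // d ∈ wReps.toFinset} → centralizer ({xb} : Set E.quotFour) := fun d =>
      ⟨QuotientGroup.mk ⟨ψ d.1, E.rep_mem (List.mem_toFinset.1 d.2)⟩,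
        mem_centralizer_singleton_iff.2 (hcomm (List.mem_toFinset.1 d.2))⟩
    have hg : Function.Bijective g := by
      refine ⟨fun d d' e => Subtype.ext (rinj (List.mem_toFinset.1 d.2) (List.mem_toFinset.1 d'.2) (congrArg Subtype.val e)), fun y => ?_⟩
      obtain ⟨d, hd, e⟩ := hC y.1 y.2
      exact ⟨⟨d, List.mem_toFinset.2 hd⟩, Subtype.ext e.symm⟩
    rw [← Nat.card_eq_of_bijective g hg, Nat.card_eq_fintype_card, Fintype.card_coe,
      List.toFinset_card_of_nodup hrn]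
    rfl
  have hCe : ∀ c ∈ centralizer ({xb} : Set E.quotFour), c ^ 2 = 1 := fun c hc => by
    obtain ⟨d, hd, rfl⟩ := hC c hc
    rw [pow_two]; exact mkr hd
  obtain ⟨hkM, hkR, hk9, hk98, hk3⟩ := E.cycler
  set kq : E.quotFour := QuotientGroup.mk ⟨ka * ka * kb, hkM⟩ with hkq
  have cyc1 : kq * xb * kq⁻¹ = QuotientGroup.mk ⟨ψ 98, E.rep_mem (by decide)⟩ := by
    rw [hkq, hxb, ← QuotientGroup.mk_inv, ← QuotientGroup.mk_mul, ← QuotientGroup.mk_mul]
    exact congrArg _ (Subtype.ext hk9)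
  have cyc2 : kq * QuotientGroup.mk ⟨ψ 98, E.rep_mem (by decide)⟩ * kq⁻¹ =
      QuotientGroup.mk ⟨ψ 107, E.rep_mem (by decide)⟩ := by
    rw [hkq, ← QuotientGroup.mk_inv, ← QuotientGroup.mk_mul, ← QuotientGroup.mk_mul]
    exact congrArg _ (Subtype.ext hk98)
  refine CfsgLib.Invol.iso_alternating_five hord hC4 hCe ?_ ?_
  · -- no normal complement
    rintro ⟨P, N, hN, hc⟩
    haveI := hN
    have hodd : Odd (Nat.card N) := by
      rw [Nat.odd_iff]
      by_contra h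
      refine P.not_dvd_index ?_
      have hi : (P : Subgroup E.quotFour).index = Nat.card N := hc.index_eq_card
      rw [hi]
      omega
    have inv : ∀ (t : E.quotFour), t * t = 1 → (∀ o ∈ N, t * o = o * t → o * o = 1) →
        ∀ o ∈ N, t * o * t = o⁻¹ := fun t ht hf =>
      CfsgLib.Spor.MTwelveCent.inverts_of_fixed_trivial hodd ht (fun o ho => by
        have := hN.conj_mem o ho t
        rwa [inv_eq_of_mul_eq_one_right ht] at this) fun o ho h =>
        orderOf_eq_one_iff.1 (Nat.eq_one_of_dvd_coprimes (Nat.coprime_two_left.2 hodd)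
          (orderOf_dvd_of_pow_eq_one (by rw [pow_two, hf o ho h])) (Subgroup.orderOf_dvd_natCard N ho))
    have f9 : ∀ o ∈ N, xb * o = o * xb → o * o = 1 := fun o _ h => by
      rw [← pow_two]; exact hCe o (mem_centralizer_singleton_iff.2 h.symm)
    have fconj : ∀ {t t' g : E.quotFour}, g * t * g⁻¹ = t' → (∀ o ∈ N, t * o = o * t → o * o = 1) →
        ∀ o ∈ N, t' * o = o * t' → o * o = 1 := fun {t t' g} e hf o ho h => by
      have h1 := hf (g⁻¹ * o * g) (by simpa using hN.conj_mem o ho g⁻¹) (by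
        rw [← e] at h
        calc t * (g⁻¹ * o * g) = g⁻¹ * (g * t * g⁻¹ * o) * g := by group
          _ = g⁻¹ * (o * (g * t * g⁻¹)) * g := by rw [h]
          _ = _ := by group)
      calc o * o = g * (g⁻¹ * o * g * (g⁻¹ * o * g)) * g⁻¹ := by group
        _ = 1 := by rw [h1]; group
    have f98 := fconj cyc1 f9
    have f107 := fconj cyc2 f98
    have hbot : ∀ o ∈ N, o = 1 := by
      intro o ho
      have e1 := inv xb (mkr (by decide : 9 ∈ wReps)) f9 o ho
      have e2 := inv _ (mkr (by decide : 98 ∈ wReps)) f98 o⁻¹ (inv_mem ho)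
      have e3 := inv _ (mkr (by decide : 107 ∈ wReps)) f107 o ho
      set x2 : E.quotFour := QuotientGroup.mk ⟨ψ 98, E.rep_mem (by decide)⟩ with hx2
      have h3 : (QuotientGroup.mk ⟨ψ 107, E.rep_mem (by decide)⟩ : E.quotFour) = xb * x2 := by
        rw [hxb, hx2, ← QuotientGroup.mk_mul]
        refine congrArg _ (Subtype.ext ?_)
        show ψ 107 = ψ 9 * ψ 98
        rw [M.mul 9 (by norm_num) 98 (by norm_num), h9_98]
      rw [h3] at e3
      have e4 : xb * x2 * o * (xb * x2) = o := by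
        calc xb * x2 * o * (xb * x2) = x2 * xb * o * (xb * x2) := by rw [← hcomm (by decide : 98 ∈ wReps)]
          _ = x2 * (xb * o * xb) * x2 := by group
          _ = o := by rw [e1, e2, inv_inv]
      rw [e3] at e4
      have h2 : o * o = 1 := by nth_rewrite 1 [← e4]; group
      exact orderOf_eq_one_iff.1 (Nat.eq_one_of_dvd_coprimes (Nat.coprime_two_left.2 hodd)
        (orderOf_dvd_of_pow_eq_one (by rw [pow_two, h2])) (Subgroup.orderOf_dvd_natCard N ho))
    have hN1 : N = ⊥ := (Subgroup.eq_bot_iff_forall _).2 hbot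
    have hPtop : (P : Subgroup E.quotFour) = ⊤ := by
      have := hc.sup_eq_top
      rwa [hN1, bot_sup_eq] at this
    obtain ⟨i, hi⟩ := P.isPGroup' ⟨kq, hPtop ▸ mem_top _⟩
    have h1 : kq ^ 2 ^ i = 1 := congrArg Subtype.val hi
    have h3 : kq ^ 3 = 1 := by
      rw [pow_succ, pow_two, hkq, ← QuotientGroup.mk_mul, ← QuotientGroup.mk_mul, E.quot_eq_one]
      show ka * ka * kb * (ka * ka * kb) * (ka * ka * kb) ∈ E.grpV
      rw [hk3]; exact one_mem _
    have hk1 : kq = 1 := orderOf_eq_one_iff.1 (Nat.eq_one_of_dvd_coprimes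
      ((by norm_num : Nat.Coprime 2 3).pow_left i) (orderOf_dvd_of_pow_eq_one h1) (orderOf_dvd_of_pow_eq_one h3))
    rw [hk1, one_mul, inv_one, mul_one] at cyc1
    exact absurd (rinj (by decide) (by decide) cyc1) (by norm_num : (9 : ℕ) ≠ 98)
  · intro S hSn hSe
    by_contra hcard
    rw [not_and_or, not_not, not_not] at hcard
    apply hle
    obtain ⟨hSc, hS2⟩ := hSe
    have sq : ∀ a ∈ S, a * a = 1 := fun a ha => by rw [← pow_two]; exact hS2 a ha
    have scomm : ∀ a ∈ S, ∀ b ∈ S, a * b = b * a := fun a ha b hb =>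
      congrArg Subtype.val (hSc.is_comm.comm ⟨a, ha⟩ ⟨b, hb⟩)
    obtain ⟨e, heS, he1⟩ : ∃ e ∈ S, e ≠ 1 := by
      by_contra h
      push Not at h
      rw [(Subgroup.eq_bot_iff_forall _).2 h, card_bot] at hcard
      norm_num at hcard
    have hxx : xb⁻¹ = xb := inv_eq_of_mul_eq_one_right (mkr (by decide : 9 ∈ wReps))
    obtain ⟨d, hdS, hd1, hdC⟩ : ∃ d ∈ S, d ≠ 1 ∧ d * xb = xb * d := by
      have hconj := hSn.conj_mem e heS xb
      rcases eq_or_ne (e * (xb * e * xb⁻¹)) 1 with h | h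
      · refine ⟨e, heS, he1, ?_⟩
        have := mul_left_cancel (h.trans (sq e heS).symm)
        exact (mul_inv_eq_iff_eq_mul.1 this).symm
      · refine ⟨_, mul_mem heS hconj, h, ?_⟩
        rw [scomm e heS _ hconj, hxx]
        calc xb * e * xb * e * xb = xb * (e * (xb * e * xb)) := by group
          _ = xb * (xb * e * xb * e) := by
            have hh := scomm e heS _ hconj
            rw [hxx] at hh
            rw [hh]
    obtain ⟨d', hd', rfl⟩ := hC d (mem_centralizer_singleton_iff.2 hdC)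
    have c107 : kq * QuotientGroup.mk ⟨ψ 107, E.rep_mem (by decide)⟩ * kq⁻¹ = xb := by
      rw [← cyc2, ← cyc1]
      rw [show kq * (kq * (kq * xb * kq⁻¹) * kq⁻¹) * kq⁻¹ = kq * kq * kq * xb * (kq * kq * kq)⁻¹ by group]
      have h3 : kq * kq * kq = 1 := by
        rw [hkq, ← QuotientGroup.mk_mul, ← QuotientGroup.mk_mul, E.quot_eq_one]
        show ka * ka * kb * (ka * ka * kb) * (ka * ka * kb) ∈ E.grpV
        rw [hk3]; exact one_mem _
      rw [h3]; group
    have step : ∀ {a b : E.quotFour}, kq * a * kq⁻¹ = b → a ∈ S → b ∈ S := fun e ha => e ▸ hSn.conj_mem _ ha kq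
    have hall : ∀ c, ∀ hc : c ∈ wReps, QuotientGroup.mk ⟨ψ c, E.rep_mem hc⟩ ∈ S := by
      have hxS : xb ∈ S := by
        have hd'' := hd'
        simp only [wReps, List.mem_cons, List.not_mem_nil, or_false] at hd''
        rcases hd'' with rfl | rfl | rfl | rfl
        · exact absurd h0 hd1
        · exact hdS
        · exact step c107 (step cyc2 hdS)
        · exact step c107 hdS
      intro c hc
      have hc' := hc
      simp only [wReps, List.mem_cons, List.not_mem_nil, or_false] at hc'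
      rcases hc' with rfl | rfl | rfl | rfl
      · rw [h0]; exact one_mem _
      · exact hxS
      · exact step cyc1 hxS
      · exact step cyc2 (step cyc1 hxS)
    have hSC : centralizer ({xb} : Set E.quotFour) = S := by
      refine eq_of_le_of_card_ge (fun y hy => ?_) ?_
      · obtain ⟨c, hc, rfl⟩ := hC y hy; exact hall c hc
      · rw [hC4]
        rcases hcard with h | h <;> rw [h]
        norm_num
    intro g hg
    refine E.normalizer_le ?_
    have hmaps : M.grpW.map (MulAut.conj g).toMonoidHom ≤ M.grpW := by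
      rintro _ ⟨_, ⟨c, hc, rfl⟩, rfl⟩
      obtain ⟨d, hd, hdc⟩ := hcov c hc
      have hcl := (wB_facts.1.2 c hc).1
      have hdl := (wB_facts.1.2 d (hrep d hd).1).1
      have hm : (QuotientGroup.mk (⟨g, hg⟩ * ⟨ψ d, E.rep_mem hd⟩ * ⟨g, hg⟩⁻¹ : centFour ψ) : E.quotFour) ∈ S := by
        rw [QuotientGroup.mk_mul, QuotientGroup.mk_mul, QuotientGroup.mk_inv]
        exact hSn.conj_mem _ (hall d hd) _
      rw [← hSC] at hm
      obtain ⟨d₂, hd₂, e⟩ := hC _ hm
      rw [E.quot_eq] at e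
      change (g * ψ d * g⁻¹)⁻¹ * ψ d₂ ∈ E.grpV at e
      have h1 : g * ψ d * g⁻¹ ∈ M.grpW := by
        obtain ⟨v', hv', ev⟩ := inv_mem e
        rw [show g * ψ d * g⁻¹ = ψ d₂ * ((g * ψ d * g⁻¹)⁻¹ * ψ d₂)⁻¹ by group, ← ev]
        exact mul_mem ⟨d₂, (hrep d₂ hd₂).1, rfl⟩ ⟨v', (hVW v' hv').1, rfl⟩
      have h2 : g * ψ (mB d c) * g⁻¹ = ψ (mB d c) := mul_inv_eq_iff_eq_mul.2 (E.grpV_central ⟨_, hdc, rfl⟩ hg)
      show g * ψ c * g⁻¹ ∈ M.grpW
      rw [show g * ψ c * g⁻¹ = (g * ψ d * g⁻¹)⁻¹ * (g * (ψ d * ψ c) * g⁻¹) by group, M.mul d hdl c hcl, h2]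
      exact mul_mem (inv_mem h1) ⟨_, (hVW _ hdc).1, rfl⟩
    have heq := eq_of_le_of_card_ge hmaps (by rw [card_map_of_injective (MulAut.conj g).injective])
    rw [mem_normalizer_iff]
    intro w
    refine ⟨fun hw => hmaps ⟨w, hw, rfl⟩, fun hw => ?_⟩
    rw [← heq] at hw
    obtain ⟨u, hu, eu⟩ := hw
    have eu' : g * u * g⁻¹ = g * w * g⁻¹ := eu
    rwa [← mul_left_cancel (mul_right_cancel eu')]

end BEmb

end CfsgLib.Spor.ExtraSymThree
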