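import Cfsg.Agent.Lib.Spor.ExtraSymThree.BSplit
import Mathlib.GroupTheory.PGroup

/-!
# Two commuting elements of order three normalizing the elementary group
-/

set_option autoImplicit false
set_option maxRecDepth 100000
set_option linter.unusedSectionVars false

namespace CfsgLib.Spor.ExtraSymThree

open Subgroup

/-- The model with the standard fusion. -/
structure BStd {G : Type*} [Group G] (s : G) (ψ : ℕ → G) : Prop where
  model : BModel s ψ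
  fused : ∀ r ∈ bReps, IsConj s (ψ r) ↔ r ∈ stdFused

/-- The fused elements of the elementary group. -/
def nineO : List ℕ := [1, 2, 3, 10, 11, 97, 99, 105, 106]

/-- The coordinates with respect to the basis `1, 2, 10, 97`. -/
def coordB (w : ℕ) : ℕ :=
  ([(0, 0), (1, 1), (2, 2), (3, 3), (8, 6), (9, 7), (10, 4), (11, 5), (96, 9), (97, 8), (98, 11), (99, 10), (104, 15),
    (105, 14), (106, 13), (107, 12)].lookup w).getD 0

/-- The extension of the images of the basis. -/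
noncomputable def extB (t : ℕ × ℕ × ℕ × ℕ) (w : ℕ) : ℕ :=
  mB (mB (if coordB w % 2 = 1 then t.1 else 0) (if coordB w / 2 % 2 = 1 then t.2.1 else 0))
    (mB (if coordB w / 4 % 2 = 1 then t.2.2.1 else 0) (if coordB w / 8 % 2 = 1 then t.2.2.2 else 0))

/-- The nine actions of order dividing three. -/
def nineActs : List (ℕ × ℕ × ℕ × ℕ) :=
  [(1, 2, 10, 97), (2, 3, 99, 106), (3, 1, 105, 11), (10, 99, 11, 2), (11, 97, 1, 99), (97, 106, 2, 105),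
    (99, 105, 97, 3), (105, 10, 106, 1), (106, 11, 3, 10)]

/-- The action of the first element. -/
abbrev actA : ℕ × ℕ × ℕ × ℕ := (2, 3, 99, 106)

/-- The action of the second element. -/
abbrev actB : ℕ × ℕ × ℕ × ℕ := (11, 97, 1, 99)

/-- Whether these images can come from an element of order three. -/
noncomputable def actOk (t : ℕ × ℕ × ℕ × ℕ) : Bool :=
  (nineO.all fun w => nineO.contains (extB t w)) && (wB.all fun w => (extB t)^[9] w == w) &&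
    (wB.all fun w => wB.all fun v => extB t w != extB t v || w == v)

theorem act_check : (nineO.all fun a => nineO.all fun b => nineO.all fun c => nineO.all fun d =>
    !actOk (a, b, c, d) || nineActs.contains (a, b, c, d)) = true := by decide +kernel

theorem act_facts : nineActs.Nodup ∧ nineActs.length = 9 ∧ actA ∈ nineActs ∧ actB ∈ nineActs ∧
    (oList stdFused).length = 9 ∧ (∀ w ∈ wB, (w ∈ oList stdFused ↔ w ∈ nineO)) ∧ stdFused ∈ bReps.sublists ∧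
    (∀ w ∈ wB, coordB w < 16) ∧ extB (1, 2, 10, 97) 2 = 2 ∧
    (∀ w ∈ wB, extB (1, 2, 10, 97) w = w) ∧
    (∀ w ∈ wB, extB actA w = w → extB actB w = w → w = 0) := by decide +kernel

theorem nine_cube : ∀ t ∈ nineActs, ∀ w ∈ wB, extB t w ∈ wB ∧ extB t (extB t (extB t w)) = w := by decide +kernel

theorem conj_facts :
    (∀ w ∈ wB, cjB 4 (extB actA (cjB 4 w)) = extB actA w) ∧
    (∀ w ∈ wB, cjB 20 (extB actB (cjB 20 w)) = extB actB w) ∧
    (∀ w ∈ wB, extB actA (cjB 20 (extB actA (cjB 20 w))) = w) ∧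
    (∀ w ∈ wB, extB actB (cjB 4 (extB actB (cjB 4 w))) = w) := by decide +kernel

theorem complement_check : ∀ u ∈ wB, ∀ v ∈ wB, mB (mB u 4) (mB u 4) = 0 → mB (mB v 16) (mB v 16) = 0 →
    comB (mB u 4) (mB v 16) = true → ∃ w ∈ wB, cjB w 4 = mB u 4 ∧ cjB w 16 = mB v 16 := by decide +kernel

theorem code_facts : 4 ∈ sylB ∧ 16 ∈ sylB ∧ 20 ∈ sylB ∧ mB 4 4 = 0 ∧ mB 16 16 = 0 ∧ mB 20 20 = 0 ∧ mB 4 16 = 20 ∧
    mB 16 4 = 20 := by decide +kernel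

/-- The action on the elementary group by codes. -/
def HasAct {G : Type*} [Group G] (ψ : ℕ → G) (g : G) (t : ℕ × ℕ × ℕ × ℕ) : Prop :=
  ∀ w ∈ wB, g * ψ w * g⁻¹ = ψ (extB t w)

namespace BStd

variable {G : Type*} [Group G] [Finite G] {s : G} {ψ : ℕ → G} (D : BStd s ψ)
include D

theorem pattern : patternB s ψ = stdFused := by
  classical
  have h : patternB s ψ = bReps.filter fun r => stdFused.contains r := by
    simp only [patternB]
    refine List.filter_congr fun r hr => ?_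
    rw [Bool.eq_iff_iff]
    simp only [decide_eq_true_eq, List.contains_iff_mem]
    exact D.fused r hr
  rw [h]
  decide

theorem fused_iff {w : ℕ} (hw : w ∈ wB) : IsConj s (ψ w) ↔ w ∈ nineO := by
  rw [D.model.fused_iff hw, D.pattern, act_facts.2.2.2.2.2.1 w hw]

theorem card_normalizer : Nat.card ↥(normalizer (D.model.grpW : Set G)) = 576 := by
  rw [D.model.card_normalizer, D.pattern, act_facts.2.2.2.2.1]

theorem act_unique {g h : G} {t : ℕ × ℕ × ℕ × ℕ} (hg : HasAct ψ g t) (hh : HasAct ψ h t) :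
    g⁻¹ * h ∈ D.model.grpW := by
  refine D.model.grpW_self ?_
  rintro _ ⟨c, hc, rfl⟩
  refine mul_inv_eq_iff_eq_mul.1 ?_
  calc g⁻¹ * h * ψ c * (g⁻¹ * h)⁻¹ = g⁻¹ * (h * ψ c * h⁻¹) * g := by group
    _ = g⁻¹ * (g * ψ c * g⁻¹) * g := by rw [hh c hc, hg c hc]
    _ = _ := by group

theorem hasAct_normalizer {n : G} (hn : n ∈ normalizer (D.model.grpW : Set G)) (hn9 : n ^ 9 = 1) :
    ∃ t ∈ nineActs, HasAct ψ n t := by
  have M := D.model
  obtain ⟨a, ha, ainj, ahom⟩ := M.exists_map hn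
  have lt : ∀ {c}, c ∈ wB → c < 192 := fun h => (wB_facts.1.2 _ h).1
  obtain ⟨h1, h2, h10, h97⟩ : 1 ∈ wB ∧ 2 ∈ wB ∧ 10 ∈ wB ∧ 97 ∈ wB := by decide +kernel
  set t := (a 1, a 2, a 10, a 97) with ht
  have a0 : a 0 = 0 := by
    refine M.inj _ (lt (ha 0 wB_facts.1.1).1) 0 (by norm_num) ?_
    rw [← (ha 0 wB_facts.1.1).2, M.one]
    group
  have hext : ∀ w ∈ wB, a w = extB t w := by
    intro w hw
    have pick : ∀ (b : Prop) [Decidable b] (x : ℕ), x ∈ wB → (if b then x else 0) ∈ wB ∧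
        a (if b then x else 0) = if b then a x else 0 := fun b _ x hx => by
      split_ifs
      · exact ⟨hx, rfl⟩
      · exact ⟨wB_facts.1.1, a0⟩
    have e := act_facts.2.2.2.2.2.2.2.2.2.1 w hw
    simp only [extB] at e
    conv_lhs => rw [← e]
    obtain ⟨m1, e1⟩ := pick (coordB w % 2 = 1) 1 h1
    obtain ⟨m2, e2⟩ := pick (coordB w / 2 % 2 = 1) 2 h2
    obtain ⟨m3, e3⟩ := pick (coordB w / 4 % 2 = 1) 10 h10
    obtain ⟨m4, e4⟩ := pick (coordB w / 8 % 2 = 1) 97 h97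
    rw [ahom _ ((wB_facts.1.2 _ m1).2.2 _ m2) _ ((wB_facts.1.2 _ m3).2.2 _ m4), ahom _ m1 _ m2, ahom _ m3 _ m4,
      e1, e2, e3, e4]
    rfl
  have hO : ∀ w ∈ nineO, a w ∈ nineO := fun w hw => by
    have hwW : w ∈ wB := by revert w; decide
    rw [← D.fused_iff (ha w hwW).1, ← (ha w hwW).2]
    exact ((D.fused_iff hwW).2 hw).trans (isConj_iff.2 ⟨n, rfl⟩)
  have mW : ∀ w ∈ nineO, w ∈ wB := by decide
  have ok : actOk t = true := by
    simp only [actOk, Bool.and_eq_true, List.all_eq_true, Bool.or_eq_true, bne_iff_ne, beq_iff_eq, List.contains_iff_mem]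
    suffices h : (∀ w ∈ wB, ∀ v ∈ wB, extB t w ≠ extB t v ∨ w = v) ∧ (∀ w ∈ nineO, extB t w ∈ nineO) ∧
        ∀ w ∈ wB, (extB t)^[9] w = w from ⟨⟨h.2.1, h.2.2⟩, h.1⟩
    refine ⟨fun w hw v hv => ?_, fun w hw => ?_, fun w hw => ?_⟩
    · by_cases h : extB t w = extB t v
      · exact Or.inr (ainj w hw v hv (by rw [hext w hw, hext v hv, h]))
      · exact Or.inl h
    · rw [← hext w (mW w hw)]; exact hO w hw
    · have it : ∀ j : ℕ, (extB t)^[j] w ∈ wB ∧ n ^ j * ψ w * (n ^ j)⁻¹ = ψ ((extB t)^[j] w) := by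
        intro j
        induction j with
        | zero => exact ⟨hw, by simp⟩
        | succ j ih =>
          rw [Function.iterate_succ_apply', ← hext _ ih.1, pow_succ']
          refine ⟨(ha _ ih.1).1, ?_⟩
          rw [← (ha _ ih.1).2, ← ih.2]
          group
      refine M.inj _ (lt (it 9).1) _ (lt hw) ?_
      rw [← (it 9).2, hn9]
      group
  refine ⟨t, ?_, fun w hw => by rw [(ha w hw).2, hext w hw]⟩
  have hm1 : a 1 ∈ nineO ∧ a 2 ∈ nineO ∧ a 10 ∈ nineO ∧ a 97 ∈ nineO :=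
    ⟨hO 1 (by decide), hO 2 (by decide), hO 10 (by decide), hO 97 (by decide)⟩
  have hc := act_check
  simp only [List.all_eq_true, Bool.or_eq_true, Bool.not_eq_true', List.contains_iff_mem] at hc
  rcases hc _ hm1.1 _ hm1.2.1 _ hm1.2.2.1 _ hm1.2.2.2 with h | h
  · rw [ok] at h; exact absurd h (by decide)
  · exact h

theorem code_act {g : ℕ} (hg : g ∈ sylB) {k : G} {t : ℕ × ℕ × ℕ × ℕ} (hk : HasAct ψ k t) (hsq : mB g g = 0)
    (ht : ∀ w ∈ wB, extB t w ∈ wB) :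
    ∀ w ∈ wB, ψ g * k * (ψ g)⁻¹ * ψ w * (ψ g * k * (ψ g)⁻¹)⁻¹ = ψ (cjB g (extB t (cjB g w))) := by
  have M := D.model
  intro w hw
  have hgl := (sylB_facts.1.2 g hg).1
  have hwl := (wB_facts.1.2 w hw).1
  have hi : (ψ g)⁻¹ = ψ g := inv_eq_of_mul_eq_one_right ((M.sq_iff hgl).2 hsq)
  have hcw := wB_facts.2.2.2.2.2.1 g hg w hw
  calc ψ g * k * (ψ g)⁻¹ * ψ w * (ψ g * k * (ψ g)⁻¹)⁻¹
      = ψ g * (k * ((ψ g)⁻¹ * ψ w * ψ g) * k⁻¹) * (ψ g)⁻¹ := by group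
    _ = ψ g * (k * (ψ g * ψ w * (ψ g)⁻¹) * k⁻¹) * (ψ g)⁻¹ := by rw [hi]
    _ = _ := by rw [M.conj hgl hwl, hk _ hcw, M.conj hgl (wB_facts.1.2 _ (ht _ hcw)).1]

theorem trivial_of {g : ℕ} (hg : g ∈ sylB) (hsq : mB g g = 0) {k : G} {t : ℕ × ℕ × ℕ × ℕ} (hk : HasAct ψ k t)
    (ht : ∀ w ∈ wB, extB t w ∈ wB) (hf : ∀ w ∈ wB, extB t (cjB g (extB t (cjB g w))) = w)
    (h : k * (ψ g * k * ψ g) ∈ D.model.grpW → k * (ψ g * k * ψ g) = 1) : k * (ψ g * k * ψ g) = 1 := by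
  have M := D.model
  refine h (M.grpW_self ?_)
  rintro _ ⟨c, hc, rfl⟩
  refine mul_inv_eq_iff_eq_mul.1 ?_
  have hi : (ψ g)⁻¹ = ψ g := inv_eq_of_mul_eq_one_right ((M.sq_iff (sylB_facts.1.2 g hg).1).2 hsq)
  have h1 := D.code_act hg hk hsq ht c hc
  rw [hi] at h1
  calc k * (ψ g * k * ψ g) * ψ c * (k * (ψ g * k * ψ g))⁻¹
      = k * (ψ g * k * ψ g * ψ c * (ψ g * k * ψ g)⁻¹) * k⁻¹ := by group
    _ = _ := by rw [h1, hk _ (wB_facts.2.2.2.2.2.1 g hg _ (ht _ (wB_facts.2.2.2.2.2.1 g hg c hc))), hf c hc]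

/-- The two elements of order three. -/
theorem exists_pair : ∃ ka kb : G, ka * ka * ka = 1 ∧ kb * kb * kb = 1 ∧ ka * kb = kb * ka ∧
    HasAct ψ ka actA ∧ HasAct ψ kb actB ∧ ψ 4 * ka = ka * ψ 4 ∧ ψ 20 * kb = kb * ψ 20 ∧
    ψ 20 * ka * ψ 20 = ka⁻¹ ∧ ψ 4 * kb * ψ 4 = kb⁻¹ := by
  classical
  have M := D.model
  haveI : Fact (Nat.Prime 3) := ⟨Nat.prime_three⟩
  haveI : Fact (Nat.Prime 2) := ⟨Nat.prime_two⟩
  set W := M.grpW with hW
  set N := normalizer (W : Set G) with hN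
  have hNc : Nat.card N = 576 := D.card_normalizer
  obtain ⟨K₀, hK₀⟩ := Sylow.exists_subgroup_card_pow_prime (G := N) 3 (n := 2) (by rw [hNc]; norm_num)
  set K := K₀.map N.subtype with hK
  have hKc : Nat.card K = 9 := by rw [hK, card_map_of_injective N.subtype_injective, hK₀]; norm_num
  have hKN : K ≤ N := map_subtype_le _
  have hWK : ∀ {g : G}, g ∈ K → g ∈ W → g = 1 := fun {g} h1 h2 => by
    have d1 := Subgroup.orderOf_dvd_natCard _ h1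
    have d2 := Subgroup.orderOf_dvd_natCard _ h2
    rw [hKc] at d1; rw [M.card_grpW] at d2
    exact orderOf_eq_one_iff.1 (Nat.eq_one_of_dvd_coprimes (by norm_num : Nat.Coprime 9 16) d1 d2)
  have hKp : IsPGroup 3 K := IsPGroup.of_card (n := 2) (by rw [hKc]; norm_num)
  have hcube : ∀ k ∈ K, k * k * k = 1 ∧ ∃ t ∈ nineActs, HasAct ψ k t := by
    intro k hk
    have h9 : k ^ 9 = 1 := orderOf_dvd_iff_pow_eq_one.1 (hKc ▸ Subgroup.orderOf_dvd_natCard _ hk)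
    obtain ⟨t, ht, hact⟩ := D.hasAct_normalizer (hKN hk) h9
    refine ⟨hWK (mul_mem (mul_mem hk hk) hk) (M.grpW_self ?_), t, ht, hact⟩
    rintro _ ⟨w, hw, rfl⟩
    refine mul_inv_eq_iff_eq_mul.1 ?_
    obtain ⟨w1, -⟩ := nine_cube t ht w hw
    obtain ⟨w2, -⟩ := nine_cube t ht _ w1
    calc k * k * k * ψ w * (k * k * k)⁻¹ = k * (k * (k * ψ w * k⁻¹) * k⁻¹) * k⁻¹ := by group
      _ = _ := by rw [hact w hw, hact _ w1, hact _ w2, (nine_cube t ht w hw).2]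
  have hKcomm : ∀ x ∈ K, ∀ y ∈ K, x * y = y * x := fun x hx y hy =>
    congrArg Subtype.val (IsPGroup.commutative_of_card_eq_prime_sq (p := 3) (by rw [hKc]; norm_num) ⟨x, hx⟩ ⟨y, hy⟩)
  -- every action occurs
  have hall : ∀ t ∈ nineActs, ∃ k ∈ K, HasAct ψ k t := by
    intro t ht
    letI : Fintype K := Fintype.ofFinite K
    have hex : ∀ k : K, ∃ u : {u // u ∈ nineActs.toFinset}, HasAct ψ k.1 u.1 := fun k => by
      obtain ⟨u, hu, hact⟩ := (hcube k.1 k.2).2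
      exact ⟨⟨u, List.mem_toFinset.2 hu⟩, hact⟩
    choose f hf using hex
    have hinj : Function.Injective f := fun k k' e => Subtype.ext (inv_mul_eq_one.1
      (hWK (mul_mem (inv_mem k.2) k'.2) (D.act_unique (hf k) (e ▸ hf k'))))
    have hbij := (Fintype.bijective_iff_injective_and_card f).2 ⟨hinj, by
      rw [← Nat.card_eq_fintype_card, hKc, Fintype.card_coe, List.toFinset_card_of_nodup act_facts.1,
        act_facts.2.1]⟩
    obtain ⟨k, hk⟩ := hbij.2 ⟨t, List.mem_toFinset.2 ht⟩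
    exact ⟨k, k.2, by have := hf k; rwa [hk] at this⟩
  obtain ⟨h4, h16, h20, s4, s16, s20, e20, e20'⟩ := code_facts
  obtain ⟨-, -, hAm, hBm, -, -, -, -, -, -, hfix0⟩ := act_facts
  -- the normal subgroup containing them
  set V := W ⊔ K with hV
  have hWV : W ≤ V := le_sup_left
  have hKV : K ≤ V := le_sup_right
  haveI hVn : (W.subgroupOf V).Normal :=
    normal_subgroupOf_of_le_normalizer (sup_le le_normalizer hKN)
  have hVmem : ∀ g ∈ V, ∃ w ∈ W, ∃ k ∈ K, g = w * k := by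
    intro g hg
    obtain ⟨y, hy, z, hz, e⟩ := (Subgroup.mem_sup_of_normal_left (s := W.subgroupOf V) (t := K.subgroupOf V)
      (x := (⟨g, hg⟩ : V))).1 (by
        rw [← subgroupOf_sup hWV hKV]
        exact mem_subgroupOf.2 hg)
    exact ⟨y, mem_subgroupOf.1 hy, z, mem_subgroupOf.1 hz, (congrArg Subtype.val e).symm⟩
  have hVc : Nat.card V ≤ 144 := by
    have hex : ∀ g : V, ∃ p : W × K, (g : G) = p.1 * p.2 := fun g => by
      obtain ⟨w, hw, k, hk, e⟩ := hVmem g g.2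
      exact ⟨(⟨w, hw⟩, ⟨k, hk⟩), e⟩
    choose f hf using hex
    have := Nat.card_le_card_of_injective f (fun a b e => Subtype.ext (by rw [hf a, hf b, e]))
    rwa [Nat.card_prod, M.card_grpW, hKc] at this
  have hV144 : Nat.card V = 144 := by
    have h1 := card_dvd_of_le hWV
    have h2 := card_dvd_of_le hKV
    rw [M.card_grpW] at h1; rw [hKc] at h2
    have h3 := Nat.Coprime.mul_dvd_of_dvd_of_dvd (by norm_num : Nat.Coprime 16 9) h1 h2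
    exact le_antisymm hVc (Nat.le_of_dvd Nat.card_pos h3)
  have hsylow : ∀ g ∈ sylB, ∀ (t : mB g g = 0),
      (∀ k ∈ K, ψ g * k * (ψ g)⁻¹ ∈ V) → ∃ u ∈ W, ∀ k ∈ K, u⁻¹ * (ψ g * k * (ψ g)⁻¹) * u ∈ K := by
    intro g _ _ hin
    set K' := K.map (MulAut.conj (ψ g)).toMonoidHom with hK'
    have hK'V : K' ≤ V := by rintro _ ⟨k, hk, rfl⟩; exact hin k hk
    have card9 : ∀ A : Subgroup G, A ≤ V → Nat.card A = 9 → Nat.card (A.subgroupOf V) =
        3 ^ (Nat.card V).factorization 3 := fun A hA hc => by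
      rw [Nat.card_congr (subgroupOfEquivOfLe hA).toEquiv, hc, hV144, show (144 : ℕ) = 3 ^ 2 * 16 by norm_num,
        Nat.factorization_mul (by norm_num) (by norm_num), Nat.Prime.factorization_pow Nat.prime_three]
      simp [Nat.factorization_eq_zero_of_not_dvd (show ¬ 3 ∣ 16 by norm_num)]
    let P₁ : Sylow 3 V := Sylow.ofCard (K.subgroupOf V) (card9 K hKV hKc)
    let P₂ : Sylow 3 V := Sylow.ofCard (K'.subgroupOf V) (card9 K' hK'V (by
      rw [hK', card_map_of_injective (MulAut.conj (ψ g)).injective, hKc]))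
    obtain ⟨n, hn⟩ := MulAction.exists_smul_eq V P₁ P₂
    obtain ⟨u, hu, k₁, hk₁, en⟩ := hVmem n n.2
    refine ⟨u, hu, fun k hk => ?_⟩
    have hm : (⟨_, hin k hk⟩ : V) ∈ (P₂ : Subgroup V) := mem_subgroupOf.2 ⟨k, hk, rfl⟩
    rw [← hn, Sylow.coe_subgroup_smul] at hm
    obtain ⟨k₂, hk₂, e⟩ := hm
    have hk₂' : (k₂ : G) ∈ K := mem_subgroupOf.1 hk₂
    have e' : (n : G) * k₂ * (n : G)⁻¹ = ψ g * k * (ψ g)⁻¹ := congrArg Subtype.val e
    rw [← e', en, show u⁻¹ * (u * k₁ * (k₂ : G) * (u * k₁)⁻¹) * u = k₁ * k₂ * k₁⁻¹ by group]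
    exact mul_mem (mul_mem hk₁ hk₂') (inv_mem hk₁)
  have hconj : ∀ g ∈ sylB, mB g g = 0 → ∀ k ∈ K, ψ g * k * (ψ g)⁻¹ ∈ V := by
    intro g hg hgs k hk
    obtain ⟨h3, t, ht, hact⟩ := hcube k hk
    set k' := ψ g * k * (ψ g)⁻¹
    have hgN : ψ g ∈ N := M.grpS_le_normalizer ⟨g, hg, rfl⟩
    have hk'N : k' ∈ N := mul_mem (mul_mem hgN (hKN hk)) (inv_mem hgN)
    obtain ⟨u, hu, hact'⟩ := D.hasAct_normalizer hk'N (by
      rw [conj_pow, show k ^ 9 = (k * k * k) * (k * k * k) * (k * k * k) by simp [pow_succ, mul_assoc], h3]; group)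
    obtain ⟨k₁, hk₁, hact₁⟩ := hall u hu
    have := mul_mem (hKV hk₁) (hWV (D.act_unique hact₁ hact'))
    rwa [mul_inv_cancel_left] at this
  obtain ⟨u, ⟨cu, hcu, rfl⟩, hu'⟩ := hsylow 4 h4 s4 (hconj 4 h4 s4)
  obtain ⟨v, ⟨cv, hcv, rfl⟩, hv'⟩ := hsylow 16 h16 s16 (hconj 16 h16 s16)
  have lW : ∀ {c}, c ∈ wB → c < 192 := fun h => (wB_facts.1.2 _ h).1
  have winv : ∀ {c}, c ∈ wB → (ψ c)⁻¹ = ψ c := fun h =>
    inv_eq_of_mul_eq_one_right (M.grpW_sq ⟨_, h, rfl⟩)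
  have triv : ∀ g ∈ W, (∀ k ∈ K, g * k * g⁻¹ ∈ K) → g = 1 := by
    rintro g ⟨c, hc, rfl⟩ hg
    have fixed : ∀ t ∈ nineActs, extB t c = c := fun t ht => by
      obtain ⟨k, hk, hact⟩ := hall t ht
      have h1 : ψ c * k * (ψ c)⁻¹ * k⁻¹ = 1 := hWK (mul_mem (hg k hk) (inv_mem hk)) (by
        rw [show ψ c * k * (ψ c)⁻¹ * k⁻¹ = ψ c * (k * (ψ c)⁻¹ * k⁻¹) by group]
        exact mul_mem ⟨c, hc, rfl⟩ ((mem_normalizer_iff.1 (hKN hk) _).1 (inv_mem ⟨c, hc, rfl⟩)))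
      refine M.inj _ (lW (nine_cube t ht c hc).1) _ (lW hc) ?_
      rw [← hact c hc]
      rw [mul_inv_eq_one, mul_inv_eq_iff_eq_mul] at h1
      rw [← h1, mul_inv_cancel_right]
    rw [hfix0 c hc (fixed _ hAm) (fixed _ hBm), M.one]
  set p := ψ cu * ψ 4 with hp
  set q := ψ cv * ψ 16 with hq
  have hpK : ∀ k ∈ K, p * k * p⁻¹ ∈ K := fun k hk => by
    have := hu' k hk
    rw [winv hcu] at this
    rwa [hp, show ψ cu * ψ 4 * k * (ψ cu * ψ 4)⁻¹ = ψ cu * (ψ 4 * k * (ψ 4)⁻¹) * (ψ cu)⁻¹ by group, winv hcu]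
  have hqK : ∀ k ∈ K, q * k * q⁻¹ ∈ K := fun k hk => by
    have := hv' k hk
    rw [winv hcv] at this
    rwa [hq, show ψ cv * ψ 16 * k * (ψ cv * ψ 16)⁻¹ = ψ cv * (ψ 16 * k * (ψ 16)⁻¹) * (ψ cv)⁻¹ by group, winv hcv]
  have hmod : ∀ {g c : ℕ}, g ∈ sylB → c ∈ wB → ψ g * ψ c * (ψ g)⁻¹ ∈ W := fun hg hc =>
    M.grpS_normalizes ⟨_, hg, rfl⟩ ⟨_, hc, rfl⟩
  have hpp : p * p = 1 := by
    refine triv _ ?_ fun k hk => ?_
    · rw [hp, show ψ cu * ψ 4 * (ψ cu * ψ 4) = ψ cu * (ψ 4 * ψ cu * (ψ 4)⁻¹) * (ψ 4 * ψ 4) by group,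
        (M.sq_iff (by norm_num)).2 s4, mul_one]
      exact mul_mem ⟨cu, hcu, rfl⟩ (hmod h4 hcu)
    · rw [show p * p * k * (p * p)⁻¹ = p * (p * k * p⁻¹) * p⁻¹ by group]
      exact hpK _ (hpK k hk)
  have hqq : q * q = 1 := by
    refine triv _ ?_ fun k hk => ?_
    · rw [hq, show ψ cv * ψ 16 * (ψ cv * ψ 16) = ψ cv * (ψ 16 * ψ cv * (ψ 16)⁻¹) * (ψ 16 * ψ 16) by group,
        (M.sq_iff (by norm_num)).2 s16, mul_one]
      exact mul_mem ⟨cv, hcv, rfl⟩ (hmod h16 hcv)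
    · rw [show q * q * k * (q * q)⁻¹ = q * (q * k * q⁻¹) * q⁻¹ by group]
      exact hqK _ (hqK k hk)
  have hpq : p * q = q * p := by
    have key : p * q * p⁻¹ * q⁻¹ = 1 := by
      refine triv _ ?_ fun k hk => ?_
      · have e : ψ 4 * ψ 16 = ψ 16 * ψ 4 := by
          rw [M.mul 4 (by norm_num) 16 (by norm_num), M.mul 16 (by norm_num) 4 (by norm_num), e20, e20']
        rw [hp, hq, show ψ cu * ψ 4 * (ψ cv * ψ 16) * (ψ cu * ψ 4)⁻¹ * (ψ cv * ψ 16)⁻¹ =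
          ψ cu * (ψ 4 * ψ cv * (ψ 4)⁻¹) * (ψ 4 * ψ 16 * (ψ 4)⁻¹ * (ψ cu)⁻¹ * (ψ 16)⁻¹) * (ψ cv)⁻¹ by group, e,
          mul_inv_cancel_right]
        exact mul_mem (mul_mem (mul_mem ⟨cu, hcu, rfl⟩ (hmod h4 hcv)) (M.grpS_normalizes ⟨16, h16, rfl⟩
          (inv_mem ⟨cu, hcu, rfl⟩))) (inv_mem ⟨cv, hcv, rfl⟩)
      · have hpi : p⁻¹ = p := inv_eq_of_mul_eq_one_right hpp
        have hqi : q⁻¹ = q := inv_eq_of_mul_eq_one_right hqq
        rw [show p * q * p⁻¹ * q⁻¹ * k * (p * q * p⁻¹ * q⁻¹)⁻¹ = p * (q * (p⁻¹ * (q⁻¹ * k * q⁻¹⁻¹) * p⁻¹⁻¹) * q⁻¹) * p⁻¹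
          by group]
        refine hpK _ (hqK _ ?_)
        rw [hpi, hqi]
        have h1 := hqK k hk
        rw [hqi] at h1
        have h2 := hpK _ h1
        rw [hpi] at h2
        simpa [hpi, hqi] using h2
    calc p * q = p * q * p⁻¹ * q⁻¹ * (q * p) := by group
      _ = q * p := by rw [key, one_mul]
  have eu : mB (mB cu 4) (mB cu 4) = 0 := by
    rw [← M.sq_iff (mB_lt _ (lW hcu) _ (by norm_num)), ← M.mul _ (lW hcu) 4 (by norm_num)]; exact hpp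
  have ev : mB (mB cv 16) (mB cv 16) = 0 := by
    rw [← M.sq_iff (mB_lt _ (lW hcv) _ (by norm_num)), ← M.mul _ (lW hcv) 16 (by norm_num)]; exact hqq
  have euv : comB (mB cu 4) (mB cv 16) = true := by
    rw [← M.comm_iff (mB_lt _ (lW hcu) _ (by norm_num)) (mB_lt _ (lW hcv) _ (by norm_num)),
      ← M.mul _ (lW hcu) 4 (by norm_num), ← M.mul _ (lW hcv) 16 (by norm_num)]
    exact hpq
  obtain ⟨w, hw, ew1, ew2⟩ := complement_check cu hcu cv hcv eu ev euv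
  have c1 : ψ w * ψ 4 * (ψ w)⁻¹ = p := by
    rw [M.conj (lW hw) (by norm_num), ew1, hp, M.mul _ (lW hcu) 4 (by norm_num)]
  have c2 : ψ w * ψ 16 * (ψ w)⁻¹ = q := by
    rw [M.conj (lW hw) (by norm_num), ew2, hq, M.mul _ (lW hcv) 16 (by norm_num)]
  -- the conjugated group
  set R := fun g : G => ψ w * g * (ψ w)⁻¹ ∈ K with hR
  have hR4 : ∀ g, R g → R (ψ 4 * g * (ψ 4)⁻¹) := fun g hg => by
    have := hpK _ hg
    rw [← c1] at this
    show ψ w * (ψ 4 * g * (ψ 4)⁻¹) * (ψ w)⁻¹ ∈ K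
    rwa [show ψ w * (ψ 4 * g * (ψ 4)⁻¹) * (ψ w)⁻¹ =
      ψ w * ψ 4 * (ψ w)⁻¹ * (ψ w * g * (ψ w)⁻¹) * (ψ w * ψ 4 * (ψ w)⁻¹)⁻¹ by group]
  have hR16 : ∀ g, R g → R (ψ 16 * g * (ψ 16)⁻¹) := fun g hg => by
    have := hqK _ hg
    rw [← c2] at this
    show ψ w * (ψ 16 * g * (ψ 16)⁻¹) * (ψ w)⁻¹ ∈ K
    rwa [show ψ w * (ψ 16 * g * (ψ 16)⁻¹) * (ψ w)⁻¹ =
      ψ w * ψ 16 * (ψ w)⁻¹ * (ψ w * g * (ψ w)⁻¹) * (ψ w * ψ 16 * (ψ w)⁻¹)⁻¹ by group]
  have hR20 : ∀ g, R g → R (ψ 20 * g * (ψ 20)⁻¹) := fun g hg => by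
    have := hR4 _ (hR16 g hg)
    rwa [show ψ 4 * (ψ 16 * g * (ψ 16)⁻¹) * (ψ 4)⁻¹ = ψ 4 * ψ 16 * g * (ψ 4 * ψ 16)⁻¹ by group,
      M.mul 4 (by norm_num) 16 (by norm_num), e20] at this
  have hRact : ∀ {g t}, HasAct ψ g t → t ∈ nineActs → HasAct ψ (ψ w * g * (ψ w)⁻¹) t := fun {g t} h ht c hc => by
    have cc : ∀ {d}, d ∈ wB → ψ w * ψ d * (ψ w)⁻¹ = ψ d := fun hd =>
      mul_inv_eq_iff_eq_mul.2 (M.grpW_comm ⟨w, hw, rfl⟩ ⟨_, hd, rfl⟩)
    calc ψ w * g * (ψ w)⁻¹ * ψ c * (ψ w * g * (ψ w)⁻¹)⁻¹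
        = ψ w * (g * ((ψ w)⁻¹ * ψ c * ψ w) * g⁻¹) * (ψ w)⁻¹ := by group
      _ = ψ w * (g * ψ c * g⁻¹) * (ψ w)⁻¹ := by
          rw [show (ψ w)⁻¹ * ψ c * ψ w = ψ c by rw [mul_assoc, ← M.grpW_comm ⟨w, hw, rfl⟩ ⟨c, hc, rfl⟩,
            inv_mul_cancel_left]]
      _ = _ := by rw [h c hc, cc (nine_cube t ht c hc).1]
  have huniq : ∀ {g g' t}, t ∈ nineActs → R g → R g' → HasAct ψ g t → HasAct ψ g' t → g = g' := by
    intro g g' t ht hg hg' h h'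
    have e := inv_mul_eq_one.1 (hWK (mul_mem (inv_mem hg) hg') (D.act_unique (hRact h ht) (hRact h' ht)))
    exact mul_left_cancel (mul_right_cancel e)
  have hget : ∀ t ∈ nineActs, ∃ g, R g ∧ g * g * g = 1 ∧ HasAct ψ g t := by
    intro t ht
    obtain ⟨k, hk, hact⟩ := hall t ht
    refine ⟨(ψ w)⁻¹ * k * ψ w, by simpa [hR, mul_assoc] using hk, ?_, ?_⟩
    · rw [show (ψ w)⁻¹ * k * ψ w * ((ψ w)⁻¹ * k * ψ w) * ((ψ w)⁻¹ * k * ψ w) = (ψ w)⁻¹ * (k * k * k) * ψ w by group,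
        (hcube k hk).1]
      group
    · have := hRact hact ht
      rwa [winv hw] at this ⊢
  obtain ⟨ka, rka, a3, aA⟩ := hget _ hAm
  obtain ⟨kb, rkb, b3, bB⟩ := hget _ hBm
  have n4 : ψ 4 * ψ 4 = 1 := (M.sq_iff (by norm_num)).2 s4
  have n20 : ψ 20 * ψ 20 = 1 := (M.sq_iff (by norm_num)).2 s20
  have ainv : ka⁻¹ = ka * ka := inv_eq_of_mul_eq_one_right (by rw [← mul_assoc, a3])
  have binv : kb⁻¹ = kb * kb := inv_eq_of_mul_eq_one_right (by rw [← mul_assoc, b3])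
  obtain ⟨f1, f2, f3, f4⟩ := conj_facts
  have ma := fun c hc => (nine_cube _ hAm c hc).1
  have mb := fun c hc => (nine_cube _ hBm c hc).1
  refine ⟨ka, kb, a3, b3, ?_, aA, bB, ?_, ?_, ?_, ?_⟩
  · have := hKcomm _ rka _ rkb
    exact mul_left_cancel (mul_right_cancel (show ψ w * (ka * kb) * (ψ w)⁻¹ = ψ w * (kb * ka) * (ψ w)⁻¹ by
      rw [show ψ w * (ka * kb) * (ψ w)⁻¹ = ψ w * ka * (ψ w)⁻¹ * (ψ w * kb * (ψ w)⁻¹) by group, this]; group))
  · refine mul_inv_eq_iff_eq_mul.1 (huniq hAm (hR4 _ rka) rka (fun c hc => ?_) aA)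
    rw [D.code_act h4 aA s4 ma c hc, f1 c hc]
  · refine mul_inv_eq_iff_eq_mul.1 (huniq hBm (hR20 _ rkb) rkb (fun c hc => ?_) bB)
    rw [D.code_act h20 bB s20 mb c hc, f2 c hc]
  · refine eq_inv_of_mul_eq_one_right ?_
    have hr := hR20 _ rka
    rw [inv_eq_of_mul_eq_one_right n20] at hr
    refine D.trivial_of h20 s20 aA ma f3 ?_
    intro hmW
    have : ψ w * (ka * (ψ 20 * ka * ψ 20)) * (ψ w)⁻¹ = 1 := hWK (by
      rw [show ψ w * (ka * (ψ 20 * ka * ψ 20)) * (ψ w)⁻¹ =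
        ψ w * ka * (ψ w)⁻¹ * (ψ w * (ψ 20 * ka * ψ 20) * (ψ w)⁻¹) by group]
      exact mul_mem rka hr) (by
      exact mul_mem (mul_mem ⟨w, hw, rfl⟩ hmW) (inv_mem ⟨w, hw, rfl⟩))
    exact conj_eq_one_iff.1 this
  · refine eq_inv_of_mul_eq_one_right ?_
    have hr := hR4 _ rkb
    rw [inv_eq_of_mul_eq_one_right n4] at hr
    refine D.trivial_of h4 s4 bB mb f4 ?_
    intro hmW
    have : ψ w * (kb * (ψ 4 * kb * ψ 4)) * (ψ w)⁻¹ = 1 := hWK (by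
      rw [show ψ w * (kb * (ψ 4 * kb * ψ 4)) * (ψ w)⁻¹ =
        ψ w * kb * (ψ w)⁻¹ * (ψ w * (ψ 4 * kb * ψ 4) * (ψ w)⁻¹) by group]
      exact mul_mem rkb hr) (by
      exact mul_mem (mul_mem ⟨w, hw, rfl⟩ hmW) (inv_mem ⟨w, hw, rfl⟩))
    exact conj_eq_one_iff.1 this

end BStd

end CfsgLib.Spor.ExtraSymThree
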