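import Cfsg.Agent.Lib.Spor.ExtraSymThree.BData

/-!
# A centralizer of the second type with the table
-/

set_option autoImplicit false
set_option maxRecDepth 100000
set_option linter.unusedSectionVars false

namespace CfsgLib.Spor.ExtraSymThree

open Subgroup

/-- A group with these codes as the centralizer. -/
structure BModel {G : Type*} [Group G] (s : G) (ψ : ℕ → G) : Prop where
  ord : orderOf s = 2
  mem : ∀ c < 192, ψ c ∈ centralizer ({s} : Set G)
  mul : ∀ c < 192, ∀ d < 192, ψ c * ψ d = ψ (mB c d)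
  inj : ∀ c < 192, ∀ d < 192, ψ c = ψ d → c = d
  surj : ∀ g ∈ centralizer ({s} : Set G), ∃ c < 192, ψ c = g
  at_s : ψ 1 = s

/-- A list of codes closed under the operations. -/
def ClosedB (L : List ℕ) : Prop :=
  0 ∈ L ∧ ∀ c ∈ L, c < 192 ∧ invB c ∈ L ∧ ∀ d ∈ L, mB c d ∈ L

noncomputable instance (L : List ℕ) : Decidable (ClosedB L) := inferInstanceAs (Decidable (_ ∧ _))

theorem mB_lt : ∀ c < 192, ∀ d < 192, mB c d < 192 := fun c hc d hd => mB_eq c hc d hd ▸ lMul_lt hc hd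

theorem invB_spec : ∀ c < 192, invB c < 192 ∧ mB c (invB c) = 0 ∧ mB (invB c) c = 0 := by decide +kernel

theorem cjB_lt {g c : ℕ} (hg : g < 192) (hc : c < 192) : cjB g c < 192 :=
  mB_lt _ (mB_lt _ hg _ hc) _ (invB_spec g hg).1

theorem mB_zero : mB 0 0 = 0 := by decide +kernel

theorem one_central : ∀ c < 192, mB c 1 = mB 1 c := by decide +kernel

theorem inv_cover : ∀ c < 192, mB c c = 0 → c = 0 ∨ c = 1 ∨ ∃ r ∈ bReps, c ∈ clsB r := by decide +kernel

theorem cls_spec : ∀ r ∈ bReps, r < 192 ∧ r ∈ clsB r ∧ ∀ c ∈ clsB r, c < 192 ∧ c ≠ 0 ∧ c ≠ 1 ∧ mB c c = 0 ∧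
    ∃ k < 192, cjB k r = c := by decide +kernel

/-- A centralizer of the second type in the table form. -/
theorem LModel.toBModel {G : Type*} [Group G] {s : G} {ψ : ℕ → G} (M : LModel false false s ψ) : BModel s ψ where
  ord := M.ord
  mem := M.mem
  mul c hc d hd := by rw [M.mul c hc d hd, mB_eq c hc d hd]
  inj := M.inj
  surj := M.surj
  at_s := M.at_s

theorem auto_spec : ∀ i < 6, (∀ c < 192, autoB i c < 192 ∧ autoB i (autoB i c) = c) ∧ autoB i 0 = 0 ∧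
    autoB i 1 = 1 := by decide +kernel

/-- Generators of the centralizer. -/
def bGens : List ℕ := [1, 2, 4, 8, 16, 32, 96]

theorem auto_gens : ∀ i < 6, ∀ c < 192, ∀ g ∈ bGens, autoB i (mB c g) = mB (autoB i c) (autoB i g) := by
  decide +kernel

theorem gens_reach : ∀ d < 192, d ≠ 0 → ∃ g ∈ bGens, g < 192 ∧ mB d (invB g) < d ∧ mB (mB d (invB g)) g = d := by
  decide +kernel

namespace BModel

variable {G : Type*} [Group G] {s : G} {ψ : ℕ → G} (M : BModel s ψ)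
include M

theorem one : ψ 0 = 1 := by
  have h := M.mul 0 (by norm_num) 0 (by norm_num)
  rw [mB_zero] at h
  exact mul_eq_left.1 h

theorem eq_one_iff {c : ℕ} (hc : c < 192) : ψ c = 1 ↔ c = 0 :=
  ⟨fun h => M.inj c hc 0 (by norm_num) (h.trans M.one.symm), fun h => h ▸ M.one⟩

theorem inv {c : ℕ} (hc : c < 192) : (ψ c)⁻¹ = ψ (invB c) := by
  obtain ⟨l, h, -⟩ := invB_spec c hc
  exact inv_eq_of_mul_eq_one_right (by rw [M.mul c hc _ l, h, M.one])

theorem conj {g c : ℕ} (hg : g < 192) (hc : c < 192) : ψ g * ψ c * (ψ g)⁻¹ = ψ (cjB g c) := by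
  rw [M.inv hg, M.mul g hg c hc, M.mul _ (mB_lt _ hg _ hc) _ (invB_spec g hg).1]
  rfl

theorem comm_iff {c d : ℕ} (hc : c < 192) (hd : d < 192) : ψ c * ψ d = ψ d * ψ c ↔ comB c d = true := by
  rw [M.mul c hc d hd, M.mul d hd c hc, comB, beq_iff_eq]
  exact ⟨fun h => M.inj _ (mB_lt _ hc _ hd) _ (mB_lt _ hd _ hc) h, fun h => h ▸ rfl⟩

theorem s_ne : s ≠ 1 := fun h => by simpa [h] using M.ord

theorem ss : s * s = 1 := by rw [← sq, ← M.ord, pow_orderOf_eq_one]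

theorem comm_s {c : ℕ} (hc : c < 192) : ψ c * s = s * ψ c := mem_centralizer_singleton_iff.1 (M.mem c hc)

theorem code_of_comm {g : G} (h : g * s = s * g) : ∃ c < 192, ψ c = g :=
  M.surj g (mem_centralizer_singleton_iff.2 h)

theorem sq_iff {c : ℕ} (hc : c < 192) : ψ c * ψ c = 1 ↔ mB c c = 0 := by
  rw [M.mul c hc c hc, M.eq_one_iff (mB_lt c hc c hc)]

theorem code_ne {r c : ℕ} (hr : r ∈ bReps) (hc : c ∈ clsB r) : ψ c ≠ 1 ∧ ψ c * ψ c = 1 := by
  obtain ⟨l, h0, -, h2, -⟩ := (cls_spec r hr).2.2 c hc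
  exact ⟨fun h => h0 ((M.eq_one_iff l).1 h), (M.sq_iff l).2 h2⟩

theorem inv_code {x : G} (h : x * s = s * x) (hx : x * x = 1) (hx1 : x ≠ 1) :
    x = s ∨ ∃ r ∈ bReps, ∃ c ∈ clsB r, ψ c = x := by
  obtain ⟨c, hc, rfl⟩ := M.code_of_comm h
  rcases inv_cover c hc ((M.sq_iff hc).1 hx) with rfl | rfl | ⟨r, hr, h'⟩
  · exact absurd M.one hx1
  · exact Or.inl M.at_s
  · exact Or.inr ⟨r, hr, c, h', rfl⟩

theorem isConj_cls {r c : ℕ} (hr : r ∈ bReps) (hc : c ∈ clsB r) : IsConj (ψ r) (ψ c) := by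
  obtain ⟨hl, -, -, -, k, hk, e⟩ := (cls_spec r hr).2.2 c hc
  exact isConj_iff.2 ⟨ψ k, by rw [M.conj hk (cls_spec r hr).1, e]⟩

theorem card [Finite G] : Nat.card (centralizer ({s} : Set G)) = 192 := by
  let f : Fin 192 → centralizer ({s} : Set G) := fun c => ⟨ψ c, M.mem c c.isLt⟩
  have hf : Function.Bijective f := by
    refine ⟨fun c d e => Fin.ext (M.inj c c.isLt d d.isLt (congrArg Subtype.val e)), fun g => ?_⟩
    obtain ⟨c, hc, e⟩ := M.surj g g.2
    exact ⟨⟨c, hc⟩, Subtype.ext e⟩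
  rw [← Nat.card_eq_of_bijective f hf, Nat.card_fin]

/-- The subgroup of a closed list of codes. -/
def sub (L : List ℕ) (hL : ClosedB L) : Subgroup G where
  carrier := ψ '' {c | c ∈ L}
  one_mem' := ⟨0, hL.1, M.one⟩
  mul_mem' := by
    rintro _ _ ⟨c, hc, rfl⟩ ⟨d, hd, rfl⟩
    exact ⟨mB c d, (hL.2 c hc).2.2 d hd, (M.mul c (hL.2 c hc).1 d (hL.2 d hd).1).symm⟩
  inv_mem' := by
    rintro _ ⟨c, hc, rfl⟩
    exact ⟨invB c, (hL.2 c hc).2.1, (M.inv (hL.2 c hc).1).symm⟩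

theorem mem_sub {L : List ℕ} (hL : ClosedB L) {g : G} : g ∈ M.sub L hL ↔ ∃ c ∈ L, ψ c = g := Iff.rfl

theorem code_mem_sub {L : List ℕ} (hL : ClosedB L) {c : ℕ} (hc : c < 192) : ψ c ∈ M.sub L hL ↔ c ∈ L :=
  ⟨fun ⟨d, hd, e⟩ => M.inj d (hL.2 d hd).1 c hc e ▸ hd, fun h => ⟨c, h, rfl⟩⟩

theorem card_sub (L : List ℕ) (hL : ClosedB L) (hn : L.Nodup) : Nat.card (M.sub L hL) = L.length := by
  classical
  let f : {c // c ∈ L.toFinset} → M.sub L hL := fun c => ⟨ψ c, c, List.mem_toFinset.1 c.2, rfl⟩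
  have hf : Function.Bijective f := by
    refine ⟨fun c d e => Subtype.ext (M.inj c (hL.2 c (List.mem_toFinset.1 c.2)).1 d
      (hL.2 d (List.mem_toFinset.1 d.2)).1 (congrArg Subtype.val e)), fun g => ?_⟩
    obtain ⟨c, hc, e⟩ := g.2
    exact ⟨⟨c, List.mem_toFinset.2 hc⟩, Subtype.ext e⟩
  rw [← Nat.card_eq_of_bijective f hf, Nat.card_eq_fintype_card, Fintype.card_coe, List.toFinset_card_of_nodup hn]

theorem auto_hom {i : ℕ} (hi : i < 6) : ∀ d < 192, ∀ c < 192, ψ (autoB i (mB c d)) = ψ (autoB i c) * ψ (autoB i d) := by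
  obtain ⟨hl, h0, -⟩ := auto_spec i hi
  intro d
  induction d using Nat.strong_induction_on with
  | _ d ih =>
    intro hd c hc
    rcases eq_or_ne d 0 with rfl | hd0
    · have e : mB c 0 = c := M.inj _ (mB_lt c hc 0 hd) c hc (by rw [← M.mul c hc 0 hd, M.one, mul_one])
      rw [e, h0, M.one, mul_one]
    obtain ⟨g, hg, hgl, hlt, e⟩ := gens_reach d hd hd0
    set d' := mB d (invB g)
    have hd' : d' < 192 := by omega
    have key : ∀ x, x < 192 → ψ (autoB i (mB x g)) = ψ (autoB i x) * ψ (autoB i g) := fun x hx => by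
      rw [auto_gens i hi x hx g hg, M.mul _ (hl x hx).1 _ (hl g hgl).1]
    have e' : mB c d = mB (mB c d') g := by
      refine M.inj _ (mB_lt c hc d hd) _ (mB_lt _ (mB_lt c hc d' hd') g hgl) ?_
      rw [← M.mul c hc d hd, ← M.mul _ (mB_lt c hc d' hd') g hgl, ← M.mul c hc d' hd', mul_assoc, M.mul d' hd' g hgl, e]
    rw [e', key _ (mB_lt c hc d' hd'), ih d' hlt hd' c hc, mul_assoc, ← key d' hd', e]

theorem relabelled {i : ℕ} (hi : i < 6) : BModel s fun c => ψ (autoB i c) := by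
  obtain ⟨hl, -, h1⟩ := auto_spec i hi
  refine ⟨M.ord, fun c hc => M.mem _ (hl c hc).1, fun c hc d hd => (M.auto_hom hi d hd c hc).symm,
    fun c hc d hd e => ?_, fun g hg => ?_, ?_⟩
  · rw [← (hl c hc).2, M.inj _ (hl c hc).1 _ (hl d hd).1 e, (hl d hd).2]
  · obtain ⟨c, hc, rfl⟩ := M.surj g hg
    exact ⟨_, (hl c hc).1, by simp [(hl c hc).2]⟩
  · rw [h1, M.at_s]

end BModel

end CfsgLib.Spor.ExtraSymThree
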