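import Cfsg.Agent.Lib.Spor.ExtraSymThree.BFive
import Cfsg.Agent.Lib.Lie.BoundedPres.Carmichael
import Mathlib.GroupTheory.Perm.Subgroup

/-!
# The alternating group of degree nine in the group
-/

set_option autoImplicit false
set_option maxRecDepth 100000
set_option linter.unusedSectionVars false

namespace CfsgLib.Spor.ExtraSymThree

open Subgroup CfsgLib.Lie.BoundedPres

/-- The conditions on the third element of order three. -/
abbrev ThirdCyc {A : Type*} [Group A] (a b e : A) : Prop :=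
  e * e * e = 1 ∧ e ≠ a ∧ e ≠ b ∧ e * a ≠ 1 ∧ e * b ≠ 1 ∧ e * a * (e * a) = 1 ∧ e * b * (e * b) = 1

set_option synthInstance.maxSize 4096 in
theorem five_cycles : ∀ a : alternatingGroup (Fin 5), a * a * a = 1 → a ≠ 1 →
    ∀ b : alternatingGroup (Fin 5), b * b * b = 1 → b ≠ 1 → a ≠ b → a * b ≠ 1 → a * b * (a * b) = 1 →
    ∃ e, ThirdCyc a b e ∧ (∀ e', ThirdCyc a b e' → e' = e) ∧
      [1, a, b, a * a, a * b, b * a, b * b, a * a * b, a * b * b, b * a * a, b * b * a, a * b * b * a, e].Nodup := by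
  decide +kernel

theorem five_invols : ∀ u : alternatingGroup (Fin 5), u * u = 1 → u ≠ 1 →
    ∀ v : alternatingGroup (Fin 5), v * v = 1 → v ≠ 1 → ∃ g, g * u * g⁻¹ = v := by decide +kernel

theorem five_full {a b e : alternatingGroup (Fin 5)}
    (h : [1, a, b, a * a, a * b, b * a, b * b, a * a * b, a * b * b, b * a * a, b * b * a, a * b * b * a, e].Nodup) :
    closure ({a, b, e} : Set (alternatingGroup (Fin 5))) = ⊤ := by
  classical
  set K := closure ({a, b, e} : Set (alternatingGroup (Fin 5)))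
  by_contra hne
  have ha : a ∈ K := subset_closure (by simp)
  have hb : b ∈ K := subset_closure (by simp)
  have he : e ∈ K := subset_closure (by simp)
  set l := [1, a, b, a * a, a * b, b * a, b * b, a * a * b, a * b * b, b * a * a, b * b * a, a * b * b * a, e] with hl
  have hsub : ∀ x ∈ l, x ∈ K := by
    intro x hx
    simp only [hl, List.mem_cons, List.not_mem_nil, or_false] at hx
    rcases hx with rfl | rfl | rfl | rfl | rfl | rfl | rfl | rfl | rfl | rfl | rfl | rfl | rfl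
    exacts [one_mem _, ha, hb, mul_mem ha ha, mul_mem ha hb, mul_mem hb ha, mul_mem hb hb,
      mul_mem (mul_mem ha ha) hb, mul_mem (mul_mem ha hb) hb, mul_mem (mul_mem hb ha) ha,
      mul_mem (mul_mem hb hb) ha, mul_mem (mul_mem (mul_mem ha hb) hb) ha, he]
  have h13 : 13 ≤ Nat.card K := by
    have := Nat.card_le_card_of_injective (fun x : {x // x ∈ l.toFinset} => (⟨x.1, hsub _ (List.mem_toFinset.1 x.2)⟩ : K))
      fun x y e => Subtype.ext (congrArg Subtype.val e :)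
    rw [Nat.card_eq_fintype_card, Fintype.card_coe, List.toFinset_card_of_nodup h, hl] at this
    exact this
  have h60 : Nat.card (alternatingGroup (Fin 5)) = 60 := by
    rw [Nat.card_eq_fintype_card]; decide +kernel
  have hi : K.index ≤ 4 := by
    have h := K.card_mul_index
    rw [h60] at h
    by_contra h'
    have := Nat.mul_le_mul h13 (show 5 ≤ K.index by omega)
    omega
  haveI : IsSimpleGroup (alternatingGroup (Fin 5)) := alternatingGroup.isSimpleGroup (by simp)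
  have hcore : K.normalCore = ⊥ := (IsSimpleGroup.eq_bot_or_eq_top_of_normal K.normalCore inferInstance).resolve_right
    fun h => hne (eq_top_iff.2 (h ▸ K.normalCore_le))
  have hinj : Function.Injective (MulAction.toPermHom (alternatingGroup (Fin 5)) (alternatingGroup (Fin 5) ⧸ K)) :=
    (MonoidHom.ker_eq_bot_iff _).1 (by rw [← normalCore_eq_ker, hcore])
  have := Nat.card_le_card_of_injective _ hinj
  rw [h60, Nat.card_perm, ← index_eq_card] at this
  have := this.trans (Nat.factorial_le hi)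
  norm_num [Nat.factorial] at this

set_option synthInstance.maxSize 4096 in
theorem nine_facts :
    (∀ i : Fin 6, 4 ≤ i.1 → cyc i * codeEight 8 = codeEight 8 * cyc i ∧ cyc i * codeEight 96 = codeEight 96 * cyc i) ∧
    (∀ c ∈ vFour, cjB 17 c ∈ vFour ∧ cyc (4 : Fin 6) ≠ codeEight c ∧ cyc (5 : Fin 6) ≠ codeEight c ∧
      (cyc (4 : Fin 6))⁻¹ * cyc 5 ≠ codeEight c ∧ cyc (4 : Fin 6) * cyc 5 ≠ codeEight c) ∧
    (mB 17 17 = 0 ∧ cjB 17 8 = 8 ∧ cjB 17 96 = 104 ∧ cjB 34 8 = 17 ∧ cjB 34 96 = 164) ∧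
    (codeEight 17 * cyc (4 : Fin 6) * (codeEight 17)⁻¹ = cyc 5 ∧
      codeEight 17 * cyc (5 : Fin 6) * (codeEight 17)⁻¹ = cyc 4) ∧
    codeEight 164 * cyc (4 : Fin 6) * (codeEight 164)⁻¹ = cyc 0 ∧
    codeEight 164 * cyc (5 : Fin 6) * (codeEight 164)⁻¹ = cyc 1 ∧
    codeEight 96 * cyc (0 : Fin 6) * (codeEight 96)⁻¹ = cyc 2 ∧
    codeEight 96 * cyc (1 : Fin 6) * (codeEight 96)⁻¹ = cyc 3 := by decide +kernel

theorem cube_unique {G : Type*} [Group G] {d e : G} (hd : d * d * d = 1) (he : e * e * e = 1)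
    (hv : e⁻¹ * d * (e⁻¹ * d) = 1) (hc : e * (e⁻¹ * d) = e⁻¹ * d * e) : d = e := by
  set v := e⁻¹ * d with hv'
  have h : d = e * v := by rw [hv']; group
  have : v = 1 := by
    calc v = e * e * e * (v * (v * v)) := by rw [he, hv, one_mul, mul_one]
      _ = (e * v) * (e * v) * (e * v) := by
        have h1 : Commute e v := hc
        have h2 := h1.mul_pow 3
        simp only [pow_succ, pow_zero, one_mul, ← mul_assoc] at h2 ⊢
        exact h2.symm
      _ = 1 := by rw [← h, hd]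
  rw [h, this, mul_one]

namespace BEmb

variable {G : Type*} [Group G] [Finite G] {s : G} {ψ : ℕ → G} {ka kb : G} {f : alternatingGroup (Pt 6) →* G}
  (E : BEmb s ψ ka kb f)
include E

theorem conj_code {g x : ℕ} (hg : g < 192) (hx : x < 192) (h : cjB g x < 192) :
    ψ g * ψ x * (ψ g)⁻¹ = ψ (cjB g x) := by rw [E.std.model.conj hg hx]

theorem conj_cent {y g : G} (h8 : y * ψ 8 * y⁻¹ = ψ 8) (h96 : y * ψ 96 * y⁻¹ = ψ 104) (hg : g ∈ centFour ψ) :
    y * g * y⁻¹ ∈ centFour ψ := by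
  obtain ⟨g8, g96⟩ := mem_centFour.1 hg
  have M := E.std.model
  have g104 : g * ψ 104 = ψ 104 * g := by
    rw [← cv_codes.2.1, ← M.mul 8 (by norm_num) 96 (by norm_num), ← mul_assoc, g8, mul_assoc, g96, ← mul_assoc]
  have c8 : y * g * y⁻¹ * ψ 8 = ψ 8 * (y * g * y⁻¹) := by
    calc y * g * y⁻¹ * ψ 8 = y * g * y⁻¹ * (y * ψ 8 * y⁻¹) := by rw [h8]
      _ = y * (g * ψ 8) * y⁻¹ := by group
      _ = y * ψ 8 * y⁻¹ * (y * g * y⁻¹) := by rw [g8]; group
      _ = _ := by rw [h8]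
  have c104 : y * g * y⁻¹ * ψ 104 = ψ 104 * (y * g * y⁻¹) := by
    calc y * g * y⁻¹ * ψ 104 = y * g * y⁻¹ * (y * ψ 96 * y⁻¹) := by rw [h96]
      _ = y * (g * ψ 96) * y⁻¹ := by group
      _ = y * ψ 96 * y⁻¹ * (y * g * y⁻¹) := by rw [g96]; group
      _ = _ := by rw [h96]
  refine mem_centFour.2 ⟨c8, ?_⟩
  rw [show ψ 96 = ψ 8 * ψ 104 by
    rw [← cv_codes.2.1, ← M.mul 8 (by norm_num) 96 (by norm_num), ← mul_assoc, E.v_sq, one_mul],
    ← mul_assoc, c8, mul_assoc, c104, ← mul_assoc]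

theorem nine_or_le : centFour ψ ≤ f.range ∨ ∃ φ : alternatingGroup (Pt 7) →* G,
    Function.Injective φ ∧ f.range ≤ φ.range ∧ centFour ψ ≤ φ.range := by
  classical
  rcases E.five_or_le with h | ⟨⟨iq⟩⟩
  · exact Or.inl h
  by_cases hle : centFour ψ ≤ f.range
  · exact Or.inl hle
  right
  have M := E.std.model
  obtain ⟨hcom, hV, ⟨h1717, h178, h1796, h348, h3496⟩, ⟨hy45, hy54⟩, hm0, hm1, hm2, hm3⟩ := nine_facts
  have hf : ∀ c < 192, f (codeEight c) = ψ c := E.code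
  set X : Fin 6 → G := fun i => f (cyc i) with hX
  have hXm : ∀ i : Fin 6, 4 ≤ i.1 → X i ∈ centFour ψ := fun i hi => by
    refine mem_centFour.2 ⟨?_, ?_⟩
    · rw [← hf 8 (by norm_num), hX, ← map_mul, (hcom i hi).1, map_mul]
    · rw [← hf 96 (by norm_num), hX, ← map_mul, (hcom i hi).2, map_mul]
  have h4 := hXm 4 (by decide)
  have h5 := hXm 5 (by decide)
  set pr : centFour ψ →* E.quotFour := QuotientGroup.mk' _ with hpr
  set q : centFour ψ →* alternatingGroup (Fin 5) := iq.toMonoidHom.comp pr with hq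
  have hq1 : ∀ g : centFour ψ, q g = 1 ↔ (g : G) ∈ E.grpV := fun g => by
    show iq (pr g) = 1 ↔ _
    rw [MulEquiv.map_eq_one_iff]
    exact E.quot_eq_one
  have hqs : Function.Surjective q := iq.surjective.comp (QuotientGroup.mk'_surjective _)
  have hqe : ∀ g h : centFour ψ, q g = q h ↔ (g : G)⁻¹ * h ∈ E.grpV := fun g h => by
    rw [← inv_mul_eq_one, ← map_inv, ← map_mul, hq1]
    rfl
  have nV : ∀ p : alternatingGroup (Pt 6), (∀ c ∈ vFour, p ≠ codeEight c) → f p ∉ E.grpV := by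
    rintro p hp ⟨c, hc, e⟩
    exact hp c hc (E.inj (by rw [hf c (five_facts.1.2 c hc).1, e]))
  set a := q ⟨X 4, h4⟩ with ha
  set b := q ⟨X 5, h5⟩ with hb
  have ha1 : a ≠ 1 := fun h => nV _ (fun c hc => (hV c hc).2.1) ((hq1 _).1 h)
  have hb1 : b ≠ 1 := fun h => nV _ (fun c hc => (hV c hc).2.2.1) ((hq1 _).1 h)
  have hab : a ≠ b := fun h => nV _ (fun c hc => (hV c hc).2.2.2.1) (by
    rw [map_mul, map_inv]; exact (hqe _ _).1 h)
  have hab1 : a * b ≠ 1 := fun h => nV _ (fun c hc => (hV c hc).2.2.2.2) (by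
    rw [map_mul]; rw [ha, hb, ← map_mul] at h; exact (hq1 _).1 h)
  have cube : ∀ i : Fin 6, X i * X i * X i = 1 := fun i => by
    rw [hX, ← map_mul, ← map_mul, ← pow_two, ← pow_succ, cyc_cube, map_one]
  have pair : ∀ i j : Fin 6, i ≠ j → X i * X j * (X i * X j) = 1 := fun i j h => by
    rw [hX, ← map_mul, ← map_mul, ← pow_two, cyc_pair h, map_one]
  have ha3 : a * a * a = 1 := by
    rw [ha, ← map_mul, ← map_mul, show (⟨X 4, h4⟩ * ⟨X 4, h4⟩ * ⟨X 4, h4⟩ : centFour ψ) = 1 from Subtype.ext (cube 4),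
      map_one]
  have hb3 : b * b * b = 1 := by
    rw [hb, ← map_mul, ← map_mul, show (⟨X 5, h5⟩ * ⟨X 5, h5⟩ * ⟨X 5, h5⟩ : centFour ψ) = 1 from Subtype.ext (cube 5),
      map_one]
  have hab2 : a * b * (a * b) = 1 := by
    rw [ha, hb, ← map_mul, ← map_mul,
      show (⟨X 4, h4⟩ * ⟨X 5, h5⟩ * (⟨X 4, h4⟩ * ⟨X 5, h5⟩) : centFour ψ) = 1 from Subtype.ext (pair 4 5 (by decide)),
      map_one]
  obtain ⟨eb, ⟨heb3, hea, heb, heA, heB, hsqA, hsqB⟩, huniq, hnd⟩ := five_cycles a ha3 ha1 b hb3 hb1 hab hab1 hab2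
  -- the lift of order three
  obtain ⟨e0, he0⟩ := hqs eb
  set e : centFour ψ := e0 * e0 * (e0 * e0) with he
  have hqe' : q e = eb := by
    rw [he, map_mul, map_mul, he0, ← mul_assoc, heb3, one_mul]
  have hVsq : ∀ v ∈ E.grpV, v * v = 1 := by
    rintro _ ⟨c, hc, rfl⟩
    exact M.grpW_sq ⟨c, (five_facts.2.2.1 c hc).1, rfl⟩
  have he3 : (e : G) * e * e = 1 := by
    have hv : ((e0 * e0 * e0 : centFour ψ) : G) ∈ E.grpV := (hq1 _).1 (by rw [map_mul, map_mul, he0, heb3])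
    have h2 := hVsq _ hv
    simp only [he, Subgroup.coe_mul] at h2 ⊢
    calc (e0 : G) * e0 * (e0 * e0) * (e0 * e0 * (e0 * e0)) * (e0 * e0 * (e0 * e0)) =
          (e0 * e0 * e0 * (e0 * e0 * e0)) * (e0 * e0 * e0 * (e0 * e0 * e0)) := by group
      _ = 1 := by rw [h2, mul_one]
  clear_value e
  have uniq : ∀ d : centFour ψ, (d : G) * d * d = 1 → q d = eb → (d : G) = e := fun d hd hde => by
    have hv : (e : G)⁻¹ * d ∈ E.grpV := (hqe _ _).1 (by rw [hde, hqe'])
    exact cube_unique hd he3 (hVsq _ hv) (E.grpV_central hv e.2)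
  -- products with the cycles are involutions
  have hsq : ∀ (x : G) (hx : x ∈ centFour ψ), eb * q ⟨x, hx⟩ * (eb * q ⟨x, hx⟩) = 1 → eb * q ⟨x, hx⟩ ≠ 1 →
      (e : G) * x * ((e : G) * x) = 1 := by
    intro x hx h2 h1
    have h9W : ψ 9 ∈ M.grpW := ⟨9, (five_facts.2.2.2.2.1 9 (by decide)).1, rfl⟩
    have h9 : q ⟨ψ 9, E.grpW_le_centFour h9W⟩ ≠ 1 := fun h => by
      obtain ⟨c, hc, e'⟩ := (hq1 _).1 h
      have hl := (five_facts.1.2 c hc).1
      have := M.inj c hl 9 (by norm_num) e'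
      subst this
      exact (by decide : (9 : ℕ) ∉ vFour) hc
    have h92 : q ⟨ψ 9, E.grpW_le_centFour h9W⟩ * q ⟨ψ 9, E.grpW_le_centFour h9W⟩ = 1 := by
      rw [← map_mul]; exact (hq1 _).2 (by rw [Subgroup.coe_mul, M.grpW_sq h9W]; exact one_mem _)
    obtain ⟨g0, hg0⟩ := five_invols _ h92 h9 _ h2 h1
    obtain ⟨g, rfl⟩ := hqs g0
    rw [← hqe', ← map_inv, ← map_mul, ← map_mul, ← map_mul, hqe] at hg0
    simp only [Subgroup.coe_mul, Subgroup.coe_inv] at hg0
    set v := ((g : G) * ψ 9 * (g : G)⁻¹)⁻¹ * ((e : G) * x) with hv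
    have hvc := E.grpV_central hg0 g.2
    have heq : (e : G) * x = g * (ψ 9 * v) * (g : G)⁻¹ := by
      calc (e : G) * x = g * ψ 9 * (g : G)⁻¹ * v := by rw [hv]; group
        _ = g * ψ 9 * (g : G)⁻¹ * (v * g) * (g : G)⁻¹ := by group
        _ = g * ψ 9 * (g : G)⁻¹ * (g * v) * (g : G)⁻¹ := by rw [hvc]
        _ = _ := by group
    have hvW : v ∈ M.grpW := by
      obtain ⟨c, hc, e'⟩ := hg0
      exact ⟨c, (five_facts.2.2.1 c hc).1, e'⟩
    rw [heq, show (g : G) * (ψ 9 * v) * (g : G)⁻¹ * (g * (ψ 9 * v) * (g : G)⁻¹) =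
      g * (ψ 9 * v * (ψ 9 * v)) * (g : G)⁻¹ by group, M.grpW_sq (mul_mem h9W hvW)]
    group
  have hs4 := hsq _ h4 hsqA heA
  have hs5 := hsq _ h5 hsqB heB
  -- the lift commutes with the involutions
  set y := ψ 17 with hy
  have hyy : y * y = 1 := (M.sq_iff (by norm_num)).2 h1717
  have y8 : y * ψ 8 * y⁻¹ = ψ 8 := by rw [hy, E.conj_code (by norm_num) (by norm_num) (by rw [h178]; norm_num), h178]
  have y96 : y * ψ 96 * y⁻¹ = ψ 104 := by
    rw [hy, E.conj_code (by norm_num) (by norm_num) (by rw [h1796]; norm_num), h1796]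
  have yV : ∀ v ∈ E.grpV, y * v * y⁻¹ ∈ E.grpV := by
    rintro _ ⟨c, hc, rfl⟩
    have := (five_facts.1.2 _ (hV c hc).1).1
    exact ⟨_, (hV c hc).1, by rw [hy, E.conj_code (by norm_num) (five_facts.1.2 c hc).1 this]⟩
  let cy : centFour ψ →* centFour ψ :=
    { toFun := fun g => ⟨y * g * y⁻¹, E.conj_cent y8 y96 g.2⟩
      map_one' := Subtype.ext (by simp)
      map_mul' := fun g h => Subtype.ext (by simp [mul_assoc]) }
  have hcy : ∀ g h : centFour ψ, q g = q h ↔ q (cy g) = q (cy h) := fun g h => by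
    rw [hqe, hqe]
    have e1 : ((cy g : centFour ψ) : G)⁻¹ * cy h = y * ((g : G)⁻¹ * h) * y⁻¹ := by
      show (y * g * y⁻¹)⁻¹ * (y * h * y⁻¹) = _
      group
    rw [e1]
    refine ⟨yV _, fun hh => ?_⟩
    have := yV _ hh
    rwa [show y * (y * ((g : G)⁻¹ * h) * y⁻¹) * y⁻¹ = y * y * ((g : G)⁻¹ * h) * (y * y)⁻¹ by group, hyy, one_mul,
      inv_one, mul_one] at this
  have hy4 : cy ⟨X 4, h4⟩ = ⟨X 5, h5⟩ := Subtype.ext (by
    show y * X 4 * y⁻¹ = X 5
    rw [hy, ← hf 17 (by norm_num), hX, ← map_inv, ← map_mul, ← map_mul, hy45])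
  have hy5 : cy ⟨X 5, h5⟩ = ⟨X 4, h4⟩ := Subtype.ext (by
    show y * X 5 * y⁻¹ = X 4
    rw [hy, ← hf 17 (by norm_num), hX, ← map_inv, ← map_mul, ← map_mul, hy54])
  have hey : y * (e : G) * y⁻¹ = e := by
    refine uniq (cy e) ?_ (huniq _ ?_)
    · show y * e * y⁻¹ * (y * e * y⁻¹) * (y * e * y⁻¹) = 1
      rw [show y * (e : G) * y⁻¹ * (y * e * y⁻¹) * (y * e * y⁻¹) = y * (e * e * e) * y⁻¹ by group, he3]; group
    have q1 : ∀ g, q (cy g) = 1 ↔ q g = 1 := fun g => by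
      have h := hcy g 1
      simp only [map_one] at h
      exact h.symm
    have eA : eb * a = q (e * ⟨X 4, h4⟩) := by rw [map_mul, hqe']
    have eB : eb * b = q (e * ⟨X 5, h5⟩) := by rw [map_mul, hqe']
    have eA' : q (cy e) * b = q (cy (e * ⟨X 4, h4⟩)) := by rw [map_mul, map_mul, hy4]
    have eB' : q (cy e) * a = q (cy (e * ⟨X 5, h5⟩)) := by rw [map_mul, map_mul, hy5]
    refine ⟨?_, ?_, ?_, ?_, ?_, ?_, ?_⟩
    · rw [← map_mul, ← map_mul, ← map_mul, ← map_mul, q1, map_mul, map_mul, hqe', heb3]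
    · intro h
      rw [ha, ← hy5, ← hcy, hqe'] at h
      exact heb h
    · intro h
      rw [hb, ← hy4, ← hcy, hqe'] at h
      exact hea h
    · rw [eB', Ne, q1, ← eB]; exact heB
    · rw [eA', Ne, q1, ← eA]; exact heA
    · rw [eB', ← map_mul, ← map_mul, q1, map_mul, ← eB]; exact hsqB
    · rw [eA', ← map_mul, ← map_mul, q1, map_mul, ← eA]; exact hsqA
  set k := ψ 34 with hk
  set h := ψ 164 with hh
  have k8 : k * ψ 8 * k⁻¹ = y := by
    rw [hk, E.conj_code (by norm_num) (by norm_num) (by rw [h348]; norm_num), h348]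
  have k96 : k * ψ 96 * k⁻¹ = h := by
    rw [hk, E.conj_code (by norm_num) (by norm_num) (by rw [h3496]; norm_num), h3496]
  have hey' : (e : G) * y = y * e := (mul_inv_eq_iff_eq_mul.1 hey).symm
  set t := k⁻¹ * (e : G) * k with ht
  have ht3 : t * t * t = 1 := by
    rw [ht, show k⁻¹ * (e : G) * k * (k⁻¹ * e * k) * (k⁻¹ * e * k) = k⁻¹ * (e * e * e) * k by group, he3]; group
  have ht8 : t * ψ 8 = ψ 8 * t := by
    rw [ht]
    calc k⁻¹ * (e : G) * k * ψ 8 = k⁻¹ * (e * (k * ψ 8 * k⁻¹)) * k := by group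
      _ = k⁻¹ * ((k * ψ 8 * k⁻¹) * e) * k := by rw [k8, hey']
      _ = _ := by group
  have tv : t * ψ 8 * t⁻¹ = ψ 8 := mul_inv_eq_iff_eq_mul.2 ht8
  have ht96 : t * ψ 96 * t⁻¹ = ψ 96 := by
    refine (E.four_normal ht8).elim id fun h1 => ?_
    have h2 : t * t * ψ 96 * (t * t)⁻¹ = ψ 96 := by
      rw [show t * t * ψ 96 * (t * t)⁻¹ = t * (t * ψ 96 * t⁻¹) * t⁻¹ by group, h1,
        show t * (ψ 96 * ψ 8) * t⁻¹ = t * ψ 96 * t⁻¹ * (t * ψ 8 * t⁻¹) by group, h1, tv, mul_assoc, E.v_sq, mul_one]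
    calc t * ψ 96 * t⁻¹ = t * t * (t * t) * ψ 96 * (t * t * (t * t))⁻¹ := by
          rw [show t * t * (t * t) = t * t * t * t by group, ht3, one_mul]
      _ = t * t * (t * t * ψ 96 * (t * t)⁻¹) * (t * t)⁻¹ := by group
      _ = ψ 96 := by rw [h2, h2]
  have heh : (e : G) * h = h * e := by
    rw [← k96]
    calc (e : G) * (k * ψ 96 * k⁻¹) = k * (t * ψ 96 * t⁻¹) * t * k⁻¹ := by rw [ht]; group
      _ = k * ψ 96 * t * k⁻¹ := by rw [ht96]
      _ = _ := by rw [ht]; group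
  have he96 : (e : G) * ψ 96 = ψ 96 * e := (mem_centFour.1 e.2).2
  have hconj : ∀ {i j : Fin 6} {m : G}, m * X i * m⁻¹ = X j → (e : G) * m = m * e →
      (e : G) * X i * ((e : G) * X i) = 1 → (e : G) * X j * ((e : G) * X j) = 1 := by
    intro i j m hm hem h2
    have hem' : m * (e : G) * m⁻¹ = e := mul_inv_eq_iff_eq_mul.2 hem.symm
    calc (e : G) * X j * ((e : G) * X j) = m * e * m⁻¹ * (m * X i * m⁻¹) * (m * e * m⁻¹ * (m * X i * m⁻¹)) := by
          rw [hem', hm]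
      _ = m * ((e : G) * X i * ((e : G) * X i)) * m⁻¹ := by group
      _ = 1 := by rw [h2]; group
  have mv : ∀ {c : ℕ} {i j : Fin 6}, c < 192 → codeEight c * cyc i * (codeEight c)⁻¹ = cyc j →
      ψ c * X i * (ψ c)⁻¹ = X j := fun {c i j} hc h => by
    rw [← hf c hc, hX, ← map_inv, ← map_mul, ← map_mul, h]
  have hs0 := hconj (mv (by norm_num) hm0) heh hs4
  have hs1 := hconj (mv (by norm_num) hm1) heh hs5
  have hs2 := hconj (mv (by norm_num) hm2) he96 hs0
  have hs3 := hconj (mv (by norm_num) hm3) he96 hs1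
  have hsall : ∀ i : Fin 6, (e : G) * X i * ((e : G) * X i) = 1 := by
    intro i; fin_cases i <;> assumption
  set x : Fin 7 → G := Fin.snoc X (e : G) with hx
  have hx3 : ∀ i, x i ^ 3 = 1 := fun i => by
    rw [pow_succ, pow_two]
    refine Fin.lastCases ?_ (fun i => ?_) i
    · rw [hx, Fin.snoc_last]; exact he3
    · rw [hx, Fin.snoc_castSucc]; exact cube i
  have hxp : ∀ i j, i ≠ j → (x i * x j) ^ 2 = 1 := fun i j hij => by
    rw [pow_two]
    revert hij
    refine Fin.lastCases ?_ (fun i => ?_) i <;> refine Fin.lastCases ?_ (fun j => ?_) j <;> intro hij <;>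
      simp only [hx, Fin.snoc_last, Fin.snoc_castSucc]
    · exact absurd rfl hij
    · exact hsall j
    · calc X i * (e : G) * (X i * (e : G)) = (e : G)⁻¹ * ((e : G) * X i * ((e : G) * X i)) * e := by group
        _ = 1 := by rw [hsall]; group
    · exact pair i j fun h => hij (by rw [h])
  obtain ⟨φ, hφ⟩ := exists_alt_hom (by norm_num) x hx3 hxp
  have hXr : ∀ i : Fin 6, X i ∈ φ.range := fun i => ⟨cyc i.castSucc, by rw [hφ, hx, Fin.snoc_castSucc]⟩
  have her : (e : G) ∈ φ.range := ⟨cyc (Fin.last 6), by rw [hφ, hx, Fin.snoc_last]⟩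
  have hfr : f.range ≤ φ.range := by
    rw [MonoidHom.range_eq_map, ← closure_cyc 6, MonoidHom.map_closure, closure_le]
    rintro _ ⟨_, ⟨i, rfl⟩, rfl⟩
    exact hXr i
  refine ⟨φ, ?_, hfr, fun g hg => ?_⟩
  · haveI : IsSimpleGroup (alternatingGroup (Pt 7)) := alternatingGroup.isSimpleGroup (by simp)
    refine (MonoidHom.ker_eq_bot_iff φ).1
      ((IsSimpleGroup.eq_bot_or_eq_top_of_normal φ.ker inferInstance).resolve_right fun hker => ha1 ?_)
    refine (hq1 _).2 ?_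
    have : X 4 = 1 := by
      have := MonoidHom.mem_ker.1 (hker ▸ mem_top (cyc ((4 : Fin 6).castSucc)))
      rwa [hφ, hx, Fin.snoc_castSucc] at this
    show X 4 ∈ E.grpV
    rw [this]; exact one_mem _
  have himg : (φ.range.subgroupOf (centFour ψ)).map q = ⊤ := by
    rw [eq_top_iff, ← five_full hnd, closure_le]
    rintro _ (rfl | rfl | rfl)
    · exact ⟨⟨X 4, h4⟩, mem_subgroupOf.2 (hXr 4), rfl⟩
    · exact ⟨⟨X 5, h5⟩, mem_subgroupOf.2 (hXr 5), rfl⟩
    · exact ⟨e, mem_subgroupOf.2 her, hqe'⟩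
  obtain ⟨g', hg', eg⟩ := (himg ▸ mem_top (q ⟨g, hg⟩) : q ⟨g, hg⟩ ∈ (φ.range.subgroupOf (centFour ψ)).map q)
  have := (hqe g' ⟨g, hg⟩).1 eg
  have h2 := mul_mem (mem_subgroupOf.1 hg') (hfr (E.grpV_le_range this))
  rwa [mul_inv_cancel_left] at h2

end BEmb

end CfsgLib.Spor.ExtraSymThree
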