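import Cfsg.Agent.Lib.Spor.ExtraSymThree.BSylow

/-!
# The fusion patterns in the second type
-/

set_option autoImplicit false
set_option maxRecDepth 100000
set_option linter.unusedSectionVars false

namespace CfsgLib.Spor.ExtraSymThree

open Subgroup

/-- The codes fused with the involution for a given list of fused classes. -/
def oList (P : List ℕ) : List ℕ := 1 :: wB.filter fun w => P.any fun r => (clsB r).contains w

/-- The number of pairs with this product. -/
noncomputable def cntB (P : List ℕ) (w : ℕ) : ℕ :=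
  ((oList P).filter fun x => (oList P).contains (mB x w)).length

theorem oList_facts : ∀ P ∈ bReps.sublists, (oList P).Nodup ∧
    ∀ w ∈ oList P, w ∈ wB := by decide +kernel

theorem wB_split : ∀ w ∈ wB, w = 0 ∨ w = 1 ∨ ∃ r ∈ bReps, w ∈ clsB r := by decide +kernel

theorem stab_facts : ∀ k < 192, (∀ c ∈ wB, cjB k c ∈ wB) → k ∈ sylB := by decide +kernel

/-- The list of the fused classes. -/
noncomputable def patternB {G : Type*} [Group G] (s : G) (ψ : ℕ → G) : List ℕ := by
  classical exact bReps.filter fun r => decide (IsConj s (ψ r))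

namespace BModel

variable {G : Type*} [Group G] [Finite G] {s : G} {ψ : ℕ → G} (M : BModel s ψ)
include M

theorem pattern_sublist : patternB s ψ ∈ bReps.sublists := by
  classical
  rw [List.mem_sublists, patternB]
  exact List.filter_sublist

theorem mem_pattern {r : ℕ} (hr : r ∈ bReps) : r ∈ patternB s ψ ↔ IsConj s (ψ r) := by
  classical
  simp [patternB, hr]

theorem fused_iff {w : ℕ} (hw : w ∈ wB) : IsConj s (ψ w) ↔ w ∈ oList (patternB s ψ) := by
  rcases wB_split w hw with rfl | rfl | ⟨r, hr, hc⟩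
  · refine ⟨fun h => ?_, fun h => ?_⟩
    · rw [M.one] at h
      obtain ⟨g, hg⟩ := isConj_iff.1 h
      exact absurd (conj_eq_one_iff.1 hg) M.s_ne
    · simp only [oList, List.mem_cons, List.mem_filter, List.any_eq_true, List.contains_iff_mem] at h
      rcases h with h | ⟨-, r, hr, h0⟩
      · norm_num at h
      · classical
        have hr' : r ∈ bReps := by simp only [patternB, List.mem_filter] at hr; exact hr.1
        exact absurd rfl ((cls_spec r hr').2.2 0 h0).2.1
  · exact ⟨fun _ => List.mem_cons_self, fun _ => M.at_s.symm ▸ IsConj.refl s⟩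
  · rw [show IsConj s (ψ w) ↔ IsConj s (ψ r) from
      ⟨fun h => h.trans (M.isConj_cls hr hc).symm, fun h => h.trans (M.isConj_cls hr hc)⟩, ← M.mem_pattern hr]
    simp only [oList, List.mem_cons, List.mem_filter, List.any_eq_true, List.contains_iff_mem]
    constructor
    · exact fun h => Or.inr ⟨hw, r, h, hc⟩
    · rintro (h | ⟨-, r', hr', hc'⟩)
      · exact absurd h ((cls_spec r hr).2.2 w hc).2.2.1
      · classical
        have hr'' : r' ∈ bReps := by simp only [patternB, List.mem_filter] at hr'; exact hr'.1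
        have := M.isConj_cls hr'' hc'
        rw [M.mem_pattern hr]
        exact ((M.mem_pattern hr'').1 hr').trans (this.trans (M.isConj_cls hr hc).symm)

theorem code_of_grpW {g : G} (hg : g ∈ M.grpW) : ∃ c ∈ wB, c < 192 ∧ ψ c = g := by
  obtain ⟨c, hc, e⟩ := hg
  exact ⟨c, hc, (wB_facts.1.2 c hc).1, e⟩

theorem grpS_le_normalizer : M.grpS ≤ normalizer (M.grpW : Set G) := by
  intro k hk
  rw [mem_normalizer_iff]
  intro w
  refine ⟨M.grpS_normalizes hk, fun h => ?_⟩
  have := M.grpS_normalizes (inv_mem hk) h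
  rwa [show k⁻¹ * (k * w * k⁻¹) * k⁻¹⁻¹ = w by group] at this

theorem normalizer_inf : normalizer (M.grpW : Set G) ⊓ centralizer ({s} : Set G) = M.grpS := by
  refine le_antisymm (fun g hg => ?_) (le_inf M.grpS_le_normalizer ?_)
  · obtain ⟨hN, hC⟩ := mem_inf.1 hg
    obtain ⟨c, hc, rfl⟩ := M.surj g hC
    refine ⟨c, stab_facts c hc fun d hd => ?_, rfl⟩
    have hdl := (wB_facts.1.2 d hd).1
    have h := (mem_normalizer_iff.1 hN (ψ d)).1 ⟨d, hd, rfl⟩
    rw [M.conj hc hdl] at h
    exact (M.code_mem_sub wB_facts.1 (cjB_lt hc hdl)).1 h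
  · rintro _ ⟨c, hc, rfl⟩
    exact M.mem c (sylB_facts.1.2 c hc).1

/-- The permutation of the codes induced by an element of the normalizer. -/
theorem exists_map {n : G} (hn : n ∈ normalizer (M.grpW : Set G)) :
    ∃ a : ℕ → ℕ, (∀ c ∈ wB, a c ∈ wB ∧ n * ψ c * n⁻¹ = ψ (a c)) ∧
      (∀ c ∈ wB, ∀ d ∈ wB, a c = a d → c = d) ∧ ∀ c ∈ wB, ∀ d ∈ wB, a (mB c d) = mB (a c) (a d) := by
  have hex : ∀ c, ∃ d, c ∈ wB → d ∈ wB ∧ n * ψ c * n⁻¹ = ψ d := fun c => by
    by_cases hc : c ∈ wB
    · obtain ⟨d, hd, -, e⟩ := M.code_of_grpW ((mem_normalizer_iff.1 hn _).1 ⟨c, hc, rfl⟩)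
      exact ⟨d, fun _ => ⟨hd, e.symm⟩⟩
    · exact ⟨0, fun h => absurd h hc⟩
  choose a ha using hex
  have lt : ∀ {c}, c ∈ wB → c < 192 := fun h => (wB_facts.1.2 _ h).1
  refine ⟨a, ha, fun c hc d hd e => M.inj c (lt hc) d (lt hd) ?_, fun c hc d hd => ?_⟩
  · exact mul_left_cancel (mul_right_cancel ((ha c hc).2.trans (e ▸ (ha d hd).2.symm)))
  · have hcd := (wB_facts.1.2 c hc).2.2 d hd
    have hac := ha c hc
    have had := ha d hd
    refine M.inj _ (lt (ha _ hcd).1) _ (mB_lt _ (lt hac.1) _ (lt had.1)) ?_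
    rw [← (ha _ hcd).2, ← M.mul _ (lt hc) _ (lt hd), ← M.mul _ (lt hac.1) _ (lt had.1), ← hac.2, ← had.2]
    group

/-- The orbits of the normalizer. -/
theorem orbit_card {w : G} (hw : w ∈ M.grpW) :
    Nat.card {y : M.grpW // ∃ n ∈ normalizer (M.grpW : Set G), n * w * n⁻¹ = (y : G)} *
      Nat.card ↥(normalizer (M.grpW : Set G) ⊓ centralizer ({w} : Set G)) =
      Nat.card ↥(normalizer (M.grpW : Set G)) := by
  classical
  set N := normalizer (M.grpW : Set G) with hN
  set C := (centralizer ({w} : Set G)).subgroupOf N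
  set T := {y : M.grpW // ∃ n ∈ N, n * w * n⁻¹ = (y : G)}
  let f : N ⧸ C → T := Quotient.lift
    (fun n => ⟨⟨n * w * n⁻¹, (mem_normalizer_iff.1 n.2 w).1 hw⟩, n, n.2, rfl⟩)
    (fun a b hab => by
      replace hab := QuotientGroup.leftRel_apply.1 hab
      rw [mem_subgroupOf, mem_centralizer_singleton_iff] at hab
      refine Subtype.ext (Subtype.ext ?_)
      simp only [Subgroup.coe_mul, Subgroup.coe_inv] at hab
      show (a : G) * w * (a : G)⁻¹ = b * w * (b : G)⁻¹
      calc (a : G) * w * (a : G)⁻¹ = a * (w * ((a : G)⁻¹ * b)) * (b : G)⁻¹ := by group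
        _ = a * ((a : G)⁻¹ * b * w) * (b : G)⁻¹ := by rw [hab]
        _ = _ := by group)
  have hf : Function.Bijective f := by
    refine ⟨?_, fun y => ?_⟩
    · intro a b
      refine Quotient.inductionOn₂ a b fun a b e => ?_
      refine Quotient.sound ?_
      show QuotientGroup.leftRel C a b
      rw [QuotientGroup.leftRel_apply, mem_subgroupOf, mem_centralizer_singleton_iff]
      have e' : (a : G) * w * (a : G)⁻¹ = b * w * (b : G)⁻¹ := congrArg (fun t : T => (t.1 : G)) e
      simp only [Subgroup.coe_mul, Subgroup.coe_inv]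
      calc (a : G)⁻¹ * b * w = (a : G)⁻¹ * (b * w * (b : G)⁻¹) * b := by group
        _ = _ := by rw [← e']; group
    · obtain ⟨m, hm, em⟩ := y.2
      exact ⟨QuotientGroup.mk ⟨m, hm⟩, Subtype.ext (Subtype.ext em)⟩
  have hC : Nat.card C = Nat.card ↥(N ⊓ centralizer ({w} : Set G)) := by
    rw [← card_map_of_injective (K := C) N.subtype_injective, subgroupOf_map_subtype, inf_comm]
  rw [← C.card_mul_index, hC, index_eq_card, Nat.card_eq_of_bijective f hf, mul_comm]

theorem card_normalizer : Nat.card ↥(normalizer (M.grpW : Set G)) = 64 * (oList (patternB s ψ)).length := by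
  classical
  obtain ⟨hnd, hsub⟩ := oList_facts _ M.pattern_sublist
  rw [← M.orbit_card M.s_mem_grpW, M.normalizer_inf, M.card_grpS, mul_comm]
  congr 1
  set T := {y : M.grpW // ∃ n ∈ normalizer (M.grpW : Set G), n * s * n⁻¹ = (y : G)}
  let f : {c // c ∈ (oList (patternB s ψ)).toFinset} → T := fun c => ⟨⟨ψ c, c, hsub c (List.mem_toFinset.1 c.2), rfl⟩, by
    have hc := hsub c (List.mem_toFinset.1 c.2)
    exact M.fused_in_normalizer M.s_mem_grpW ⟨c, hc, rfl⟩ ((M.fused_iff hc).2 (List.mem_toFinset.1 c.2))⟩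
  have hf : Function.Bijective f := by
    refine ⟨fun c d e => Subtype.ext ?_, fun y => ?_⟩
    · exact M.inj _ (wB_facts.1.2 _ (hsub c (List.mem_toFinset.1 c.2))).1 _
        (wB_facts.1.2 _ (hsub d (List.mem_toFinset.1 d.2))).1 (congrArg (fun t : T => (t.1 : G)) e)
    · obtain ⟨c, hc, -, e⟩ := M.code_of_grpW y.1.2
      obtain ⟨n, -, en⟩ := y.2
      have : IsConj s (ψ c) := isConj_iff.2 ⟨n, en.trans e.symm⟩
      exact ⟨⟨c, List.mem_toFinset.2 ((M.fused_iff hc).1 this)⟩, Subtype.ext (Subtype.ext e)⟩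
  rw [← Nat.card_eq_of_bijective f hf, Nat.card_eq_fintype_card, Fintype.card_coe,
    List.toFinset_card_of_nodup hnd]

theorem cnt_eq {w : ℕ} (hw : w ∈ oList (patternB s ψ)) : cntB (patternB s ψ) w = cntB (patternB s ψ) 1 := by
  classical
  obtain ⟨hnd, hsub⟩ := oList_facts _ M.pattern_sublist
  have hwW := hsub w hw
  obtain ⟨n, hn, en⟩ := M.fused_in_normalizer M.s_mem_grpW ⟨w, hwW, rfl⟩ ((M.fused_iff hwW).2 hw)
  obtain ⟨a, ha, ainj, ahom⟩ := M.exists_map hn
  set O := oList (patternB s ψ) with hO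
  have a1 : a 1 = w := M.inj _ (wB_facts.1.2 _ (ha 1 wB_facts.2.2.2.1).1).1 _ (wB_facts.1.2 w hwW).1 (by
    rw [← (ha 1 wB_facts.2.2.2.1).2, M.at_s, en])
  have aO : ∀ x ∈ wB, (a x ∈ O ↔ x ∈ O) := fun x hx => by
    rw [hO, ← M.fused_iff (ha x hx).1, ← M.fused_iff hx, ← (ha x hx).2]
    exact ⟨fun h => h.trans (isConj_iff.2 ⟨n⁻¹, by group⟩), fun h => h.trans (isConj_iff.2 ⟨n, rfl⟩)⟩
  have asurj : ∀ y ∈ wB, ∃ x ∈ wB, a x = y := fun y hy => by
    have hcard : (wB.toFinset.image a) = wB.toFinset := by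
      refine Finset.eq_of_subset_of_card_le ?_ ?_
      · intro z hz
        obtain ⟨x, hx, rfl⟩ := Finset.mem_image.1 hz
        exact List.mem_toFinset.2 (ha x (List.mem_toFinset.1 hx)).1
      · rw [Finset.card_image_of_injOn]
        exact fun x hx x' hx' e => ainj x (List.mem_toFinset.1 hx) x' (List.mem_toFinset.1 hx') e
    obtain ⟨x, hx, e⟩ := Finset.mem_image.1 (hcard.symm ▸ List.mem_toFinset.2 hy : y ∈ wB.toFinset.image a)
    exact ⟨x, List.mem_toFinset.1 hx, e⟩
  simp only [cntB]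
  rw [← List.toFinset_card_of_nodup (hnd.filter _), ← List.toFinset_card_of_nodup (hnd.filter _)]
  refine (Finset.card_bij (fun x _ => a x) (fun x hx => ?_) (fun x hx x' hx' e => ?_) fun y hy => ?_).symm
  · simp only [List.mem_toFinset, List.mem_filter, List.contains_iff_mem] at hx ⊢
    have hxW := hsub x hx.1
    refine ⟨(aO x hxW).2 hx.1, ?_⟩
    rw [← a1, ← ahom x hxW 1 wB_facts.2.2.2.1]
    exact (aO _ ((wB_facts.1.2 x hxW).2.2 1 wB_facts.2.2.2.1)).2 hx.2
  · simp only [List.mem_toFinset, List.mem_filter] at hx hx'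
    exact ainj x (hsub x hx.1) x' (hsub x' hx'.1) e
  · simp only [List.mem_toFinset, List.mem_filter, List.contains_iff_mem] at hy
    obtain ⟨x, hxW, rfl⟩ := asurj y (hsub y hy.1)
    refine ⟨x, ?_, rfl⟩
    simp only [List.mem_toFinset, List.mem_filter, List.contains_iff_mem]
    refine ⟨(aO x hxW).1 hy.1, (aO _ ((wB_facts.1.2 x hxW).2.2 1 wB_facts.2.2.2.1)).1 ?_⟩
    rw [ahom x hxW 1 wB_facts.2.2.2.1, a1]
    exact hy.2

end BModel

end CfsgLib.Spor.ExtraSymThree
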