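import Cfsg.Agent.Lib.Spor.ExtraSymThree.BModel
import Mathlib.GroupTheory.Sylow
import Mathlib.GroupTheory.Nilpotent

/-!
# The Sylow subgroup and the control of fusion in the elementary group of order sixteen
-/

set_option autoImplicit false
set_option maxRecDepth 100000
set_option linter.unusedSectionVars false

namespace CfsgLib.Spor.ExtraSymThree

open Subgroup

theorem sylB_facts : ClosedB sylB ∧ sylB.Nodup ∧ sylB.length = 64 ∧ 1 ∈ sylB ∧
    (∀ c < 192, mB c c = 0 → (∀ d ∈ sylB, comB c d = true) → c = 0 ∨ c = 1) := by decide +kernel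

theorem wB_facts : ClosedB wB ∧ wB.Nodup ∧ wB.length = 16 ∧ 1 ∈ wB ∧
    (∀ c ∈ wB, mB c c = 0 ∧ c ∈ sylB ∧ ∀ d ∈ wB, comB c d = true) ∧
    (∀ k ∈ sylB, ∀ c ∈ wB, cjB k c ∈ wB) ∧ (∀ c < 192, (∀ d ∈ wB, comB c d = true) → c ∈ wB) ∧
    (∀ r ∈ bReps, r ∈ wB) := by decide +kernel

theorem wB_unique : ∀ c ∈ sylB, mB c c = 0 → c ∉ wB →
    (sylB.filter fun d => d != 0 && mB d d == 0 && comB c d).length < 15 := by decide +kernel

namespace BModel

variable {G : Type*} [Group G] [Finite G] {s : G} {ψ : ℕ → G} (M : BModel s ψ)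
include M

/-- The Sylow subgroup. -/
def grpS : Subgroup G := M.sub sylB sylB_facts.1

/-- The elementary group of order sixteen. -/
def grpW : Subgroup G := M.sub wB wB_facts.1

theorem card_grpS : Nat.card M.grpS = 64 := by
  rw [grpS, M.card_sub _ _ sylB_facts.2.1, sylB_facts.2.2.1]

theorem card_grpW : Nat.card M.grpW = 16 := by
  rw [grpW, M.card_sub _ _ wB_facts.2.1, wB_facts.2.2.1]

theorem grpW_sq {a : G} (ha : a ∈ M.grpW) : a * a = 1 := by
  obtain ⟨c, hc, rfl⟩ := ha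
  exact (M.sq_iff (wB_facts.1.2 c hc).1).2 (wB_facts.2.2.2.2.1 c hc).1

theorem grpW_comm {a b : G} (ha : a ∈ M.grpW) (hb : b ∈ M.grpW) : a * b = b * a := by
  obtain ⟨c, hc, rfl⟩ := ha
  obtain ⟨d, hd, rfl⟩ := hb
  exact (M.comm_iff (wB_facts.1.2 c hc).1 (wB_facts.1.2 d hd).1).2 ((wB_facts.2.2.2.2.1 c hc).2.2 d hd)

theorem grpW_le : M.grpW ≤ M.grpS := by
  rintro _ ⟨c, hc, rfl⟩
  exact ⟨c, (wB_facts.2.2.2.2.1 c hc).2.1, rfl⟩

theorem s_mem_grpW : s ∈ M.grpW := ⟨1, wB_facts.2.2.2.1, M.at_s⟩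

theorem rep_mem_grpW {r : ℕ} (hr : r ∈ bReps) : ψ r ∈ M.grpW := ⟨r, wB_facts.2.2.2.2.2.2.2 r hr, rfl⟩

theorem grpS_normalizes {k w : G} (hk : k ∈ M.grpS) (hw : w ∈ M.grpW) : k * w * k⁻¹ ∈ M.grpW := by
  obtain ⟨c, hc, rfl⟩ := hk
  obtain ⟨d, hd, rfl⟩ := hw
  exact ⟨_, wB_facts.2.2.2.2.2.1 c hc d hd, (M.conj (sylB_facts.1.2 c hc).1 (wB_facts.1.2 d hd).1).symm⟩

theorem grpW_self {g : G} (h : ∀ w ∈ M.grpW, g * w = w * g) : g ∈ M.grpW := by
  obtain ⟨c, hc, rfl⟩ := M.code_of_comm (h s M.s_mem_grpW)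
  exact ⟨c, wB_facts.2.2.2.2.2.2.1 c hc fun d hd => (M.comm_iff hc (wB_facts.1.2 d hd).1).1 (h _ ⟨d, hd, rfl⟩), rfl⟩

theorem central_eq {x : G} (hx : x * x = 1) (h : ∀ t ∈ M.grpS, x * t = t * x) : x = 1 ∨ x = s := by
  obtain ⟨c, hc, rfl⟩ := M.code_of_comm (h s ⟨1, sylB_facts.2.2.2.1, M.at_s⟩)
  rcases sylB_facts.2.2.2.2 c hc ((M.sq_iff hc).1 hx)
    (fun d hd => (M.comm_iff hc (sylB_facts.1.2 d hd).1).1 (h _ ⟨d, hd, rfl⟩)) with rfl | rfl
  · exact Or.inl M.one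
  · exact Or.inr M.at_s

theorem exists_sylow : ∃ P : Sylow 2 G, (P : Subgroup G) = M.grpS := by
  haveI : Fact (Nat.Prime 2) := ⟨Nat.prime_two⟩
  have hle : M.grpS ≤ centralizer ({s} : Set G) := by
    rintro _ ⟨c, hc, rfl⟩
    exact M.mem c (sylB_facts.1.2 c hc).1
  have hT : IsPGroup 2 M.grpS := IsPGroup.of_card (n := 6) (by rw [M.card_grpS]; norm_num)
  obtain ⟨P, hP⟩ := hT.exists_le_sylow
  refine ⟨P, ?_⟩
  by_contra hne
  haveI := P.isPGroup'.isNilpotent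
  have hlt : M.grpS.subgroupOf (P : Subgroup G) < ⊤ := by
    rw [lt_top_iff_ne_top, Ne, subgroupOf_eq_top]
    exact fun h => hne (le_antisymm h hP)
  obtain ⟨g, hgN, hgT⟩ :=
    SetLike.exists_of_lt (Group.normalizerCondition_of_isNilpotent (G := (P : Subgroup G)) _ hlt)
  rw [mem_subgroupOf] at hgT
  have hz : (g : G) * s * (g : G)⁻¹ = s := by
    refine (M.central_eq ?_ fun t ht => ?_).resolve_left fun h => M.s_ne (conj_eq_one_iff.1 h)
    · rw [show (g : G) * s * (g : G)⁻¹ * ((g : G) * s * (g : G)⁻¹) = g * (s * s) * (g : G)⁻¹ by group, M.ss]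
      group
    · have hgi : (g : G)⁻¹ * t * g ∈ M.grpS := by
        have h := (Subgroup.mem_normalizer_iff.1 (inv_mem hgN) ⟨t, hP ht⟩).1 (mem_subgroupOf.2 ht)
        simpa [mem_subgroupOf] using h
      have := mem_centralizer_singleton_iff.1 (hle hgi)
      calc (g : G) * s * (g : G)⁻¹ * t = g * (s * ((g : G)⁻¹ * t * g)) * (g : G)⁻¹ := by group
        _ = g * ((g : G)⁻¹ * t * g * s) * (g : G)⁻¹ := by rw [this]
        _ = _ := by group
  set X := (P : Subgroup G) ⊓ centralizer ({s} : Set G) with hX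
  obtain ⟨n, hn'⟩ := IsPGroup.iff_card.1 ((P.isPGroup').to_le (inf_le_left (b := centralizer ({s} : Set G))))
  have hd : Nat.card X ∣ 192 := M.card ▸ card_dvd_of_le inf_le_right
  rw [hn'] at hd
  have hn6 : n ≤ 6 := by
    by_contra h
    have : 2 ^ 7 ∣ 192 := (Nat.pow_dvd_pow 2 (by omega)).trans hd
    omega
  have hcard : Nat.card X ≤ Nat.card M.grpS := by
    rw [hn', M.card_grpS]
    exact (Nat.pow_le_pow_right (by norm_num) hn6).trans (by norm_num)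
  have e := eq_of_le_of_card_ge (le_inf hP hle) hcard
  exact hgT (e ▸ ⟨g.2, mem_centralizer_singleton_iff.2 (mul_inv_eq_iff_eq_mul.1 hz)⟩)

/-- An elementary group of order sixteen in the Sylow subgroup is the standard one. -/
theorem eq_grpW_of_le {A : Subgroup G} (hA : Nat.card A = 16) (hsq : ∀ a ∈ A, a * a = 1) (hle : A ≤ M.grpS) :
    A = M.grpW := by
  classical
  refine eq_of_le_of_card_ge (fun a ha => ?_) (by rw [hA, M.card_grpW])
  obtain ⟨c, hc, rfl⟩ := hle ha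
  have hcl := (sylB_facts.1.2 c hc).1
  by_contra hno
  have hlt := wB_unique c hc ((M.sq_iff hcl).1 (hsq _ ha)) fun h => hno ⟨c, h, rfl⟩
  set F := (sylB.filter fun d => d != 0 && mB d d == 0 && comB c d).toFinset
  have hcomm : ∀ b ∈ A, ψ c * b = b * ψ c := fun b hb => by
    have h := hsq _ (mul_mem ha hb)
    calc ψ c * b = (ψ c * b)⁻¹ := (inv_eq_of_mul_eq_one_right h).symm
      _ = _ := by rw [mul_inv_rev, inv_eq_of_mul_eq_one_right (hsq _ ha), inv_eq_of_mul_eq_one_right (hsq b hb)]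
  have hsub : ∀ b : A, ∃ d, d ∈ insert 0 F ∧ ψ d = (b : G) := fun b => by
    obtain ⟨d, hd, e⟩ := hle b.2
    have hdl := (sylB_facts.1.2 d hd).1
    refine ⟨d, ?_, e⟩
    rcases eq_or_ne d 0 with rfl | hd0
    · exact Finset.mem_insert_self _ _
    · refine Finset.mem_insert_of_mem (List.mem_toFinset.2 (List.mem_filter.2 ⟨hd, ?_⟩))
      have h1 := (M.sq_iff hdl).1 (e ▸ hsq _ b.2)
      have h2 := (M.comm_iff hcl hdl).1 (e ▸ hcomm _ b.2)
      simp [hd0, h1, h2]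
  choose d hd1 hd2 using hsub
  have hinj : Function.Injective fun b : A => (⟨d b, hd1 b⟩ : {x // x ∈ insert 0 F}) := fun b b' e => by
    have e' : d b = d b' := congrArg Subtype.val e
    exact Subtype.ext (by rw [← hd2 b, e', hd2 b'])
  have h16 := Nat.card_le_card_of_injective _ hinj
  rw [hA, Nat.card_eq_fintype_card, Fintype.card_coe] at h16
  have h1 := Finset.card_insert_le 0 F
  have h2 : F.card ≤ (sylB.filter fun d => d != 0 && mB d d == 0 && comB c d).length := List.toFinset_card_le _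
  omega

/-- Elementary groups of order sixteen in one two-group coincide. -/
theorem elem16_eq {A B R : Subgroup G} (hR : IsPGroup 2 R) (hA : Nat.card A = 16) (hB : Nat.card B = 16)
    (hA2 : ∀ a ∈ A, a * a = 1) (hB2 : ∀ a ∈ B, a * a = 1) (hAR : A ≤ R) (hBR : B ≤ R) : A = B := by
  haveI : Fact (Nat.Prime 2) := ⟨Nat.prime_two⟩
  obtain ⟨P, hP⟩ := M.exists_sylow
  obtain ⟨Q, hQ⟩ := hR.exists_le_sylow
  obtain ⟨g, hg⟩ := MulAction.exists_smul_eq G Q P
  have key : ∀ {A : Subgroup G}, Nat.card A = 16 → (∀ a ∈ A, a * a = 1) → A ≤ R →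
      A.map (MulAut.conj g).toMonoidHom = M.grpW := fun {A} hA hA2 hAR => by
    refine M.eq_grpW_of_le (by rw [card_map_of_injective (MulAut.conj g).injective, hA]) ?_ ?_
    · rintro _ ⟨a, ha, rfl⟩
      rw [← map_mul, hA2 a ha, map_one]
    · rw [← hP, ← hg, Sylow.coe_subgroup_smul]
      rintro _ ⟨a, ha, rfl⟩
      exact ⟨a, hQ (hAR ha), rfl⟩
  exact map_injective (MulAut.conj g).injective ((key hA hA2 hAR).trans (key hB hB2 hBR).symm)

/-- Elements of the elementary group are fused in its normalizer. -/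
theorem fused_in_normalizer {x y : G} (hx : x ∈ M.grpW) (hy : y ∈ M.grpW) (h : IsConj x y) :
    ∃ n ∈ normalizer (M.grpW : Set G), n * x * n⁻¹ = y := by
  haveI : Fact (Nat.Prime 2) := ⟨Nat.prime_two⟩
  obtain ⟨g, hg⟩ := isConj_iff.1 h
  set W := M.grpW with hW
  set C := centralizer ({x} : Set G)
  set W' := W.map (MulAut.conj g⁻¹).toMonoidHom
  have hWC : W ≤ C := fun w hw => mem_centralizer_singleton_iff.2 (M.grpW_comm hw hx)
  have hW'C : W' ≤ C := by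
    rintro _ ⟨w, hw, rfl⟩
    refine mem_centralizer_singleton_iff.2 ?_
    show g⁻¹ * w * g⁻¹⁻¹ * x = x * (g⁻¹ * w * g⁻¹⁻¹)
    have := M.grpW_comm hw hy
    calc g⁻¹ * w * g⁻¹⁻¹ * x = g⁻¹ * (w * (g * x * g⁻¹)) * g⁻¹⁻¹ := by group
      _ = g⁻¹ * (g * x * g⁻¹ * w) * g⁻¹⁻¹ := by rw [hg, this]
      _ = _ := by group
  have hW'card : Nat.card W' = 16 := by rw [card_map_of_injective (MulAut.conj g⁻¹).injective, M.card_grpW]
  have hpW : IsPGroup 2 (W.subgroupOf C) := IsPGroup.of_card (n := 4) (by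
    rw [Nat.card_congr (subgroupOfEquivOfLe hWC).toEquiv, M.card_grpW]; norm_num)
  have hpW' : IsPGroup 2 (W'.subgroupOf C) := IsPGroup.of_card (n := 4) (by
    rw [Nat.card_congr (subgroupOfEquivOfLe hW'C).toEquiv, hW'card]; norm_num)
  obtain ⟨P₁, hP₁⟩ := hpW.exists_le_sylow
  obtain ⟨P₂, hP₂⟩ := hpW'.exists_le_sylow
  obtain ⟨k, hk⟩ := MulAction.exists_smul_eq C P₂ P₁
  set W'' := W'.map (MulAut.conj (k : G)).toMonoidHom
  have e : W'' = W := by
    refine M.elem16_eq (R := (P₁ : Subgroup C).map C.subtype) (P₁.isPGroup'.map _) ?_ M.card_grpW ?_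
      (fun a ha => M.grpW_sq ha) ?_ fun w hw => ⟨⟨w, hWC hw⟩, hP₁ hw, rfl⟩
    · rw [card_map_of_injective (MulAut.conj (k : G)).injective, hW'card]
    · rintro _ ⟨_, ⟨w, hw, rfl⟩, rfl⟩
      simp only [← map_mul, M.grpW_sq hw, map_one]
    · rintro _ ⟨a, ha, rfl⟩
      refine ⟨k * ⟨a, hW'C ha⟩ * k⁻¹, ?_, rfl⟩
      rw [← hk, Sylow.coe_subgroup_smul]
      exact ⟨⟨a, hW'C ha⟩, hP₂ ha, rfl⟩
  refine ⟨g * (k : G)⁻¹, ?_, ?_⟩
  · have hn : (k : G) * g⁻¹ ∈ normalizer (W : Set G) := by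
      have hle : ∀ w ∈ W, (k : G) * g⁻¹ * w * ((k : G) * g⁻¹)⁻¹ ∈ W := fun w hw => by
        nth_rewrite 1 [← e]
        refine ⟨g⁻¹ * w * g⁻¹⁻¹, ⟨w, hw, rfl⟩, ?_⟩
        show (k : G) * (g⁻¹ * w * g⁻¹⁻¹) * (k : G)⁻¹ = _
        group
      have heq : W.map (MulAut.conj ((k : G) * g⁻¹)).toMonoidHom = W :=
        eq_of_le_of_card_ge (by rintro _ ⟨w, hw, rfl⟩; exact hle w hw)
          (by rw [card_map_of_injective (MulAut.conj ((k : G) * g⁻¹)).injective])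
      rw [mem_normalizer_iff]
      intro w
      refine ⟨hle w, fun h' => ?_⟩
      rw [← heq] at h'
      obtain ⟨u, hu, eu⟩ := h'
      have eu' : (k : G) * g⁻¹ * u * ((k : G) * g⁻¹)⁻¹ = (k : G) * g⁻¹ * w * ((k : G) * g⁻¹)⁻¹ := eu
      rwa [← mul_left_cancel (mul_right_cancel eu')]
    have := inv_mem hn
    rwa [mul_inv_rev, inv_inv] at this
  · have hkx : (k : G) * x = x * k := mem_centralizer_singleton_iff.1 k.2
    calc g * (k : G)⁻¹ * x * (g * (k : G)⁻¹)⁻¹ = g * ((k : G)⁻¹ * (x * k)) * g⁻¹ := by group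
      _ = g * ((k : G)⁻¹ * (k * x)) * g⁻¹ := by rw [hkx]
      _ = y := by rw [← hg]; group

end BModel

end CfsgLib.Spor.ExtraSymThree
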