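import Cfsg.Agent.Lib.Spor.ExtraSymThree.QCode
import Cfsg.Agent.Lib.Coprime.PGroupFrattini

/-!
# Coordinates in the centralizer
-/

set_option autoImplicit false
set_option maxRecDepth 100000
set_option linter.unusedSectionVars false

namespace CfsgLib.Spor.ExtraSymThree

open Subgroup

/-- The extraspecial group with the element of order three. -/
structure QHyp {G : Type*} [Group G] (s x : G) (Q : Subgroup G) : Prop where
  ne : s ≠ 1
  ss : s * s = 1
  mem : s ∈ Q
  central : ∀ a ∈ Q, a * s = s * a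
  sq : ∀ a ∈ Q, a * a = 1 ∨ a * a = s
  comm : ∀ a ∈ Q, ∀ b ∈ Q, a * b = b * a ∨ a * b = s * (b * a)
  center : ∀ a ∈ Q, (∀ b ∈ Q, a * b = b * a) → a = 1 ∨ a = s
  cube : x * x * x = 1
  norm : ∀ a ∈ Q, x * a * x⁻¹ ∈ Q
  fix : x * s * x⁻¹ = s
  free : ∀ a ∈ Q, x * a = a * x → a = 1 ∨ a = s
  card : Nat.card Q = 32

namespace QHyp

variable {G : Type*} [Group G] [Finite G] {s x : G} {Q : Subgroup G} (H : QHyp s x Q)
include H

theorem conj_three (a : G) : x * (x * (x * a * x⁻¹) * x⁻¹) * x⁻¹ = a := by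
  calc x * (x * (x * a * x⁻¹) * x⁻¹) * x⁻¹ = x * x * x * a * (x * x * x)⁻¹ := by group
    _ = a := by rw [H.cube]; group

theorem fix_or {a : G} (ha : a ∈ Q) (h : x * a * x⁻¹ = a ∨ x * a * x⁻¹ = s * a) : a = 1 ∨ a = s := by
  rcases h with h | h
  · exact H.free a ha (mul_inv_eq_iff_eq_mul.1 h)
  · exfalso
    have hs : ∀ c, x * (s * c) * x⁻¹ = s * (x * c * x⁻¹) := fun c => by
      calc x * (s * c) * x⁻¹ = x * s * x⁻¹ * (x * c * x⁻¹) := by group
        _ = _ := by rw [H.fix]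
    have e := H.conj_three a
    rw [h, hs, h, ← mul_assoc s s, H.ss, one_mul, h] at e
    exact H.ne (mul_eq_right.1 e)

/-- An involution with its images, normalized. -/
theorem exists_triple {a : G} (ha : a ∈ Q) (h2 : a * a = 1) (hn : ¬ (a = 1 ∨ a = s)) :
    ∃ c : G, (c = a ∨ c = s * a) ∧ c ∈ Q ∧ c * c = 1 ∧
      x * (x * c * x⁻¹) * x⁻¹ = c * (x * c * x⁻¹) ∧ x * c * x⁻¹ * c = c * (x * c * x⁻¹) := by
  set b := x * a * x⁻¹ with hb
  set d := x * b * x⁻¹ with hd
  have hbQ : b ∈ Q := H.norm a ha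
  have hdQ : d ∈ Q := H.norm b hbQ
  have bb : b * b = 1 := by rw [hb, show x * a * x⁻¹ * (x * a * x⁻¹) = x * (a * a) * x⁻¹ by group, h2]; group
  have dd : d * d = 1 := by rw [hd, show x * b * x⁻¹ * (x * b * x⁻¹) = x * (b * b) * x⁻¹ by group, bb]; group
  have hxd : x * d * x⁻¹ = a := H.conj_three a
  have h3 : a * b * d = 1 ∨ a * b * d = s := by
    refine H.fix_or (mul_mem (mul_mem ha hbQ) hdQ) ?_
    have e : x * (a * b * d) * x⁻¹ = b * d * a := by
      calc x * (a * b * d) * x⁻¹ = x * a * x⁻¹ * (x * b * x⁻¹) * (x * d * x⁻¹) := by group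
        _ = _ := by rw [hxd]
    rw [e, mul_assoc a b d]
    rcases H.comm _ (mul_mem hbQ hdQ) a ha with h | h
    · exact Or.inl h
    · exact Or.inr h
  obtain ⟨ζ, hζ, hdz⟩ : ∃ ζ, (ζ = 1 ∨ ζ = s) ∧ d = b * a * ζ := by
    refine ⟨a * b * d, h3, ?_⟩
    calc d = b * (a * a) * b * d := by rw [h2, mul_one, bb, one_mul]
      _ = _ := by group
  have hζc : ∀ c ∈ Q, c * ζ = ζ * c := fun c hc => by
    rcases hζ with rfl | rfl
    · rw [mul_one, one_mul]
    · exact H.central c hc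
  have hζζ : ζ * ζ = 1 := by
    rcases hζ with rfl | rfl
    · exact one_mul 1
    · exact H.ss
  have hba : b * a = a * b := by
    have e : b * a * (b * a) = 1 := by
      calc b * a * (b * a) = b * a * (b * a) * (ζ * ζ) := by rw [hζζ, mul_one]
        _ = b * a * (b * a * ζ) * ζ := by group
        _ = b * a * (ζ * (b * a)) * ζ := by rw [hζc _ (mul_mem hbQ ha)]
        _ = d * d := by rw [hdz]; group
        _ = 1 := dd
    calc b * a = (b * a)⁻¹ := eq_inv_of_mul_eq_one_left e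
      _ = a * b := by rw [mul_inv_rev, inv_eq_of_mul_eq_one_right h2, inv_eq_of_mul_eq_one_right bb]
  rcases hζ with hz | hz <;> subst ζ
  · refine ⟨a, Or.inl rfl, ha, h2, ?_, ?_⟩
    · rw [← hb, ← hd, hdz, mul_one, hba]
    · rw [← hb, hba]
  · have sc := H.central
    refine ⟨s * a, Or.inr rfl, mul_mem H.mem ha, ?_, ?_, ?_⟩
    · rw [show s * a * (s * a) = s * (a * s) * a by group, sc a ha, ← mul_assoc s s a, H.ss, one_mul, h2]
    all_goals
      have e : x * (s * a) * x⁻¹ = s * b := by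
        calc x * (s * a) * x⁻¹ = x * s * x⁻¹ * (x * a * x⁻¹) := by group
          _ = _ := by rw [H.fix]
      rw [e]
    · calc x * (s * b) * x⁻¹ = x * s * x⁻¹ * d := by rw [hd]; group
        _ = s * (b * a * s) := by rw [H.fix, hdz]
        _ = s * (a * s) * b := by rw [hba, mul_assoc a b, sc b hbQ]; group
        _ = _ := by group
    · calc s * b * (s * a) = s * (b * s) * a := by group
        _ = s * s * (b * a) := by rw [sc b hbQ]; group
        _ = s * s * (a * b) := by rw [hba]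
        _ = s * (s * a) * b := by group
        _ = s * (a * s) * b := by rw [sc a ha]
        _ = _ := by group

/-- The coordinates of the extraspecial group. -/
theorem exists_basis {u₀ : G} (hu : u₀ ∈ Q) (hu2 : u₀ * u₀ = 1) (hun : ¬ (u₀ = 1 ∨ u₀ = s)) :
    ∃ u v : G, u ∈ Q ∧ v ∈ Q ∧ x * (x * u * x⁻¹) * x⁻¹ = u * (x * u * x⁻¹) ∧
      x * (x * v * x⁻¹) * x⁻¹ = v * (x * v * x⁻¹) ∧ QRel s u (x * u * x⁻¹) v (x * v * x⁻¹) := by
  obtain ⟨u, hu', huQ, uu, ut, uc⟩ := H.exists_triple hu hu2 hun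
  have hun' : ¬ (u = 1 ∨ u = s) := by
    rintro h
    apply hun
    rcases hu' with rfl | rfl
    · exact h
    · rcases h with h | h
      · exact Or.inr (by rw [← one_mul u₀, ← H.ss, mul_assoc, h, mul_one])
      · exact Or.inl (mul_eq_left.1 h)
  set u' := x * u * x⁻¹ with hu'def
  have hu'Q : u' ∈ Q := H.norm u huQ
  have uu' : u' * u' = 1 := by rw [hu'def, show x * u * x⁻¹ * (x * u * x⁻¹) = x * (u * u) * x⁻¹ by group, uu]; group
  have su : ∀ a ∈ Q, a * s = s * a := H.central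
  -- a partner
  have conjC : ∀ {a b : G}, a * b = b * a → x * a * x⁻¹ * (x * b * x⁻¹) = x * b * x⁻¹ * (x * a * x⁻¹) := fun {a b} h => by
    calc x * a * x⁻¹ * (x * b * x⁻¹) = x * (a * b) * x⁻¹ := by group
      _ = x * (b * a) * x⁻¹ := by rw [h]
      _ = _ := by group
  have conjS : ∀ {a b : G}, a * b = s * (b * a) →
      x * a * x⁻¹ * (x * b * x⁻¹) = s * (x * b * x⁻¹ * (x * a * x⁻¹)) := fun {a b} h => by
    calc x * a * x⁻¹ * (x * b * x⁻¹) = x * (a * b) * x⁻¹ := by group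
      _ = x * s * x⁻¹ * (x * (b * a) * x⁻¹) := by rw [h]; group
      _ = _ := by rw [H.fix]; group
  have prodC : ∀ {a p q : G}, a * p = p * a → a * q = q * a → a * (p * q) = p * q * a := fun {a p q} h1 h2 => by
    rw [← mul_assoc, h1, mul_assoc, h2, mul_assoc]
  have prodS : ∀ {a p q : G}, p ∈ Q → a * p = p * a → a * q = s * (q * a) → a * (p * q) = s * (p * q * a) :=
    fun {a p q} hp h1 h2 => by
      rw [← mul_assoc, h1, mul_assoc, h2, ← mul_assoc, su p hp, mul_assoc, mul_assoc]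
  have prodS' : ∀ {a p q : G}, a * p = s * (p * a) → a * q = q * a → a * (p * q) = s * (p * q * a) :=
    fun {a p q} h1 h2 => by rw [← mul_assoc, h1, mul_assoc, mul_assoc, h2, mul_assoc]
  have prodSS : ∀ {a p q : G}, p ∈ Q → a * p = s * (p * a) → a * q = s * (q * a) → a * (p * q) = p * q * a :=
    fun {a p q} hp h1 h2 => by
      rw [← mul_assoc, h1, mul_assoc, mul_assoc, h2, ← mul_assoc p s, su p hp, mul_assoc s p, ← mul_assoc s s, H.ss,
        one_mul, mul_assoc]
  obtain ⟨c₀, hc₀, hcu⟩ : ∃ c ∈ Q, c * u = s * (u * c) := by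
    by_contra hno
    push Not at hno
    exact hun' (H.center u huQ fun b hb => ((H.comm b hb u huQ).resolve_right (hno b hb)).symm)
  have uu2 : u = u' * (x * u' * x⁻¹) := by rw [ut, ← mul_assoc, uc, mul_assoc, uu', mul_one]
  obtain ⟨c, hc, cu, cu'⟩ : ∃ c ∈ Q, c * u = u * c ∧ c * u' = s * (u' * c) := by
    have key : ∀ c ∈ Q, c * u = s * (u * c) → c * u' = s * (u' * c) →
        ∃ c ∈ Q, c * u = u * c ∧ c * u' = s * (u' * c) := fun c hc h1 h2 => by
      refine ⟨x * c * x⁻¹, H.norm c hc, ?_, conjS h1⟩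
      rw [uu2]
      exact prodSS hu'Q (conjS h1) (conjS h2)
    rcases H.comm c₀ hc₀ u' hu'Q with h | h
    · refine key _ (H.norm _ hc₀) ?_ (conjS hcu)
      rw [uu2]
      exact prodS' (conjS hcu) (conjC h)
    · exact key c₀ hc₀ hcu h
  obtain ⟨v₀, hv₀, v₀v₀, vu, vu'⟩ : ∃ v ∈ Q, v * v = 1 ∧ v * u = u * v ∧ v * u' = s * (u' * v) := by
    rcases H.sq c hc with h | h
    · exact ⟨c, hc, h, cu, cu'⟩
    · refine ⟨c * u', mul_mem hc hu'Q, ?_, ?_, ?_⟩
      · calc c * u' * (c * u') = s * (u' * c) * (c * u') := by nth_rewrite 1 [cu']; rfl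
          _ = s * (u' * (c * c) * u') := by group
          _ = s * (u' * s * u') := by rw [h]
          _ = s * s * (u' * u') := by rw [su u' hu'Q]; group
          _ = 1 := by rw [H.ss, uu', mul_one]
      · rw [mul_assoc, uc, ← mul_assoc, cu, mul_assoc]
      · calc c * u' * u' = s * (u' * c) * u' := by nth_rewrite 1 [cu']; rfl
          _ = _ := by group
  have hvn : ¬ (v₀ = 1 ∨ v₀ = s) := by
    have contra : s * u' ≠ u' := fun h => H.ne (mul_eq_right.1 h)
    rintro (h | h) <;> rw [h] at vu'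
    · rw [one_mul, mul_one] at vu'; exact contra vu'.symm
    · rw [su u' hu'Q] at vu'
      exact contra (mul_left_cancel vu').symm
  obtain ⟨v, hv', hvQ, vv, vt, vc⟩ := H.exists_triple hv₀ v₀v₀ hvn
  have vu2 : v * u = u * v := by
    rcases hv' with rfl | rfl
    · exact vu
    · rw [mul_assoc, vu, ← mul_assoc, ← su u huQ, mul_assoc]
  have vu2' : v * u' = s * (u' * v) := by
    rcases hv' with rfl | rfl
    · exact vu'
    · rw [mul_assoc, vu', ← mul_assoc u' s, su u' hu'Q, mul_assoc s u']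
  refine ⟨u, v, huQ, hvQ, ut, vt, H.ne, H.ss, uu, uu', vv, ?_, su u huQ, su u' hu'Q, su v hvQ,
    su _ (H.norm v hvQ), uc, vc, vu2, conjC vu2, vu2', ?_⟩
  · rw [show x * v * x⁻¹ * (x * v * x⁻¹) = x * (v * v) * x⁻¹ by group, vv]; group
  · have h4 : x * v * x⁻¹ * u' = u' * (x * v * x⁻¹) := conjC vu2
    have e1 : x * v * x⁻¹ * (x * u' * x⁻¹) = s * (x * u' * x⁻¹ * (x * v * x⁻¹)) := conjS vu2'
    have e2 := prodS hu'Q h4 e1
    rw [← uu2] at e2
    exact e2

end QHyp

end CfsgLib.Spor.ExtraSymThree
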