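import Cfsg.Agent.Lib.Spor.ExtraSymThree.Frame

/-!
# The four possible centralizers by codes
-/

set_option autoImplicit false
set_option maxRecDepth 100000
set_option linter.unusedSectionVars false

namespace CfsgLib.Spor.ExtraSymThree

open Subgroup

/-- The two normalized automorphisms of order two. -/
def qTs (sw : Bool) (q : ℕ) : ℕ := bif sw then qT 8 2 q else qT 2 8 q

/-- Powers of the automorphism of order three. -/
def qXp (i q : ℕ) : ℕ := if i = 1 then qX q else if i = 2 then qXi q else q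

/-- The product in a centralizer; a code is normal form, power of three-element, power of inverting element. -/
def lMul (sw e : Bool) (g h : ℕ) : ℕ :=
  qMul (qMul (g % 32) (qXp (g / 32 % 3) (if g / 96 % 2 = 1 then qTs sw (h % 32) else h % 32)))
      (if e = true ∧ g / 96 % 2 = 1 ∧ h / 96 % 2 = 1 then 1 else 0) +
    32 * ((g / 32 % 3 + (if g / 96 % 2 = 1 then 2 * (h / 32 % 3) else h / 32 % 3)) % 3) +
    96 * ((g / 96 % 2 + h / 96 % 2) % 2)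

/-- A group with these codes as the centralizer. -/
structure LModel {G : Type*} [Group G] (sw e : Bool) (s : G) (ψ : ℕ → G) : Prop where
  ord : orderOf s = 2
  mem : ∀ c < 192, ψ c ∈ centralizer ({s} : Set G)
  mul : ∀ c < 192, ∀ d < 192, ψ c * ψ d = ψ (lMul sw e c d)
  inj : ∀ c < 192, ∀ d < 192, ψ c = ψ d → c = d
  surj : ∀ g ∈ centralizer ({s} : Set G), ∃ c < 192, ψ c = g
  at_s : ψ 1 = s

theorem qXi_lt (a : ℕ) (ha : a < 32) : qXi a < 32 := (qX_lt a ha).2.1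

theorem qMul_lt_qT (a b : ℕ) (ha : a < 32) (hb : b < 32) (q : ℕ) : qT a b q < 32 := by
  have h := qXi_lt a ha
  have h' := qXi_lt b hb
  unfold qT qSub
  repeat' first | apply qMul_lt | split | assumption | norm_num

theorem qMul_cancel : ∀ a < 32, ∀ b < 32, ∀ c < 32, qMul a c = 0 → qMul b c = 0 → a = b := by decide +kernel

theorem qTs_lt : ∀ q < 32, qTs true q < 32 ∧ qTs false q < 32 := by decide +kernel

theorem qSub_eval {G : Type*} [Group G] {s u u' v v' : G} (R : QRel s u u' v v') (f : G →* G) {i0 i1 i2 i3 i4 : ℕ}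
    (h0 : qVal s u u' v v' i0 = f s) (h1 : qVal s u u' v v' i1 = f u) (h2 : qVal s u u' v v' i2 = f u')
    (h3 : qVal s u u' v v' i3 = f v) (h4 : qVal s u u' v v' i4 = f v') (q : ℕ) :
    qVal s u u' v v' (qSub i0 i1 i2 i3 i4 q) = f (qVal s u u' v v' q) := by
  have hpick : ∀ (i k : ℕ) (g : G), qVal s u u' v v' i = f g →
      qVal s u u' v v' (if qBit q k = 1 then i else 0) = f g ^ qBit q k := by
    intro i k g h
    rcases Nat.mod_two_eq_zero_or_one (q / 2 ^ k) with e | e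
    · rw [show qBit q k = 0 from e, if_neg (by norm_num), pow_zero]
      simp [qVal, qBit]
    · rw [show qBit q k = 1 from e, if_pos rfl, pow_one, h]
  simp only [qSub, ← R.mul, hpick _ _ _ h0, hpick _ _ _ h1, hpick _ _ _ h2, hpick _ _ _ h3, hpick _ _ _ h4]
  simp only [qVal, map_mul, map_pow, mul_assoc]

namespace QHyp

variable {G : Type*} [Group G] [Finite G] {s x : G} {Q : Subgroup G} (H : QHyp s x Q)
include H

theorem qVal_mem {u v : G} (hu : u ∈ Q) (hv : v ∈ Q) (q : ℕ) :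
    qVal s u (x * u * x⁻¹) v (x * v * x⁻¹) q ∈ Q :=
  mul_mem (mul_mem (pow_mem H.mem _) (mul_mem (pow_mem hu _) (pow_mem (H.norm u hu) _)))
    (mul_mem (pow_mem hv _) (pow_mem (H.norm v hv) _))

theorem qVal_bij {u v : G} (hu : u ∈ Q) (hv : v ∈ Q) (R : QRel s u (x * u * x⁻¹) v (x * v * x⁻¹)) :
    (∀ p < 32, ∀ r < 32, qVal s u (x * u * x⁻¹) v (x * v * x⁻¹) p = qVal s u (x * u * x⁻¹) v (x * v * x⁻¹) r → p = r) ∧
      ∀ g ∈ Q, ∃ q < 32, qVal s u (x * u * x⁻¹) v (x * v * x⁻¹) q = g := by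
  set f := qVal s u (x * u * x⁻¹) v (x * v * x⁻¹) with hf
  have f1 : f 1 = s := by simp [hf, qVal, qBit]
  have f0 : f 0 = 1 := by simp [hf, qVal, qBit]
  have ker : ∀ q < 32, f q = 1 → q = 0 := by
    intro q hq h
    rcases noncentral q hq with h' | rfl | ⟨g, hg, e⟩
    · exact h'
    · exact absurd (f1 ▸ h) H.ne
    · have e' : f q * f g = f 1 * (f g * f q) := by rw [hf, R.mul, R.mul, R.mul, e]
      rw [h, one_mul, mul_one, f1] at e'
      exact absurd (mul_eq_right.1 e'.symm) H.ne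
  have inj : ∀ p < 32, ∀ r < 32, f p = f r → p = r := by
    intro p hp r hr h
    obtain ⟨r', hr', e1, e2⟩ := qMul_facts.2 r hr
    have hfr : f r * f r' = 1 := by rw [hf, R.mul, e1]; exact f0
    have h2 : qMul p r' = 0 := ker _ (qMul_lt p hp r' hr') (by rw [hf, ← R.mul, ← hf, h, hfr])
    exact qMul_cancel p hp r hr r' hr' h2 e1
  refine ⟨inj, fun g hg => ?_⟩
  let F : Fin 32 → Q := fun q => ⟨f q, H.qVal_mem hu hv q⟩
  have hF : Function.Injective F := fun a b e => Fin.ext (inj a a.2 b b.2 (congrArg Subtype.val e))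
  obtain ⟨q, e⟩ := (Function.Injective.bijective_of_nat_card_le hF (by rw [H.card, Nat.card_fin])).2 ⟨g, hg⟩
  exact ⟨q, q.2, congrArg Subtype.val e⟩

/-- The model of the centralizer. -/
theorem exists_model {τ u₀ : G} (hord : orderOf s = 2) (hu : u₀ ∈ Q) (hu2 : u₀ * u₀ = 1)
    (hun : ¬ (u₀ = 1 ∨ u₀ = s)) (hQC : ∀ a ∈ Q, a * s = s * a) (hτs : τ * s = s * τ)
    (hτn : ∀ a ∈ Q, τ * a * τ⁻¹ ∈ Q) (hτx : τ * x * τ⁻¹ = x⁻¹) (hτ2 : τ * τ = 1 ∨ τ * τ = s)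
    (hcard : Nat.card (centralizer ({s} : Set G)) = 192)
    (hcover : ∀ g ∈ centralizer ({s} : Set G), ∃ a ∈ Q, ∃ i < 3, ∃ j < 2, g = a * x ^ i * τ ^ j) :
    ∃ sw e : Bool, ∃ ψ : ℕ → G, LModel sw e s ψ ∧ ∀ a ∈ Q, ∃ q < 32, ψ q = a := by
  classical
  obtain ⟨u, v, huQ, hvQ, ut, vt, R⟩ := H.exists_basis hu hu2 hun
  obtain ⟨inj, surj⟩ := H.qVal_bij huQ hvQ R
  set val := qVal s u (x * u * x⁻¹) v (x * v * x⁻¹) with hval
  have v0 : val 0 = 1 := by simp [hval, qVal, qBit]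
  have v1 : val 1 = s := by simp [hval, qVal, qBit]
  have v2 : val 2 = u := by simp [hval, qVal, qBit]
  have v4 : val 4 = x * u * x⁻¹ := by simp [hval, qVal, qBit]
  have v8 : val 8 = v := by simp [hval, qVal, qBit]
  have v16 : val 16 = x * v * x⁻¹ := by simp [hval, qVal, qBit]
  have vm : ∀ p r, val p * val r = val (qMul p r) := fun p r => R.mul
  have hX : ∀ q, val (qX q) = x * val q * x⁻¹ := by
    intro q
    refine qSub_eval R (MulAut.conj x).toMonoidHom ?_ ?_ ?_ ?_ ?_ q <;>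
      simp only [MulEquiv.coe_toMonoidHom, MulAut.conj_apply, ← hval]
    · rw [v1, H.fix]
    · rw [v4]
    · rw [show (6 : ℕ) = qMul 2 4 by rfl, ← vm, v2, v4, ut]
    · rw [v16]
    · rw [show (24 : ℕ) = qMul 8 16 by rfl, ← vm, v8, v16, vt]
  have hXi : ∀ q, val (qXi q) = x⁻¹ * val q * x := by
    intro q
    rw [qXi, hX, hX]
    have hxi : x * x = x⁻¹ := eq_inv_of_mul_eq_one_left H.cube
    calc x * (x * val q * x⁻¹) * x⁻¹ = x * x * val q * (x * x)⁻¹ := by group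
      _ = _ := by rw [hxi, inv_inv]
  have hτu : τ * u * τ⁻¹ ∈ Q := hτn u huQ
  obtain ⟨a, ha, ea⟩ := surj _ hτu
  obtain ⟨b, hb, eb⟩ := surj _ (hτn v hvQ)
  have hτs' : τ * s * τ⁻¹ = s := mul_inv_eq_iff_eq_mul.2 hτs
  have hxτ : ∀ g, τ * (x * g * x⁻¹) * τ⁻¹ = x⁻¹ * (τ * g * τ⁻¹) * x := fun g => by
    calc τ * (x * g * x⁻¹) * τ⁻¹ = τ * x * τ⁻¹ * (τ * g * τ⁻¹) * (τ * x * τ⁻¹)⁻¹ := by group
      _ = _ := by rw [hτx, inv_inv]
  have hT : ∀ q, val (qT a b q) = τ * val q * τ⁻¹ := by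
    intro q
    refine qSub_eval R (MulAut.conj τ).toMonoidHom ?_ ?_ ?_ ?_ ?_ q <;>
      simp only [MulEquiv.coe_toMonoidHom, MulAut.conj_apply, ← hval]
    · rw [v1, hτs']
    · exact ea
    · rw [hXi, hxτ, ea]
    · exact eb
    · rw [hXi, hxτ, eb]
  have hTT : ∀ g ∈ Q, τ * (τ * g * τ⁻¹) * τ⁻¹ = g := fun g hg => by
    rw [show τ * (τ * g * τ⁻¹) * τ⁻¹ = τ * τ * g * (τ * τ)⁻¹ by group]
    rcases hτ2 with h | h
    · rw [h]; group
    · rw [h, ← hQC g hg]; group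
  have hvalid : tValid a b = true := by
    have eqv : ∀ {p r}, p < 32 → r < 32 → val p = val r → (p == r) = true := fun hp hr h => beq_iff_eq.2 (inj _ hp _ hr h)
    have hxa := (qX_lt a ha).2.1
    have hxb := (qX_lt b hb).2.1
    have ql := @qMul_lt
    have tconj : ∀ {p q r}, val p = τ * q * τ⁻¹ → val r = τ * q * τ⁻¹ → val p = val r := fun h1 h2 => h1.trans h2.symm
    have C : ∀ g h : G, τ * g * τ⁻¹ * (τ * h * τ⁻¹) = τ * (g * h) * τ⁻¹ := fun g h => by group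
    have ea' : val (qXi a) = τ * (x * u * x⁻¹) * τ⁻¹ := by rw [hXi, hxτ, ea]
    have eb' : val (qXi b) = τ * (x * v * x⁻¹) * τ⁻¹ := by rw [hXi, hxτ, eb]
    have ea'' : val (qXi (qXi a)) = τ * (x * (x * u * x⁻¹) * x⁻¹) * τ⁻¹ := by rw [hXi, ea', hxτ (x * u * x⁻¹)]
    have eb'' : val (qXi (qXi b)) = τ * (x * (x * v * x⁻¹) * x⁻¹) * τ⁻¹ := by rw [hXi, eb', hxτ (x * v * x⁻¹)]
    simp only [tValid, Bool.and_eq_true]
    refine ⟨⟨⟨⟨⟨⟨⟨⟨⟨?_, ?_⟩, ?_⟩, ?_⟩, ?_⟩, ?_⟩, ?_⟩, ?_⟩, ?_⟩, ?_⟩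
    · refine eqv (qX_lt _ hxa).2.1 (ql _ ha _ hxa) (tconj ea'' ?_)
      rw [← vm, ea, ea', C, ut]
    · refine eqv (ql _ ha _ hxa) (ql _ hxa _ ha) ?_
      rw [← vm, ← vm, ea, ea', C, C, R.c1]
    · refine eqv (qX_lt _ hxb).2.1 (ql _ hb _ hxb) (tconj eb'' ?_)
      rw [← vm, eb, eb', C, vt]
    · refine eqv (ql _ hb _ hxb) (ql _ hxb _ hb) ?_
      rw [← vm, ← vm, eb, eb', C, C, R.c2]
    · refine eqv (ql _ ha _ ha) (by norm_num) ?_
      rw [← vm, ea, C, R.uu, v0]; group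
    · refine eqv (ql _ hb _ hb) (by norm_num) ?_
      rw [← vm, eb, C, R.vv, v0]; group
    · refine eqv (ql _ ha _ hb) (ql _ hb _ ha) ?_
      rw [← vm, ← vm, ea, eb, C, C, R.c3]
    · refine eqv (ql _ hxa _ hb) (ql 1 (by norm_num) _ (ql _ hb _ hxa)) ?_
      rw [← vm, ← vm, ← vm, ea', eb, v1, C, C]
      calc τ * (x * u * x⁻¹ * v) * τ⁻¹ = τ * s * τ⁻¹ * (τ * (v * (x * u * x⁻¹)) * τ⁻¹) := by
            rw [R.c5, show τ * s * τ⁻¹ * (τ * (s * (x * u * x⁻¹ * v)) * τ⁻¹) =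
              τ * (s * s * (x * u * x⁻¹ * v)) * τ⁻¹ by group, R.ss, one_mul]
        _ = _ := by rw [hτs']
    · refine eqv ?_ (by norm_num) ?_
      · exact qMul_lt_qT a b ha hb a
      rw [hT, v2, ea]
      exact hTT u huQ
    · refine eqv ?_ (by norm_num) ?_
      · exact qMul_lt_qT a b ha hb b
      rw [hT, v8, eb]
      exact hTT v hvQ
  have hnorm := List.all_eq_true.1 (List.all_eq_true.1 norm_all a (List.mem_range.2 ha)) b (List.mem_range.2 hb)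
  rw [hvalid] at hnorm
  simp only [Bool.not_true, Bool.false_or, normOK, List.any_eq_true, List.mem_range, Bool.and_eq_true, Bool.or_eq_true,
    beq_iff_eq] at hnorm
  obtain ⟨p, hp, r, hr, hok, htype⟩ := hnorm
  simp only [basisOK, Bool.and_eq_true, beq_iff_eq] at hok
  obtain ⟨⟨⟨⟨⟨⟨⟨pp, rr⟩, pt⟩, pc⟩, rt⟩, rc⟩, prc⟩, pr5⟩ := hok
  set U := val p with hU
  set V := val r with hV
  have vq : ∀ {c d}, c = d → val c = val d := fun h => congrArg val h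
  have cc := fun {g h : G} (e : g * h = h * g) => show x * g * x⁻¹ * (x * h * x⁻¹) = x * h * x⁻¹ * (x * g * x⁻¹) by
    rw [show x * g * x⁻¹ * (x * h * x⁻¹) = x * (g * h) * x⁻¹ by group, e]; group
  have hUQ : U ∈ Q := H.qVal_mem huQ hvQ p
  have hVQ : V ∈ Q := H.qVal_mem huQ hvQ r
  have UU : U * U = 1 := by rw [hU, vm, pp, v0]
  have VV : V * V = 1 := by rw [hV, vm, rr, v0]
  have Ut : x * (x * U * x⁻¹) * x⁻¹ = U * (x * U * x⁻¹) := by rw [hU, ← hX, ← hX, vm]; exact vq pt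
  have Vt : x * (x * V * x⁻¹) * x⁻¹ = V * (x * V * x⁻¹) := by rw [hV, ← hX, ← hX, vm]; exact vq rt
  have Uc : x * U * x⁻¹ * U = U * (x * U * x⁻¹) := by rw [hU, ← hX, vm, vm]; exact (vq pc).symm
  have Vc : x * V * x⁻¹ * V = V * (x * V * x⁻¹) := by rw [hV, ← hX, vm, vm]; exact (vq rc).symm
  have e5 : x * U * x⁻¹ * V = s * (V * (x * U * x⁻¹)) := by rw [hU, hV, ← hX, ← v1, vm, vm, vm]; exact vq pr5
  have c3 : V * U = U * V := by rw [hU, hV, vm, vm]; exact (vq prc).symm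
  have sc : ∀ {g}, g ∈ Q → g * s = s * g := fun hg => hQC _ hg
  have c5 : V * (x * U * x⁻¹) = s * (x * U * x⁻¹ * V) := by rw [e5, ← mul_assoc s s, R.ss, one_mul]
  have c6 : x * V * x⁻¹ * U = s * (U * (x * V * x⁻¹)) := by
    have hUd : U = x * U * x⁻¹ * (x * (x * U * x⁻¹) * x⁻¹) := by
      rw [Ut, ← mul_assoc, Uc, mul_assoc, show x * U * x⁻¹ * (x * U * x⁻¹) = x * (U * U) * x⁻¹ by group, UU]; group
    have h4 := cc c3
    have e1 : x * V * x⁻¹ * (x * (x * U * x⁻¹) * x⁻¹) = s * (x * (x * U * x⁻¹) * x⁻¹ * (x * V * x⁻¹)) := by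
      calc _ = x * (V * (x * U * x⁻¹)) * x⁻¹ := by group
        _ = x * s * x⁻¹ * (x * (x * U * x⁻¹ * V) * x⁻¹) := by rw [c5]; group
        _ = _ := by rw [H.fix]; group
    conv_lhs => rw [hUd]
    rw [← mul_assoc, h4, mul_assoc, e1, ← mul_assoc (x * U * x⁻¹) s, sc (H.norm _ hUQ), mul_assoc s, ← mul_assoc (x * U * x⁻¹),
      ← hUd]
  have R' : QRel s U (x * U * x⁻¹) V (x * V * x⁻¹) :=
    ⟨H.ne, R.ss, UU, by rw [show x * U * x⁻¹ * (x * U * x⁻¹) = x * (U * U) * x⁻¹ by group, UU]; group, VV,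
      by rw [show x * V * x⁻¹ * (x * V * x⁻¹) = x * (V * V) * x⁻¹ by group, VV]; group,
      sc hUQ, sc (H.norm _ hUQ), sc hVQ, sc (H.norm _ hVQ), Uc, Vc, c3, cc c3, c5, c6⟩
  obtain ⟨inj', surj'⟩ := H.qVal_bij hUQ hVQ R'
  set Φ := qVal s U (x * U * x⁻¹) V (x * V * x⁻¹) with hΦ
  have w0 : Φ 0 = 1 := by simp [hΦ, qVal, qBit]
  have w1 : Φ 1 = s := by simp [hΦ, qVal, qBit]
  have w2 : Φ 2 = U := by simp [hΦ, qVal, qBit]
  have w4 : Φ 4 = x * U * x⁻¹ := by simp [hΦ, qVal, qBit]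
  have w8 : Φ 8 = V := by simp [hΦ, qVal, qBit]
  have w16 : Φ 16 = x * V * x⁻¹ := by simp [hΦ, qVal, qBit]
  have hX' : ∀ q, Φ (qX q) = x * Φ q * x⁻¹ := by
    intro q
    refine qSub_eval R' (MulAut.conj x).toMonoidHom ?_ ?_ ?_ ?_ ?_ q <;>
      simp only [MulEquiv.coe_toMonoidHom, MulAut.conj_apply, ← hΦ]
    · rw [w1, H.fix]
    · rw [w4]
    · rw [show (6 : ℕ) = qMul 2 4 by rfl, hΦ, ← R'.mul, ← hΦ, w2, w4, Ut]
    · rw [w16]
    · rw [show (24 : ℕ) = qMul 8 16 by rfl, hΦ, ← R'.mul, ← hΦ, w8, w16, Vt]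
  have hxi : x * x = x⁻¹ := eq_inv_of_mul_eq_one_left H.cube
  have hXi' : ∀ q, Φ (qXi q) = x⁻¹ * Φ q * x := by
    intro q
    rw [qXi, hX', hX']
    calc x * (x * Φ q * x⁻¹) * x⁻¹ = x * x * Φ q * (x * x)⁻¹ := by group
      _ = _ := by rw [hxi, inv_inv]
  obtain ⟨sw, hU', hV'⟩ : ∃ sw : Bool, τ * U * τ⁻¹ = (bif sw then V else U) ∧ τ * V * τ⁻¹ = (bif sw then U else V) := by
    rcases htype with ⟨h1, h2⟩ | ⟨h1, h2⟩
    · exact ⟨false, by rw [hU, ← hT, h1]; rfl, by rw [hV, ← hT, h2]; rfl⟩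
    · exact ⟨true, by rw [hU, ← hT, h1]; rfl, by rw [hV, ← hT, h2]; rfl⟩
  have hT' : ∀ q, Φ (qTs sw q) = τ * Φ q * τ⁻¹ := by
    intro q
    cases sw <;> simp only [qTs, cond_true, cond_false] at hU' hV' ⊢ <;>
      refine qSub_eval R' (MulAut.conj τ).toMonoidHom ?_ ?_ ?_ ?_ ?_ q <;>
      simp only [MulEquiv.coe_toMonoidHom, MulAut.conj_apply, ← hΦ] <;>
      simp only [w1, w2, w8, hXi', hxτ, hτs', hU', hV']
  obtain ⟨e, he⟩ : ∃ e : Bool, τ * τ = if e then s else 1 := by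
    rcases hτ2 with h | h
    · exact ⟨false, h⟩
    · exact ⟨true, h⟩
  let ψ : ℕ → G := fun c => Φ (c % 32) * x ^ (c / 32 % 3) * τ ^ (c / 96 % 2)
  have hψ : ∀ q i j, q < 32 → i < 3 → j < 2 → ψ (q + 32 * i + 96 * j) = Φ q * x ^ i * τ ^ j := by
    intro q i j hq hi hj
    simp only [ψ]
    rw [show (q + 32 * i + 96 * j) % 32 = q by omega, show (q + 32 * i + 96 * j) / 32 % 3 = i by omega,
      show (q + 32 * i + 96 * j) / 96 % 2 = j by omega]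
  have hτC : τ ∈ centralizer ({s} : Set G) := mem_centralizer_singleton_iff.2 hτs
  have hxC : x ∈ centralizer ({s} : Set G) := mem_centralizer_singleton_iff.2 (mul_inv_eq_iff_eq_mul.1 H.fix)
  have hmem : ∀ c, ψ c ∈ centralizer ({s} : Set G) := fun c =>
    mul_mem (mul_mem (mem_centralizer_singleton_iff.2 (hQC _ (H.qVal_mem hUQ hVQ _))) (pow_mem hxC _)) (pow_mem hτC _)
  have hsurj : ∀ g ∈ centralizer ({s} : Set G), ∃ c < 192, ψ c = g := by
    intro g hg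
    obtain ⟨a, ha, i, hi, j, hj, rfl⟩ := hcover g hg
    obtain ⟨q, hq, rfl⟩ := surj' a ha
    exact ⟨q + 32 * i + 96 * j, by omega, hψ q i j hq hi hj⟩
  have x3 : ∀ n, x ^ (n % 3) = x ^ n := fun n => by
    conv_rhs => rw [← Nat.div_add_mod n 3, pow_add, pow_mul, pow_succ, pow_two, H.cube, one_pow, one_mul]
  refine ⟨sw, e, ψ, ⟨hord, fun c _ => hmem c, fun c hc d hd => ?_, fun c hc d hd h => ?_, hsurj, ?_⟩, fun a ha => ?_⟩
  · obtain ⟨q₁, eq₁⟩ : ∃ n, c % 32 = n := ⟨_, rfl⟩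
    obtain ⟨i₁, ei₁⟩ : ∃ n, c / 32 % 3 = n := ⟨_, rfl⟩
    obtain ⟨j₁, ej₁⟩ : ∃ n, c / 96 % 2 = n := ⟨_, rfl⟩
    obtain ⟨q₂, eq₂⟩ : ∃ n, d % 32 = n := ⟨_, rfl⟩
    obtain ⟨i₂, ei₂⟩ : ∃ n, d / 32 % 3 = n := ⟨_, rfl⟩
    obtain ⟨j₂, ej₂⟩ : ∃ n, d / 96 % 2 = n := ⟨_, rfl⟩
    have hq₁ : q₁ < 32 := eq₁ ▸ Nat.mod_lt _ (by norm_num)
    have hq₂ : q₂ < 32 := eq₂ ▸ Nat.mod_lt _ (by norm_num)
    have hj₁ : j₁ < 2 := ej₁ ▸ Nat.mod_lt _ (by norm_num)
    have hj₂ : j₂ < 2 := ej₂ ▸ Nat.mod_lt _ (by norm_num)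
    have hi₁ : i₁ < 3 := ei₁ ▸ Nat.mod_lt _ (by norm_num)
    have hTl : (if j₁ = 1 then qTs sw q₂ else q₂) < 32 := by
      split
      · cases sw
        · exact (qTs_lt q₂ hq₂).2
        · exact (qTs_lt q₂ hq₂).1
      · exact hq₂
    have hXpl : qXp i₁ (if j₁ = 1 then qTs sw q₂ else q₂) < 32 := by
      unfold qXp
      by_cases h1 : i₁ = 1
      · rw [if_pos h1]; exact (qX_lt _ hTl).1
      · rw [if_neg h1]
        by_cases h2 : i₁ = 2
        · rw [if_pos h2]; exact (qX_lt _ hTl).2.1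
        · rw [if_neg h2]; exact hTl
    have hXp : ∀ q, Φ (qXp i₁ q) = x ^ i₁ * Φ q * (x ^ i₁)⁻¹ := by
      intro q
      interval_cases i₁
      · simp [qXp]
      · simp [qXp, hX']
      · simp only [qXp, if_neg (show ¬ (2 : ℕ) = 1 by norm_num), if_true, hXi', pow_two, hxi, inv_inv]
    have hlast : qMul (qMul q₁ (qXp i₁ (if j₁ = 1 then qTs sw q₂ else q₂)))
        (if e = true ∧ j₁ = 1 ∧ j₂ = 1 then 1 else 0) < 32 :=
      qMul_lt _ (qMul_lt _ hq₁ _ hXpl) _ (by split <;> norm_num)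
    show Φ (c % 32) * x ^ (c / 32 % 3) * τ ^ (c / 96 % 2) * (Φ (d % 32) * x ^ (d / 32 % 3) * τ ^ (d / 96 % 2)) =
      ψ (lMul sw e c d)
    rw [lMul, eq₁, ei₁, ej₁, eq₂, ei₂, ej₂,
      hψ _ _ _ hlast (Nat.mod_lt _ (by norm_num)) (Nat.mod_lt _ (by norm_num)), x3]
    rw [show Φ (qMul (qMul q₁ (qXp i₁ (if j₁ = 1 then qTs sw q₂ else q₂))) (if e = true ∧ j₁ = 1 ∧ j₂ = 1 then 1 else 0)) =
      Φ q₁ * Φ (qXp i₁ (if j₁ = 1 then qTs sw q₂ else q₂)) * Φ (if e = true ∧ j₁ = 1 ∧ j₂ = 1 then 1 else 0) by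
        simp only [hΦ, R'.mul], hXp]
    have scx : ∀ n, s * x ^ n = x ^ n * s := fun n =>
      ((show Commute s x from (mul_inv_eq_iff_eq_mul.1 H.fix).symm).pow_right n).eq
    obtain h1 | h1 : j₁ = 0 ∨ j₁ = 1 := by omega
    · simp only [h1, zero_ne_one, and_false, false_and, if_false, w0, pow_zero, mul_one, zero_add]
      rw [pow_add, show j₂ % 2 = j₂ by omega]
      group
    · have hxτ2 : ∀ n, τ * x ^ n * τ⁻¹ = x ^ (2 * n) := fun n => by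
        rw [← conj_pow, hτx, pow_mul, pow_two, hxi]
      simp only [h1, if_true, pow_one, hT', true_and]
      obtain h2 | h2 : j₂ = 0 ∨ j₂ = 1 := by omega
      · simp only [h2, zero_ne_one, and_false, if_false, w0, mul_one, pow_zero, add_zero]
        rw [pow_add, ← hxτ2 i₂]
        group
      · simp only [h2, and_true, pow_one]
        rw [pow_add, ← hxτ2 i₂, show (1 + 1) % 2 = 0 from rfl, pow_zero, mul_one]
        cases e <;> simp only [Bool.false_eq_true, if_false, if_true] at he ⊢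
        · rw [w0]
          calc Φ q₁ * x ^ i₁ * τ * (Φ q₂ * x ^ i₂ * τ) =
              Φ q₁ * (x ^ i₁ * (τ * Φ q₂ * τ⁻¹) * (x ^ i₁)⁻¹) * (x ^ i₁ * (τ * x ^ i₂ * τ⁻¹)) * (τ * τ) := by group
            _ = _ := by rw [he]; group
        · rw [w1]
          calc Φ q₁ * x ^ i₁ * τ * (Φ q₂ * x ^ i₂ * τ) =
              Φ q₁ * (x ^ i₁ * (τ * Φ q₂ * τ⁻¹) * (x ^ i₁)⁻¹) * (x ^ i₁ * (τ * x ^ i₂ * τ⁻¹)) * (τ * τ) := by group
            _ = Φ q₁ * (x ^ i₁ * (τ * Φ q₂ * τ⁻¹) * (x ^ i₁)⁻¹) * (x ^ i₁ * (τ * x ^ i₂ * τ⁻¹) * s) := by rw [he]; group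
            _ = _ := by
              rw [hxτ2, ← pow_add, ← scx]
              group
  · let F : Fin 192 → centralizer ({s} : Set G) := fun c => ⟨ψ c, hmem c⟩
    have hF : Function.Surjective F := fun g => by
      obtain ⟨c, hc, ec⟩ := hsurj g g.2
      exact ⟨⟨c, hc⟩, Subtype.ext ec⟩
    have := (hF.bijective_of_nat_card_le (by rw [hcard, Nat.card_fin])).1
    exact congrArg Fin.val (@this ⟨c, hc⟩ ⟨d, hd⟩ (Subtype.ext h))
  · show Φ 1 * x ^ 0 * τ ^ 0 = s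
    rw [w1, pow_zero, pow_zero, mul_one, mul_one]
  · obtain ⟨q, hq, rfl⟩ := surj' a ha
    refine ⟨q, hq, ?_⟩
    simpa using hψ q 0 0 hq (by norm_num) (by norm_num)

end QHyp

end CfsgLib.Spor.ExtraSymThree
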